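import Mathlib

/-!
# An involution inverting an element of odd prime order on an elementary abelian two-group

If it moves only few elements, the inverted element moves few as well, so its order is small.
-/

set_option autoImplicit false
set_option linter.unusedSectionVars false
set_option linter.style.haveILetI false

namespace CfsgLib.InvChar.SecNineOpen

universe u

variable {X : Type u} [CommGroup X]

/-- `x ↦ φ x / x`. -/
def mv (φ : MulAut X) : X →* X where
  toFun x := φ x * x⁻¹
  map_one' := by simp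
  map_mul' x y := by
    rw [map_mul, mul_inv]
    exact mul_mul_mul_comm _ _ _ _

theorem mv_apply (φ : MulAut X) (x : X) : mv φ x = φ x * x⁻¹ := rfl

theorem mem_ker_mv (φ : MulAut X) (x : X) : x ∈ (mv φ).ker ↔ φ x = x := by
  rw [MonoidHom.mem_ker, mv_apply, mul_inv_eq_one]

theorem card_ker_mul_range [Finite X] (φ : MulAut X) :
    Nat.card (mv φ).ker * Nat.card (mv φ).range = Nat.card X := by
  rw [← Nat.card_congr (QuotientGroup.quotientKerEquivRange (mv φ)).toEquiv, mul_comm]
  exact (Subgroup.card_eq_card_quotient_mul_card_subgroup _).symm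

theorem card_range_eq_one [Finite X] (φ : MulAut X) (h : Nat.card (mv φ).range = 1) : φ = 1 := by
  ext x
  have : mv φ x ∈ (mv φ).range := ⟨x, rfl⟩
  rw [Subgroup.card_eq_one.1 h, Subgroup.mem_bot, mv_apply, mul_inv_eq_one] at this
  exact this

/-- What an inverted element of order `q` looks like on `X`. -/
structure Inverts (q : ℕ) (a f : MulAut X) : Prop where
  exp : ∀ x : X, x * x = 1
  prime : q.Prime
  five : 5 ≤ q
  inv : a * a = 1
  pow : f ^ q = 1
  ne : f ≠ 1
  rel : a * f * a = f⁻¹

namespace Inverts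

variable [Finite X] {q : ℕ} {a f : MulAut X}

theorem self_inv (h : Inverts q a f) (x : X) : x⁻¹ = x := inv_eq_of_mul_eq_one_right (h.exp x)

theorem pow_odd (h : Inverts q a f) (x : X) : x ^ q = x := by
  obtain ⟨r, hr⟩ := h.prime.odd_of_ne_two (by have := h.five; omega)
  rw [hr, pow_succ, pow_mul, sq, h.exp, one_pow, one_mul]

/-- The two moved and fixed parts meet trivially. -/
theorem inf_eq_bot (h : Inverts q a f) : (mv f).ker ⊓ (mv f).range = ⊥ := by
  rw [eq_bot_iff]
  rintro y ⟨hy, x, rfl⟩
  have hy' : f (mv f x) = mv f x := (mem_ker_mv f _).1 hy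
  have key : ∀ n : ℕ, (f ^ n) x = (mv f x) ^ n * x := by
    intro n
    induction n with
    | zero => simp
    | succ n ih =>
      rw [pow_succ', MulAut.mul_apply, ih, map_mul, map_pow, hy', pow_succ, mul_assoc]
      congr 1
      rw [mv_apply, inv_mul_cancel_right]
  have h1 := key q
  rw [h.pow, MulAut.one_apply, h.pow_odd] at h1
  exact Subgroup.mem_bot.2 (mul_eq_right.1 h1.symm)

/-- The number of moved elements is at most the square of the index of the fixed points of `a`. -/
theorem card_range_le (h : Inverts q a f) :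
    Nat.card (mv f).range ≤ Nat.card (mv a).range * Nat.card (mv a).range := by
  have hd : Subgroup.map f.toMonoidHom (mv a).ker ⊓ (mv a).ker ≤ (mv f).ker := by
    rintro _ ⟨⟨x, hx, rfl⟩, hfx⟩
    rw [mem_ker_mv]
    have hax : a x = x := (mem_ker_mv a x).1 hx
    have hafx : a (f x) = f x := (mem_ker_mv a _).1 hfx
    have h1 : (f⁻¹ : MulAut X) x = f x := by
      rw [← h.rel, MulAut.mul_apply, MulAut.mul_apply, hax, hafx]
    have h2 : (f ^ 2) x = x := by
      rw [sq, MulAut.mul_apply, ← h1, MulAut.apply_inv_self]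
    obtain ⟨r, hr⟩ := h.prime.odd_of_ne_two (by have := h.five; omega)
    have h3 : ∀ n : ℕ, (f ^ (2 * n)) x = x := by
      intro n
      induction n with
      | zero => simp
      | succ n ih => rw [mul_add, mul_one, pow_add, MulAut.mul_apply, h2, ih]
    have h4 : f x = x := by
      have := DFunLike.congr_fun h.pow x
      rw [MulAut.one_apply, hr, pow_succ', MulAut.mul_apply, h3 r] at this
      exact this
    show f (f x) = f x
    rw [h4, h4]
  have hi : ((mv a).ker).index = Nat.card (mv a).range := Subgroup.index_ker _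
  have hi' : (Subgroup.map f.toMonoidHom (mv a).ker).index = Nat.card (mv a).range := by
    rw [Subgroup.index_map_of_bijective (f := f.toMonoidHom) f.bijective, hi]
  have h1 : (Subgroup.map f.toMonoidHom (mv a).ker ⊓ (mv a).ker).index ≤
      Nat.card (mv a).range * Nat.card (mv a).range :=
    Subgroup.index_inf_le.trans (by rw [hi, hi'])
  refine le_trans ?_ h1
  rw [← Subgroup.index_ker]
  exact Nat.le_of_dvd (Nat.pos_of_ne_zero Subgroup.index_ne_zero_of_finite)
    (Subgroup.index_dvd_of_le hd)

/-- `f` acts without fixed points on the moved part, so `q` divides its order less one. -/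
theorem dvd_card_range (h : Inverts q a f) : Nat.card (mv f).range % q = 1 := by
  classical
  haveI := Fact.mk h.prime
  haveI := Fintype.ofFinite ↥(mv f).range
  let g : Function.End ↥(mv f).range := fun y => ⟨f y, by
    obtain ⟨x, hx⟩ := y.2
    exact ⟨f x, by rw [← hx, mv_apply, mv_apply, map_mul, map_inv]⟩⟩
  have hg : ∀ (n : ℕ) (y : ↥(mv f).range), ((g ^ n) y : X) = (f ^ n) y := by
    intro n
    induction n with
    | zero => intro y; rfl
    | succ n ih =>
      intro y
      rw [pow_succ', pow_succ']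
      show f ((g ^ n) y : X) = f ((f ^ n) y)
      rw [ih]
  have hgq : g ^ q ^ 1 = 1 := funext fun y => Subtype.ext (by
    rw [pow_one, hg, h.pow]; rfl)
  have h1 := Equiv.Perm.card_fixedPoints_modEq hgq
  have hfix : Fintype.card (Function.fixedPoints g) = 1 := by
    refine Fintype.card_eq_one_iff.2 ⟨⟨1, Subtype.ext (map_one f)⟩, fun y => ?_⟩
    have hy : f ((y.1 : ↥(mv f).range) : X) = ((y.1 : ↥(mv f).range) : X) :=
      congrArg Subtype.val y.2
    have : ((y.1 : ↥(mv f).range) : X) ∈ (mv f).ker ⊓ (mv f).range :=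
      ⟨(mem_ker_mv f _).2 hy, y.1.2⟩
    rw [h.inf_eq_bot, Subgroup.mem_bot] at this
    exact Subtype.ext (Subtype.ext this)
  rw [hfix] at h1
  rw [Nat.card_eq_fintype_card, h1, Nat.one_mod_eq_one]
  exact h.prime.one_lt.ne'

theorem invol (h : Inverts q a f) (z : X) : a (a z) = z :=
  DFunLike.congr_fun h.inv z

theorem card_range_ne_one (h : Inverts q a f) : Nat.card (mv f).range ≠ 1 :=
  fun e => h.ne (card_range_eq_one f e)

theorem apply_range (h : Inverts q a f) {y : X} (hy : y ∈ (mv f).range) : a y ∈ (mv f).range := by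
  obtain ⟨x, rfl⟩ := hy
  have e : ∀ z, a (f z) = (f⁻¹ : MulAut X) (a z) := fun z => by
    rw [← h.rel, MulAut.mul_apply, MulAut.mul_apply, h.invol]
  refine ⟨((f⁻¹ : MulAut X) (a x))⁻¹, ?_⟩
  rw [mv_apply, mv_apply, map_inv, inv_inv, map_mul, map_inv, e, MulAut.apply_inv_self, mul_comm]

/-- The moved part has square order: `a` fixes exactly its square root there. -/
theorem range_structure (h : Inverts q a f) :
    ∃ m : ℕ, Nat.card (mv f).range = m * m ∧
      Nat.card ↥((mv f).range.map (mv a)) = m ∧ (mv f).range.map (mv a) ≤ (mv f).range := by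
  set Y := (mv f).range with hY
  set C := Y ⊓ (mv a).ker with hC
  have hYY : Y.map (mv a) ≤ C := by
    rintro _ ⟨y, hy, rfl⟩
    refine ⟨Y.mul_mem (h.apply_range hy) (Y.inv_mem hy), (mem_ker_mv a _).2 ?_⟩
    rw [mv_apply, map_mul, map_inv, h.invol, h.self_inv,
      h.self_inv, mul_comm]
  have hcard : Nat.card C * Nat.card ↥(Y.map (mv a)) = Nat.card Y := by
    have h1 := Subgroup.card_eq_card_quotient_mul_card_subgroup ((mv a).comp Y.subtype).ker
    rw [Nat.card_congr (QuotientGroup.quotientKerEquivRange _).toEquiv] at h1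
    have h2 : ((mv a).comp Y.subtype).range = Y.map (mv a) := by
      rw [MonoidHom.range_comp, Subgroup.range_subtype]
    have h3 : Nat.card ↥((mv a).comp Y.subtype).ker = Nat.card C := by
      rw [← MonoidHom.comap_ker, ← Subgroup.subgroupOf,
        ← Subgroup.card_map_of_injective Y.subtype_injective,
        Subgroup.subgroupOf_map_subtype, hC, inf_comm]
    rw [h2, h3] at h1
    rw [h1, mul_comm]
  -- the fixed points meet their image under `f` trivially
  have hd : C.map f.toMonoidHom ⊓ C = ⊥ := by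
    rw [eq_bot_iff]
    rintro _ ⟨⟨x, hx, rfl⟩, hfx⟩
    rw [Subgroup.mem_bot]
    have hax : a x = x := (mem_ker_mv a x).1 hx.2
    have hafx : a (f x) = f x := (mem_ker_mv a _).1 hfx.2
    have h1 : (f⁻¹ : MulAut X) x = f x := by
      rw [← h.rel, MulAut.mul_apply, MulAut.mul_apply, hax, hafx]
    have h2 : (f ^ 2) x = x := by
      rw [sq, MulAut.mul_apply, ← h1, MulAut.apply_inv_self]
    obtain ⟨r, hr⟩ := h.prime.odd_of_ne_two (by have := h.five; omega)
    have h3 : ∀ n : ℕ, (f ^ (2 * n)) x = x := by
      intro n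
      induction n with
      | zero => simp
      | succ n ih => rw [mul_add, mul_one, pow_add, MulAut.mul_apply, h2, ih]
    have h4 : f x = x := by
      have := DFunLike.congr_fun h.pow x
      rw [MulAut.one_apply, hr, pow_succ', MulAut.mul_apply, h3 r] at this
      exact this
    have h5 : x ∈ (mv f).ker ⊓ (mv f).range := ⟨(mem_ker_mv f x).2 h4, hx.1⟩
    rw [h.inf_eq_bot, Subgroup.mem_bot] at h5
    rw [h5, map_one]
  have hfC : C.map f.toMonoidHom ≤ Y := by
    rintro _ ⟨x, hx, rfl⟩
    obtain ⟨z, hz⟩ := hx.1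
    refine ⟨f z, ?_⟩
    show mv f (f z) = f x
    rw [← hz, mv_apply, mv_apply, map_mul, map_inv]
  have hsq : Nat.card C * Nat.card C ≤ Nat.card Y := by
    let g : C.map f.toMonoidHom × C → Y := fun p => ⟨(p.1 : X) * p.2, Y.mul_mem (hfC p.1.2) p.2.2.1⟩
    have hinj : Function.Injective g := by
      rintro ⟨u, v⟩ ⟨u', v'⟩ e
      have e' : (u : X) * v = u' * v' := congrArg Subtype.val e
      have h6 : (u' : X)⁻¹ * u = v' * (v : X)⁻¹ := by
        rw [eq_mul_inv_iff_mul_eq, mul_assoc, e', inv_mul_cancel_left]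
      have h7 : (u' : X)⁻¹ * u ∈ C.map f.toMonoidHom ⊓ C :=
        ⟨Subgroup.mul_mem _ (Subgroup.inv_mem _ u'.2) u.2,
          h6 ▸ C.mul_mem v'.2 (C.inv_mem v.2)⟩
      rw [hd, Subgroup.mem_bot] at h7
      have h8 : u = u' := Subtype.ext (inv_mul_eq_one.1 h7).symm
      subst h8
      exact Prod.ext rfl (Subtype.ext (mul_left_cancel e'))
    have := Nat.card_le_card_of_injective g hinj
    rwa [Nat.card_prod, Subgroup.card_map_of_injective f.injective] at this
  have hle : Nat.card ↥(Y.map (mv a)) ≤ Nat.card C := Subgroup.card_le_of_le hYY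
  have hge : Nat.card C ≤ Nat.card ↥(Y.map (mv a)) := by
    by_contra hlt
    push Not at hlt
    have := Nat.mul_lt_mul_of_pos_left hlt (Nat.card_pos (α := C))
    omega
  refine ⟨Nat.card C, ?_, le_antisymm hle hge, hYY.trans inf_le_left⟩
  rw [← hcard, le_antisymm hle hge]

theorem dichotomy (h : Inverts q a f) (ha : Nat.card (mv a).range ≤ 4) :
    q = 5 ∧ Nat.card (mv f).range = 16 ∧ Nat.card (mv a).range = 4 ∧
      (mv a).range ≤ (mv f).range := by
  obtain ⟨m, hm, hma, hle⟩ := h.range_structure
  have h1 := h.dvd_card_range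
  have h2 := h.card_range_ne_one
  rw [hm] at h1 h2
  have hsub : (mv f).range.map (mv a) ≤ (mv a).range := Subgroup.map_le_range _ _
  have h3 : m ≤ 4 := hma ▸ (Subgroup.card_le_of_le hsub).trans ha
  have hpos : 0 < m := hma ▸ Nat.card_pos
  have hq := h.five
  have hdvd : m * m % q = 1 := h1
  interval_cases m
  · exact absurd rfl h2
  · rw [Nat.mod_eq_of_lt (by omega)] at hdvd; omega
  · exfalso
    rcases (show q = 5 ∨ q = 6 ∨ q = 7 ∨ q = 8 ∨ q = 9 ∨ 10 ≤ q by omega) with
      e | e | e | e | e | e
    · subst e; norm_num at hdvd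
    · subst e; norm_num at hdvd
    · subst e; norm_num at hdvd
    · subst e; exact absurd h.prime (by norm_num)
    · subst e; norm_num at hdvd
    · rw [Nat.mod_eq_of_lt (by omega)] at hdvd; omega
  · have h4 : Nat.card (mv a).range = 4 := le_antisymm ha (hma ▸ Subgroup.card_le_of_le hsub)
    refine ⟨?_, by rw [hm], h4, ?_⟩
    · have hd : q ∣ 15 := by
        have := Nat.dvd_sub_mod (n := q) 16
        rwa [show (16 : ℕ) = 4 * 4 from rfl, hdvd] at this
      have := Nat.le_of_dvd (by norm_num) hd
      interval_cases q <;>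
        first
        | rfl
        | omega
        | exact absurd h.prime (by norm_num)
        | norm_num at hd
    · rw [← Subgroup.eq_of_le_of_card_ge hsub (by rw [hma, h4])]
      exact hle

theorem not_small (h : Inverts q a f) : ¬ Nat.card (mv a).range ≤ 2 := fun ha => by
  have := (h.dichotomy (ha.trans (by norm_num))).2.2.1
  omega

/-- A second involution centralising `f` moves no element of the moved part. -/
theorem no_second (h : Inverts q a f) (ha : Nat.card (mv a).range ≤ 4) {b : MulAut X}
    (hb : Nat.card (mv b).range ≤ 4) (hbf : b * f = f * b) {v : X} (hva : v ∈ (mv a).range)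
    (hvb : v ∈ (mv b).range) : v = 1 := by
  obtain ⟨-, h16, -, hle⟩ := h.dichotomy ha
  set Y := (mv f).range with hY
  have hf1 : ∀ z, f ((mv b) z) = mv b (f z) := fun z => by
    rw [mv_apply, mv_apply, map_mul, map_inv]
    congr 1
    exact (DFunLike.congr_fun hbf z).symm
  -- `[Y, b]` is stable and free of fixed points, and has at most four elements
  have hbY : Y.map (mv b) ≤ Y := by
    rintro _ ⟨_, ⟨x, rfl⟩, rfl⟩
    refine ⟨mv b x, ?_⟩
    rw [mv_apply f, hf1, mv_apply f, map_mul, map_inv]
  have hone : Y.map (mv b) = ⊥ := by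
    by_contra hne
    classical
    haveI := Fact.mk h.prime
    haveI := Fintype.ofFinite ↥(Y.map (mv b))
    let g : Function.End ↥(Y.map (mv b)) := fun y => ⟨f y, by
      obtain ⟨z, hz, hzy⟩ := y.2
      refine ⟨f z, ?_, by rw [← hf1, hzy]⟩
      obtain ⟨x, rfl⟩ := hz
      exact ⟨f x, by rw [mv_apply, mv_apply, map_mul, map_inv]⟩⟩
    have hg : ∀ (n : ℕ) (y : ↥(Y.map (mv b))), ((g ^ n) y : X) = (f ^ n) y := by
      intro n
      induction n with
      | zero => intro y; rfl
      | succ n ih =>
        intro y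
        rw [pow_succ', pow_succ']
        show f ((g ^ n) y : X) = f ((f ^ n) y)
        rw [ih]
    have hgq : g ^ q ^ 1 = 1 := funext fun y => Subtype.ext (by
      rw [pow_one, hg, h.pow]; rfl)
    have h1 := Equiv.Perm.card_fixedPoints_modEq hgq
    have hfix : Fintype.card (Function.fixedPoints g) = 1 := by
      refine Fintype.card_eq_one_iff.2 ⟨⟨1, Subtype.ext (map_one f)⟩, fun y => ?_⟩
      have hy : f ((y.1 : ↥(Y.map (mv b))) : X) = ((y.1 : ↥(Y.map (mv b))) : X) :=
        congrArg Subtype.val y.2
      have : ((y.1 : ↥(Y.map (mv b))) : X) ∈ (mv f).ker ⊓ (mv f).range :=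
        ⟨(mem_ker_mv f _).2 hy, hbY y.1.2⟩
      rw [h.inf_eq_bot, Subgroup.mem_bot] at this
      exact Subtype.ext (Subtype.ext this)
    rw [hfix, ← Nat.card_eq_fintype_card, Nat.ModEq, Nat.one_mod_eq_one.2 h.prime.one_lt.ne'] at h1
    have h4 : Nat.card ↥(Y.map (mv b)) ≤ 4 :=
      (Subgroup.card_le_of_le (Subgroup.map_le_range _ _)).trans hb
    rw [Nat.mod_eq_of_lt (by have := h.five; omega)] at h1
    exact hne (Subgroup.card_eq_one.1 h1)
  obtain ⟨x, hx⟩ := hvb
  -- `v = [x, b]` is fixed by `f`, being the commutator of a fixed element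
  have hfv : f v = v := by
    have hy : mv b (mv f x) = 1 := by
      have : mv b (mv f x) ∈ Y.map (mv b) := ⟨mv f x, ⟨x, rfl⟩, rfl⟩
      rwa [hone, Subgroup.mem_bot] at this
    rw [mv_apply f, map_mul, map_inv, ← hf1, hx, mul_inv_eq_one] at hy
    exact hy
  have : v ∈ (mv f).ker ⊓ (mv f).range := ⟨(mem_ker_mv f v).2 hfv, hle hva⟩
  rwa [h.inf_eq_bot, Subgroup.mem_bot] at this

end Inverts

end CfsgLib.InvChar.SecNineOpen
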