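import Cfsg.Agent.Lib.InvChar.SecNineOpen.Member

/-!
# A large maximal invariant two-subgroup of index at most two in a Sylow subgroup

When every maximal two-subgroup normalised by an element of order three has order above four, its
shape is fixed, no element of order `q` centralises such a group, and outer elements of the Sylow
subgroup move its centre as much as possible.
-/

set_option autoImplicit false
set_option linter.unusedSectionVars false
set_option linter.style.haveILetI false

namespace CfsgLib.InvChar.SecNineOpen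

open Subgroup
open scoped commutatorElement

universe u

variable {G : Type u} [Group G] [Finite G] {q : ℕ}

/-- The fixed configuration. -/
structure Big (q : ℕ) (k : G) (T : Sylow 2 G) (P : Subgroup G) : Prop where
  setup : Setup G q
  ord : orderOf k = 3
  max : MaxTwo k P
  le : P ≤ (T : Subgroup G)
  shape : (T : Subgroup G) = P ∨ (P.relIndex (T : Subgroup G) = 2 ∧
    ∃ τ ∈ (T : Subgroup G), τ ∉ P ∧ τ * τ = 1 ∧ τ * k * τ⁻¹ = k⁻¹)
  large : ∀ k' : G, orderOf k' = 3 → ∀ P' : Subgroup G, MaxTwo k' P' → 4 < Nat.card P'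

theorem exists_big (S : Setup G q)
    (hlarge : ∀ k' : G, orderOf k' = 3 → ∀ P' : Subgroup G, MaxTwo k' P' → 4 < Nat.card P')
    {k : G} (hk : orderOf k = 3) {P : Subgroup G} (hP : MaxTwo k P) :
    ∃ T : Sylow 2 G, Big q k T P := by
  rcases hP.shape S hk with ⟨T, hT⟩ | ⟨T, τ, hle, hi, hτ, hτP, hττ, hτk⟩ | h4
  · exact ⟨T, S, hk, hP, hT.ge, Or.inl hT, hlarge⟩
  · exact ⟨T, S, hk, hP, hle, Or.inr ⟨hi, τ, hτ, hτP, hττ, hτk⟩, hlarge⟩
  · exact absurd h4 (not_le.2 (hlarge k hk P hP))

/-- No element of order `q` centralises an invariant two-subgroup. -/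
theorem mixed (S : Setup G q)
    (hlarge : ∀ k' : G, orderOf k' = 3 → ∀ P' : Subgroup G, MaxTwo k' P' → 4 < Nat.card P')
    {k : G} (hk : orderOf k = 3) {X : Subgroup G}
    (hX : IsPGroup 2 X) (hkX : k ∈ normalizer (X : Set G)) (hX1 : X ≠ ⊥) {y : G}
    (hy : y ∈ centralizer (X : Set G)) (hyo : orderOf y = q) : False := by
  obtain ⟨P, hP, -, hnT⟩ := exists_maxTwo_of_centralized S hk hX hkX hX1 hy hyo
  rcases hP.shape S hk with ⟨T, hT⟩ | ⟨T, τ, hle, hi, -⟩ | h4
  · exact hnT T (hT.le.trans le_normalizer)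
  · exact hnT T (le_normalizer_of_relIndex_two hle hi)
  · exact absurd h4 (not_le.2 (hlarge k hk P hP))

namespace Big

variable {k : G} {T : Sylow 2 G} {P : Subgroup G}

theorem cubic (B : Big q k T P) : Cubic k P := B.setup.cubic B.ord B.max.two B.max.norm

theorem le_normalizer (B : Big q k T P) : (T : Subgroup G) ≤ normalizer (P : Set G) := by
  rcases B.shape with h | ⟨h, -⟩
  · exact h.le.trans Subgroup.le_normalizer
  · exact le_normalizer_of_relIndex_two B.le h

theorem relIndex_le (B : Big q k T P) : P.relIndex (T : Subgroup G) ≤ 2 := by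
  rcases B.shape with h | ⟨h, -⟩
  · rw [h, relIndex_self]; norm_num
  · exact h.le

theorem sixteen_le (B : Big q k T P) : 16 ≤ Nat.card P := by
  haveI := Fact.mk Nat.prime_two
  obtain ⟨n, hn⟩ := IsPGroup.iff_card.1 B.max.two
  have h3 := B.cubic.card_mod
  have h4 := B.large k B.ord P B.max
  rw [hn] at h3 h4 ⊢
  rcases n with _ | _ | _ | _ | n
  · norm_num at h4
  · norm_num at h4
  · norm_num at h4
  · norm_num at h3
  · exact Nat.pow_le_pow_right (by norm_num : 0 < 2) (by omega : 4 ≤ n + 1 + 1 + 1 + 1)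

/-- Inside a `{2, q}`-subgroup above `T`, what normalises an invariant two-subgroup is `T`. -/
theorem local_two (B : Big q k T P) {X : Subgroup G} (hX : IsPGroup 2 X) (hX1 : X ≠ ⊥)
    (hkX : k ∈ normalizer (X : Set G)) {L : Subgroup G} (hTL : (T : Subgroup G) ≤ L)
    (hLX : L ≤ normalizer (X : Set G)) (hL : ¬ 3 ∣ Nat.card L) : L = T := by
  haveI := Fact.mk Nat.prime_two
  haveI := Fact.mk B.setup.prime
  suffices hq : ¬ q ∣ Nat.card L from T.3 (B.setup.isPGroup_two hL hq) hTL
  intro hq
  rcases local_cases B.setup hX1 (not_three_dvd_two hX) Subgroup.le_normalizer le_rfl B.ord hkX with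
    ⟨K, hK⟩ | hA
  · obtain ⟨⟨y, hyL⟩, hy⟩ := exists_prime_orderOf_dvd_card' (G := L) q hq
    rw [orderOf_mk] at hy
    have hyK : y ∈ K := hK.mem_of_orderOf (hLX hyL) (by
      rw [hy, show (6 : ℕ) = 2 * 3 by norm_num]
      exact Nat.Coprime.mul_right ((Nat.coprime_primes B.setup.prime Nat.prime_two).2 B.setup.q_ne_two)
        ((Nat.coprime_primes B.setup.prime Nat.prime_three).2 B.setup.q_ne_three))
    have hXK : X ≤ K :=
      hK.inv_le B.setup B.ord hkX Subgroup.le_normalizer (not_three_dvd_two hX) hkX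
    refine mixed B.setup B.large B.ord hX hkX hX1 (mem_centralizer_iff.2 fun x hx => ?_) hy
    refine (hK.commute_of_coprime (hXK hx) hyK ?_).eq
    obtain ⟨n, hn⟩ := IsPGroup.iff_orderOf.1 hX ⟨x, hx⟩
    rw [orderOf_mk] at hn
    rw [hn, hy]
    exact Nat.Coprime.pow_left n
      ((Nat.coprime_primes Nat.prime_two B.setup.prime).2 (Ne.symm B.setup.q_ne_two))
  · refine Alt.not_five_dvd hA hLX hL ?_ hq
    intro h
    refine T.not_dvd_index (h.trans ⟨(T : Subgroup G).relIndex L * (normalizer (X : Set G)).index, ?_⟩)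
    rw [← relIndex_mul_index (hTL.trans hLX), ← relIndex_mul_relIndex _ _ _ hTL hLX]
    ring

end Big

end CfsgLib.InvChar.SecNineOpen
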