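import Mathlib
import Cfsg.Agent.Lib.Amalgam.FpfThreeBasic
import Cfsg.Agent.Lib.Invol.HigmanTwo

/-!
# Two-groups with a fixed-point-free element of order three, inside a group

Centralisers are stable, an element with centraliser of index at most two is central, and a
2-group has at most one such subgroup of index two inverted from outside, unless it has order four.
-/

set_option autoImplicit false
set_option linter.unusedSectionVars false

namespace CfsgLib.InvChar.SecNineOpen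

open Subgroup CfsgLib.Amalgam
open scoped commutatorElement

universe u

variable {G : Type u} [Group G]

/-- `k` acts fixed-point-freely with order three on the two-group `P`. -/
structure Cubic (k : G) (P : Subgroup G) : Prop where
  cube : k * k * k = 1
  norm : k ∈ normalizer (P : Set G)
  two : IsPGroup 2 P
  fpf : ∀ p ∈ P, k * p * k⁻¹ = p → p = 1

theorem conj_mem {g p : G} {P : Subgroup G} (hg : g ∈ normalizer (P : Set G)) (hp : p ∈ P) :
    g * p * g⁻¹ ∈ P :=
  (mem_normalizer_iff.1 hg p).1 hp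

/-- Conjugation by an element normalising `P`. -/
def cjAut {g : G} {P : Subgroup G} (hg : g ∈ normalizer (P : Set G)) : MulAut P where
  toFun p := ⟨g * p * g⁻¹, conj_mem hg p.2⟩
  invFun p := ⟨g⁻¹ * p * g, by simpa using conj_mem (inv_mem hg) p.2⟩
  left_inv p := Subtype.ext (by simp [mul_assoc])
  right_inv p := Subtype.ext (by simp [mul_assoc])
  map_mul' a b := Subtype.ext (by simp [mul_assoc])

theorem cjAut_apply {g : G} {P : Subgroup G} (hg : g ∈ normalizer (P : Set G)) (p : P) :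
    (cjAut hg p : G) = g * p * g⁻¹ := rfl

theorem rne [Finite G] (H K : Subgroup G) : H.relIndex K ≠ 0 := index_ne_zero_of_finite

namespace Cubic

variable {k : G} {P : Subgroup G}

theorem cube_aut (h : Cubic k P) (y : P) : cjAut h.norm (cjAut h.norm (cjAut h.norm y)) = y := by
  apply Subtype.ext
  simp only [cjAut_apply]
  calc k * (k * (k * (y : G) * k⁻¹) * k⁻¹) * k⁻¹ = (k * k * k) * y * (k * k * k)⁻¹ := by group
    _ = y := by rw [h.cube, one_mul, inv_one, mul_one]

theorem fpf_aut (h : Cubic k P) (y : P) (hy : cjAut h.norm y = y) : y = 1 :=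
  Subtype.ext (h.fpf y y.2 (congrArg Subtype.val hy))

theorem inv (h : Cubic k P) : Cubic k⁻¹ P where
  cube := by
    calc k⁻¹ * k⁻¹ * k⁻¹ = (k * k * k)⁻¹ := by group
      _ = 1 := by rw [h.cube, inv_one]
  norm := inv_mem h.norm
  two := h.two
  fpf := fun p hp e => h.fpf p hp (by
    calc k * p * k⁻¹ = k * (k⁻¹ * p * k⁻¹⁻¹) * k⁻¹ := by rw [e]
      _ = p := by group)

theorem mono (h : Cubic k P) {Q : Subgroup G} (hQP : Q ≤ P)
    (hQ : k ∈ normalizer (Q : Set G)) : Cubic k Q where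
  cube := h.cube
  norm := hQ
  two := h.two.to_le hQP
  fpf := fun p hp => h.fpf p (hQP hp)

/-- An element moved into the coset of a stable subgroup lies in it. -/
theorem mem_of_twist [Finite G] (h : Cubic k P) {Z : Subgroup G} (hZ : k ∈ normalizer (Z : Set G))
    {p : G} (hp : p ∈ P) (hpz : p⁻¹ * (k * p * k⁻¹) ∈ Z) : p ∈ Z := by
  have := FpfThreeBasic.fpf_quot (σ := cjAut h.norm) h.fpf_aut (N := Z.subgroupOf P)
    (fun n hn => mem_subgroupOf.2 (conj_mem hZ (mem_subgroupOf.1 hn))) (x := ⟨p, hp⟩)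
    (mem_subgroupOf.2 hpz)
  exact this

/-- Commutators of `P` are central in `P`. -/
theorem class_two [Finite G] (h : Cubic k P) {a b c : G} (ha : a ∈ P) (hb : b ∈ P) (hc : c ∈ P) :
    Commute ⁅a, b⁆ c := by
  have := (CfsgLib.Invol.class_two_of_fpf_three _ rfl h.two _ h.cube_aut h.fpf_aut
    ⟨a, ha⟩ ⟨b, hb⟩ ⟨c, hc⟩).map P.subtype
  simpa [commutatorElement_def] using this

theorem commute_conj_self [Finite G] (h : Cubic k P) {p : G} (hp : p ∈ P) :
    Commute p (k * p * k⁻¹) :=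
  congrArg Subtype.val (FpfThreeBasic.comm_image h.cube_aut h.fpf_aut ⟨p, hp⟩)

theorem orbit [Finite G] (h : Cubic k P) {p : G} (hp : p ∈ P) :
    p * (k * p * k⁻¹) * (k⁻¹ * p * k) = 1 := by
  have := congrArg Subtype.val (FpfThreeBasic.prod_orbit h.cube_aut h.fpf_aut ⟨p, hp⟩)
  simp only [Subgroup.coe_mul, cjAut_apply, OneMemClass.coe_one] at this
  have e : k⁻¹ = k * k := inv_eq_of_mul_eq_one_right (by rw [← mul_assoc]; exact h.cube)
  have e' : k⁻¹ * p * k = k * (k * p * k⁻¹) * k⁻¹ := by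
    calc k⁻¹ * p * k = k * k * p * (k * k)⁻¹ := by rw [← e, inv_inv]
      _ = _ := by group
  rw [e']
  exact this

/-- The centraliser in `P` of an element of `P` is stable. -/
theorem commute_image [Finite G] (h : Cubic k P) {a b : G} (ha : a ∈ P) (hb : b ∈ P)
    (hab : Commute a b) : Commute a (k * b * k⁻¹) ∧ Commute (k * a * k⁻¹) b := by
  have hc : ∀ g g' : P, ⁅g, g'⁆ ∈ center P := fun g g' => mem_center_iff.2 fun c =>
    Subtype.ext (by
      simp only [Subgroup.coe_mul, commutatorElement_def, InvMemClass.coe_inv]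
      have := (h.class_two g.2 g'.2 c.2).eq
      rw [commutatorElement_def] at this
      exact this.symm)
  have := FpfThreeBasic.commute_image_of_central h.cube_aut h.fpf_aut hc
    (a := ⟨a, ha⟩) (b := ⟨b, hb⟩) (Subtype.ext hab.eq)
  exact ⟨congrArg Subtype.val this.1, congrArg Subtype.val this.2⟩

/-- An element whose centraliser has index at most two is central. -/
theorem central_of_relIndex_le_two [Finite G] (h : Cubic k P) {D : Subgroup G} (hDP : D ≤ P)
    (hi : D.relIndex P ≤ 2) {u : G} (hu : u ∈ P) (hD : ∀ d ∈ D, Commute u d) :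
    ∀ p ∈ P, Commute u p := by
  intro p hp
  set C := P ⊓ centralizer ({u} : Set G) with hC
  have hmemC : ∀ x, x ∈ C ↔ x ∈ P ∧ Commute u x := fun x => by
    rw [hC, mem_inf, mem_centralizer_singleton_iff]
    exact ⟨fun h => ⟨h.1, h.2.symm⟩, fun h => ⟨h.1, h.2.eq.symm⟩⟩
  have hk : k ∈ normalizer (C : Set G) := by
    rw [mem_normalizer_iff]
    intro x
    rw [hmemC, hmemC]
    constructor
    · rintro ⟨hx, hux⟩
      exact ⟨conj_mem h.norm hx, (h.commute_image hu hx hux).1⟩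
    · rintro ⟨hx, hux⟩
      have h1 := conj_mem h.norm hx
      have h2 := conj_mem h.norm h1
      have e : k * (k * (k * x * k⁻¹) * k⁻¹) * k⁻¹ = x := by
        calc k * (k * (k * x * k⁻¹) * k⁻¹) * k⁻¹ = (k * k * k) * x * (k * k * k)⁻¹ := by group
          _ = x := by rw [h.cube, one_mul, inv_one, mul_one]
      refine ⟨(mem_normalizer_iff.1 h.norm x).2 hx, ?_⟩
      rw [← e]
      exact (h.commute_image hu h1 (h.commute_image hu hx hux).1).1
  have hiC : C.relIndex P ≤ 2 := by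
    refine le_trans (Nat.le_of_dvd (Nat.pos_of_ne_zero ?_) (relIndex_dvd_of_le_left P
      (fun d hd => (hmemC d).2 ⟨hDP hd, hD d hd⟩))) hi
    exact rne D P
  have hne := rne C P
  have key : ∀ x ∈ P, x⁻¹ * (k * x * k⁻¹) ∈ C := by
    intro x hx
    rcases (by omega : C.relIndex P = 1 ∨ C.relIndex P = 2) with e | e
    · exact (relIndex_eq_one.1 e) (mul_mem (inv_mem hx) (conj_mem h.norm hx))
    · have hx' : (⟨x, hx⟩ : P)⁻¹ * ⟨k * x * k⁻¹, conj_mem h.norm hx⟩ ∈ C.subgroupOf P := by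
        rw [mul_mem_iff_of_index_two e, inv_mem_iff, mem_subgroupOf, mem_subgroupOf]
        exact mem_normalizer_iff.1 hk x
      exact hx'
  exact ((hmemC p).1 (h.mem_of_twist hk hp (key p hp))).2

theorem card_mod [Finite G] (h : Cubic k P) : Nat.card P % 3 = 1 := by
  have := FpfThreeBasic.card_stable h.cube_aut h.fpf_aut ⊤ fun y _ => mem_top _
  rwa [card_top] at this

/-- A stable proper subgroup has index at least four. -/
theorem four_mul_le [Finite G] (h : Cubic k P) {H : Subgroup G} (hH : k ∈ normalizer (H : Set G))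
    (hlt : H < P) : 4 * Nat.card H ≤ Nat.card P := by
  have := FpfThreeBasic.four_mul_card_le h.cube_aut h.fpf_aut h.two (H := H.subgroupOf P) (K := ⊤)
    (fun y hy => mem_subgroupOf.2 (conj_mem hH (mem_subgroupOf.1 hy))) (fun y _ => mem_top _)
    (lt_top_iff_ne_top.2 fun e => hlt.not_ge (subgroupOf_eq_top.1 e))
  rwa [card_top, Nat.card_congr (subgroupOfEquivOfLe hlt.le).toEquiv] at this

/-- The square bound: a subgroup fixed modulo `Z` by an inverting element meets its image in `Z`. -/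
theorem inf_conj_le [Finite G] (h : Cubic k P) {t : G} (htk : t * k * t⁻¹ = k⁻¹)
    {Z D : Subgroup G} (hZ : k ∈ normalizer (Z : Set G))
    (hD : ∀ d ∈ D, d⁻¹ * (t * d * t⁻¹) ∈ Z) (hDP : D ≤ P) :
    D ⊓ D.map (MulAut.conj k).toMonoidHom ≤ Z := by
  rintro p ⟨hpD, w, hw, rfl⟩
  simp only [MulEquiv.coe_toMonoidHom, MulAut.conj_apply] at hpD ⊢
  set p := k * w * k⁻¹ with hp
  refine h.mem_of_twist hZ (hDP hpD) ?_
  have h1 : k * (k * (w⁻¹ * (t * w * t⁻¹)) * k⁻¹) * k⁻¹ ∈ Z := conj_mem hZ (conj_mem hZ (hD w hw))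
  have h2 := hD p hpD
  have e : k * k = k⁻¹ := (inv_eq_of_mul_eq_one_right (by rw [← mul_assoc]; exact h.cube)).symm
  have et : t * k = k⁻¹ * t := by rw [← htk]; group
  have et' : k⁻¹ * t⁻¹ = t⁻¹ * k := by
    have : t * k⁻¹ = k * t := by
      rw [show t * k⁻¹ = (k * t⁻¹)⁻¹ by group, show k * t = (t⁻¹ * k⁻¹)⁻¹ by group, inv_inj]
      rw [← htk]; group
    calc k⁻¹ * t⁻¹ = (t * k)⁻¹ := by group
      _ = (k⁻¹ * t)⁻¹ := by rw [et]
      _ = t⁻¹ * k := by group
  have e1 : k * (k * (w⁻¹ * (t * w * t⁻¹)) * k⁻¹) * k⁻¹ = (k * p * k⁻¹)⁻¹ * (t * p * t⁻¹) := by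
    rw [hp]
    calc k * (k * (w⁻¹ * (t * w * t⁻¹)) * k⁻¹) * k⁻¹
        = (k * (k * w * k⁻¹) * k⁻¹)⁻¹ * ((k * k) * t * w * t⁻¹ * (k * k)⁻¹) := by
          simp [mul_assoc]
      _ = (k * (k * w * k⁻¹) * k⁻¹)⁻¹ * ((k⁻¹ * t) * w * (t⁻¹ * k)) := by rw [e]; group
      _ = (k * (k * w * k⁻¹) * k⁻¹)⁻¹ * ((t * k) * w * (k⁻¹ * t⁻¹)) := by rw [et, et']
      _ = (k * (k * w * k⁻¹) * k⁻¹)⁻¹ * (t * (k * w * k⁻¹) * t⁻¹) := by group
  rw [e1] at h1
  have := mul_mem h2 (inv_mem h1)
  convert this using 1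
  group

theorem card_le_four_mul [Finite G] (h : Cubic k P) {t : G} (htk : t * k * t⁻¹ = k⁻¹)
    {Z D : Subgroup G} (hZ : k ∈ normalizer (Z : Set G))
    (hD : ∀ d ∈ D, d⁻¹ * (t * d * t⁻¹) ∈ Z) (hDP : D ≤ P) (hi : D.relIndex P ≤ 2) :
    Nat.card P ≤ 4 * Nat.card Z := by
  set D' := D.map (MulAut.conj k).toMonoidHom
  have hD'P : D' ≤ P := by
    rintro _ ⟨d, hd, rfl⟩
    exact conj_mem h.norm (hDP hd)
  have hP : P.map (MulAut.conj k).toMonoidHom = P := by
    refine eq_of_le_of_card_ge ?_ (card_map_of_injective (MulAut.conj k).injective).ge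
    rintro _ ⟨d, hd, rfl⟩
    exact conj_mem h.norm hd
  have hi' : D'.relIndex P ≤ 2 := by
    rw [← hP, relIndex_map_map_of_injective _ _ (MulAut.conj k).injective]
    exact hi
  have hm := relIndex_mul_relIndex ⊥ (D ⊓ D') P bot_le (inf_le_left.trans hDP)
  rw [relIndex_bot_left, relIndex_bot_left] at hm
  calc Nat.card P = Nat.card ↥(D ⊓ D') * (D ⊓ D').relIndex P := hm.symm
    _ ≤ Nat.card Z * 4 := Nat.mul_le_mul
        (card_le_of_le (h.inf_conj_le htk hZ hD hDP))
        (relIndex_inf_le.trans (Nat.mul_le_mul hi hi'))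
    _ = 4 * Nat.card Z := mul_comm _ _

/-- The centre of `P`, as a subgroup of `G`, is stable. -/
theorem center_norm (h : Cubic k P) : k ∈ normalizer ((P ⊓ centralizer (P : Set G) : Subgroup G) : Set G) := by
  rw [mem_normalizer_iff]
  intro x
  simp only [mem_inf, mem_centralizer_iff, SetLike.mem_coe]
  constructor
  · rintro ⟨hx, hc⟩
    refine ⟨conj_mem h.norm hx, fun p hp => ?_⟩
    have := hc (k⁻¹ * p * k) (by simpa using conj_mem (inv_mem h.norm) hp)
    calc p * (k * x * k⁻¹) = k * (k⁻¹ * p * k * x) * k⁻¹ := by group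
      _ = k * (x * (k⁻¹ * p * k)) * k⁻¹ := by rw [this]
      _ = k * x * k⁻¹ * p := by group
  · rintro ⟨hx, hc⟩
    refine ⟨(mem_normalizer_iff.1 h.norm x).2 hx, fun p hp => ?_⟩
    have := hc (k * p * k⁻¹) (conj_mem h.norm hp)
    calc p * x = k⁻¹ * (k * p * k⁻¹ * (k * x * k⁻¹)) * k := by group
      _ = k⁻¹ * (k * x * k⁻¹ * (k * p * k⁻¹)) * k := by rw [this]
      _ = x * p := by group

end Cubic

theorem mem_normalizer_of_conj_mem [Finite G] {g : G} {H : Subgroup G}
    (h : ∀ x ∈ H, g * x * g⁻¹ ∈ H) : g ∈ normalizer (H : Set G) := by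
  have e : H.map (MulAut.conj g).toMonoidHom = H := by
    refine eq_of_le_of_card_ge ?_ (card_map_of_injective (MulAut.conj g).injective).ge
    rintro _ ⟨d, hd, rfl⟩
    exact h d hd
  refine mem_normalizer_iff.2 fun x => ⟨h x, fun hx => ?_⟩
  rw [← e] at hx
  obtain ⟨y, hy, hyx⟩ := hx
  have : y = x := (MulAut.conj g).injective hyx
  exact this ▸ hy

theorem mem_iff_of_relIndex_two {P T : Subgroup G} (hi : P.relIndex T = 2) {a b : G} (ha : a ∈ T)
    (hb : b ∈ T) : a * b ∈ P ↔ (a ∈ P ↔ b ∈ P) := by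
  have := mul_mem_iff_of_index_two (H := P.subgroupOf T) hi (a := ⟨a, ha⟩) (b := ⟨b, hb⟩)
  simpa [mem_subgroupOf] using this

theorem le_normalizer_of_relIndex_two {P T : Subgroup G} (hPT : P ≤ T) (hi : P.relIndex T = 2) :
    T ≤ normalizer (P : Set G) := by
  intro t ht
  rw [mem_normalizer_iff]
  intro x
  constructor
  · intro hx
    rw [mem_iff_of_relIndex_two hi (mul_mem ht (hPT hx)) (inv_mem ht),
      mem_iff_of_relIndex_two hi ht (hPT hx), inv_mem_iff]
    tauto
  · intro hx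
    have hxT : x ∈ T := by
      have := mul_mem (mul_mem (inv_mem ht) (hPT hx)) ht
      simpa [mul_assoc] using this
    rw [mem_iff_of_relIndex_two hi (mul_mem ht hxT) (inv_mem ht),
      mem_iff_of_relIndex_two hi ht hxT, inv_mem_iff] at hx
    tauto

/-- Commutators of one of two such subgroups are central in the other. -/
theorem pair_step [Finite G] {T P P' : Subgroup G} {k k' : G} (h : Cubic k P) (h' : Cubic k' P')
    (hPT : P ≤ T) (hP'T : P' ≤ T) (hi : P.relIndex T = 2) (hi' : P'.relIndex T = 2)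
    {a b : G} (ha : a ∈ P') (hb : b ∈ P') : ⁅a, b⁆ ∈ P ⊓ centralizer (P : Set G) := by
  have haT := hP'T ha
  have hbT := hP'T hb
  have huP : ⁅a, b⁆ ∈ P := by
    rw [commutatorElement_def,
      mem_iff_of_relIndex_two hi (mul_mem (mul_mem haT hbT) (inv_mem haT)) (inv_mem hbT),
      mem_iff_of_relIndex_two hi (mul_mem haT hbT) (inv_mem haT),
      mem_iff_of_relIndex_two hi haT hbT, inv_mem_iff, inv_mem_iff]
    tauto
  refine ⟨huP, mem_centralizer_iff.2 fun p hp => ?_⟩
  refine ((h.central_of_relIndex_le_two (D := P ⊓ P') inf_le_left ?_ huP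
    (fun d hd => h'.class_two ha hb hd.2)) p hp).eq.symm
  rw [inf_comm, inf_relIndex_right, ← hi']
  exact relIndex_le_of_le_right hPT (rne P' T)

/-- Two subgroups of index two with inverted fixed-point-free elements have order at most four. -/
theorem pair [Finite G] {T P P' : Subgroup G} {k k' t t' : G} (h : Cubic k P) (h' : Cubic k' P')
    (hPT : P ≤ T) (hP'T : P' ≤ T) (hi : P.relIndex T = 2) (hi' : P'.relIndex T = 2)
    (ht : t ∈ T) (htP : t ∉ P) (htk : t * k * t⁻¹ = k⁻¹)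
    (ht' : t' ∈ T) (ht'P : t' ∉ P') (ht'k : t' * k' * t'⁻¹ = k'⁻¹) (hne : P ≠ P') :
    Nat.card P ≤ 4 := by
  have hcard : Nat.card P = Nat.card P' := by
    have h1 := relIndex_mul_relIndex ⊥ P T bot_le hPT
    have h2 := relIndex_mul_relIndex ⊥ P' T bot_le hP'T
    simp only [relIndex_bot_left, hi, hi'] at h1 h2
    omega
  have abel : ∀ {A B : Subgroup G} {l l' s : G}, Cubic l A → Cubic l' B → A ≤ T → B ≤ T →
      A.relIndex T = 2 → B.relIndex T = 2 → s ∈ T → s ∉ A → s * l * s⁻¹ = l⁻¹ → A ≠ B →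
      Nat.card A = Nat.card B → ∀ a ∈ A, ∀ b ∈ A, Commute a b := by
    intro A B l l' s hA hB hAT hBT hAi hBi hs hsA hsl hAB hcAB a ha b hb
    set Z := A ⊓ centralizer (A : Set G) with hZ
    obtain ⟨y, hyB, hyA⟩ : ∃ y ∈ B, y ∉ A := by
      by_contra hcon
      push Not at hcon
      exact hAB (eq_of_le_of_card_ge hcon hcAB.le).symm
    have hDi : (A ⊓ B).relIndex A ≤ 2 := by
      rw [inf_comm, inf_relIndex_right, ← hBi]
      exact relIndex_le_of_le_right hAT (rne B T)
    have hp0 : s⁻¹ * y ∈ A := by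
      rw [mem_iff_of_relIndex_two hAi (inv_mem hs) (hBT hyB), inv_mem_iff]
      tauto
    have hD : ∀ d ∈ A ⊓ B, d⁻¹ * (s * d * s⁻¹) ∈ Z := by
      rintro d ⟨hdA, hdB⟩
      have h1 : d⁻¹ * (y * d * y⁻¹) ∈ Z := by
        have := pair_step hA hB hAT hBT hAi hBi (inv_mem hdB) hyB
        rw [commutatorElement_def, inv_inv] at this
        simpa [hZ, mul_assoc] using this
      set p := s⁻¹ * y with hp
      have hsZ : ∀ z ∈ Z, s * z * s⁻¹ ∈ Z := by
        rintro z ⟨hzA, hzc⟩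
        have hsN := le_normalizer_of_relIndex_two hAT hAi hs
        refine ⟨conj_mem hsN hzA, mem_centralizer_iff.2 fun q hq => ?_⟩
        have := mem_centralizer_iff.1 hzc (s⁻¹ * q * s) (by simpa using conj_mem (inv_mem hsN) hq)
        calc q * (s * z * s⁻¹) = s * (s⁻¹ * q * s * z) * s⁻¹ := by group
          _ = s * (z * (s⁻¹ * q * s)) * s⁻¹ := by rw [this]
          _ = s * z * s⁻¹ * q := by group
      have h2 : ⁅p, d⁆ ∈ Z := by
        refine ⟨?_, mem_centralizer_iff.2 fun q hq => ((hA.class_two hp0 hdA hq).eq).symm⟩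
        show ⁅p, d⁆ ∈ A
        rw [commutatorElement_def]
        exact mul_mem (mul_mem (mul_mem hp0 hdA) (inv_mem hp0)) (inv_mem hdA)
      have e : d⁻¹ * (s * d * s⁻¹) = d⁻¹ * (y * d * y⁻¹) * (s * ⁅p, d⁆⁻¹ * s⁻¹) * 1 := by
        have hc : Commute (s * ⁅p, d⁆⁻¹ * s⁻¹) (s * d * s⁻¹) :=
          ((hA.class_two hp0 hdA hdA).inv_left).map (MulAut.conj s).toMonoidHom
        rw [mul_one, hp]
        calc d⁻¹ * (s * d * s⁻¹) = d⁻¹ * (s * ⁅p, d⁆ * s⁻¹) * ((s * ⁅p, d⁆⁻¹ * s⁻¹) * (s * d * s⁻¹)) := by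
              group
          _ = d⁻¹ * (s * ⁅p, d⁆ * s⁻¹) * ((s * d * s⁻¹) * (s * ⁅p, d⁆⁻¹ * s⁻¹)) := by rw [hc.eq]
          _ = d⁻¹ * (y * d * y⁻¹) * (s * ⁅s⁻¹ * y, d⁆⁻¹ * s⁻¹) := by
              rw [hp, commutatorElement_def]; group
      rw [e, mul_one]
      exact mul_mem h1 (hsZ _ (inv_mem h2))
    have h4 := hA.card_le_four_mul hsl hA.center_norm hD inf_le_left hDi
    suffices a ∈ Z from (mem_centralizer_iff.1 this.2 b hb).symm
    by_contra haZ
    -- the centraliser of `a` lies properly above the centre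
    set C := A ⊓ centralizer ({a} : Set G) with hC
    have hmemC : ∀ x, x ∈ C ↔ x ∈ A ∧ Commute a x := fun x => by
      rw [hC, mem_inf, mem_centralizer_singleton_iff]
      exact ⟨fun h => ⟨h.1, h.2.symm⟩, fun h => ⟨h.1, h.2.eq.symm⟩⟩
    have hlC : ∀ x ∈ C, l * x * l⁻¹ ∈ C := fun x hx =>
      (hmemC _).2 ⟨conj_mem hA.norm ((hmemC x).1 hx).1,
        (hA.commute_image ha ((hmemC x).1 hx).1 ((hmemC x).1 hx).2).1⟩
    have hnC : l ∈ normalizer (C : Set G) := mem_normalizer_of_conj_mem hlC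
    have hZC : Z < C := lt_of_le_of_ne
      (fun z hz => (hmemC z).2 ⟨hz.1, mem_centralizer_iff.1 hz.2 a ha⟩)
      fun e => haZ (e.symm ▸ (hmemC a).2 ⟨ha, Commute.refl a⟩)
    have h5 := (hA.mono inf_le_left hnC).four_mul_le hA.center_norm hZC
    have hCA : C = A := eq_of_le_of_card_ge inf_le_left (h4.trans h5)
    refine haZ ⟨ha, mem_centralizer_iff.2 fun q hq => ?_⟩
    exact ((hmemC q).1 (hCA.symm ▸ hq)).2.eq.symm
  have hab := abel h h' hPT hP'T hi hi' ht htP htk hne hcard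
  have hab' := abel h' h hP'T hPT hi' hi ht' ht'P ht'k (Ne.symm hne) hcard.symm
  obtain ⟨y, hyB, hyA⟩ : ∃ y ∈ P', y ∉ P := by
    by_contra hcon
    push Not at hcon
    exact hne (eq_of_le_of_card_ge hcon hcard.le).symm
  have hp0 : t⁻¹ * y ∈ P := by
    rw [mem_iff_of_relIndex_two hi (inv_mem ht) (hP'T hyB), inv_mem_iff]
    tauto
  have hD : ∀ d ∈ P ⊓ P', d⁻¹ * (t * d * t⁻¹) ∈ (⊥ : Subgroup G) := by
    rintro d ⟨hdP, hdP'⟩
    have e1 : Commute (t⁻¹ * y) d := hab _ hp0 _ hdP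
    have e2 : Commute y d := hab' _ hyB _ hdP'
    rw [mem_bot]
    calc d⁻¹ * (t * d * t⁻¹) = d⁻¹ * (t * ((t⁻¹ * y) * d * (t⁻¹ * y)⁻¹) * t⁻¹) := by
          rw [e1.eq, mul_inv_cancel_right]
      _ = d⁻¹ * (y * d * y⁻¹) := by group
      _ = 1 := by rw [e2.eq, mul_inv_cancel_right, inv_mul_cancel]
  have h4 := h.card_le_four_mul htk (Z := ⊥)
    (mem_normalizer_of_conj_mem fun x hx => by simp [mem_bot.1 hx]) hD inf_le_left (by
    rw [inf_comm, inf_relIndex_right, ← hi']
    exact relIndex_le_of_le_right hPT (rne P' T))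
  simpa using h4

end CfsgLib.InvChar.SecNineOpen
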