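import Cfsg.Agent.Lib.Comp.Subnormal
import Cfsg.Agent.Lib.Solvable.HallHigman
import Cfsg.Agent.Lib.Solvable.PCore
import Cfsg.Agent.Lib.Invol.FrattiniKernel
import Cfsg.Agent.Lib.Invol.BaerSuzuki
import Cfsg.Agent.Lib.InvChar.SecNineOpen.Action
import Cfsg.Agent.Lib.InvChar.SecNineOpen.Fpf

/-!
In a solvable `{2, q}`-group with a central involution a normal subgroup of a Sylow two-subgroup
made of involutions meets `O_{2',2}` in at least eight elements, unless it lies inside.
-/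

set_option autoImplicit false
set_option linter.unusedSectionVars false
set_option linter.style.haveILetI false

namespace CfsgLib.InvChar.SecNineOpen

open Subgroup
open scoped IsMulCommutative

universe u

variable {X : Type u} [Group X] [Finite X]

/-- `O_{2',2}`. -/
def coreTwo (X : Type u) [Group X] : Subgroup X :=
  haveI := Cfsg.pPrimeCore_normal 2 X
  (Cfsg.pCore 2 (X ⧸ Cfsg.pPrimeCore 2 X)).comap (QuotientGroup.mk' (Cfsg.pPrimeCore 2 X))

theorem coreTwo_normal : (coreTwo X).Normal := by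
  haveI := Cfsg.pPrimeCore_normal 2 X
  haveI := CfsgLib.Solvable.pCore_normal 2 (X ⧸ Cfsg.pPrimeCore 2 X)
  exact Subgroup.Normal.comap inferInstance _

theorem mem_coreTwo_of_central {u : X} (hu : ∀ x, x * u = u * x) (h2 : u * u = 1) :
    u ∈ coreTwo X := by
  haveI := Cfsg.pPrimeCore_normal 2 X
  haveI := Fact.mk Nat.prime_two
  set π := QuotientGroup.mk' (Cfsg.pPrimeCore 2 X)
  refine mem_comap.2 (le_sSup (s := {N : Subgroup (X ⧸ Cfsg.pPrimeCore 2 X) |
    N.Normal ∧ IsPGroup 2 N}) (a := (zpowers u).map π) ⟨?_, ?_⟩ (mem_map_of_mem _ (mem_zpowers u)))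
  · refine Subgroup.Normal.map ⟨fun n hn g => ?_⟩ π (QuotientGroup.mk'_surjective _)
    obtain ⟨i, rfl⟩ := mem_zpowers_iff.1 hn
    have hc : Commute g u := hu g
    rw [(hc.zpow_right i).eq, mul_inv_cancel_right]
    exact zpow_mem (mem_zpowers u) i
  · refine IsPGroup.map ?_ _
    intro x
    obtain ⟨i, hi⟩ := mem_zpowers_iff.1 x.2
    refine ⟨1, Subtype.ext ?_⟩
    rw [SubgroupClass.coe_pow, ← hi, pow_one, OneMemClass.coe_one, ← zpow_natCast, ← zpow_mul,
      mul_comm, zpow_mul, zpow_natCast, sq, h2, one_zpow]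

/-- The image of a Sylow subgroup of `O_{2',2}` is the whole two-core of the quotient. -/
theorem exists_part_coreTwo (T : Sylow 2 X) {x : X} (hx : x ∈ coreTwo X) :
    ∃ o ∈ Cfsg.pPrimeCore 2 X, ∃ t ∈ (T : Subgroup X) ⊓ coreTwo X, x = o * t := by
  haveI := Cfsg.pPrimeCore_normal 2 X
  haveI := Fact.mk Nat.prime_two
  haveI := coreTwo_normal (X := X)
  set π := QuotientGroup.mk' (Cfsg.pPrimeCore 2 X) with hπ
  set P := Cfsg.pCore 2 (X ⧸ Cfsg.pPrimeCore 2 X) with hP
  -- the image of the intersection has odd index in the two-core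
  obtain ⟨Q⟩ : Nonempty (Sylow 2 (coreTwo X)) := inferInstance
  obtain ⟨T', hT'⟩ := (Q.isPGroup'.map (coreTwo X).subtype).exists_le_sylow
  obtain ⟨g, hg⟩ := MulAction.exists_smul_eq X T' T
  set U := ((Q : Subgroup (coreTwo X)).map (coreTwo X).subtype).map (MulAut.conj g).toMonoidHom
  have hU : U ≤ (T : Subgroup X) ⊓ coreTwo X := by
    rintro _ ⟨y, hy, rfl⟩
    refine ⟨?_, ?_⟩
    · rw [SetLike.mem_coe, ← hg, Sylow.coe_subgroup_smul]
      exact ⟨y, hT' hy, rfl⟩
    · obtain ⟨y', -, rfl⟩ := hy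
      exact coreTwo_normal.conj_mem _ y'.2 g
  have hUi : ¬ 2 ∣ U.relIndex (coreTwo X) := by
    have he : (coreTwo X).map (MulAut.conj g).toMonoidHom = coreTwo X := by
      refine eq_of_le_of_card_ge ?_ (card_map_of_injective (MulAut.conj g).injective).ge
      rintro _ ⟨y, hy, rfl⟩
      exact coreTwo_normal.conj_mem _ hy g
    intro h
    rw [← he, relIndex_map_map_of_injective _ _ (MulAut.conj g).injective, relIndex, subgroupOf,
      comap_map_eq_self_of_injective (coreTwo X).subtype_injective] at h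
    exact Q.not_dvd_index h
  have hKP : (coreTwo X).map π = P :=
    map_comap_eq_self_of_surjective (QuotientGroup.mk'_surjective _) P
  have hUP : U.map π = P := by
    have hle : U.map π ≤ P := hKP ▸ map_mono (hU.trans inf_le_right)
    refine le_antisymm hle (relIndex_eq_one.1 ?_)
    have h1 : (U.map π).relIndex P ∣ U.relIndex (coreTwo X) := by
      rw [← hKP, relIndex_map_map]
      exact (relIndex_dvd_of_le_left _ le_sup_left).trans (by
        rw [show coreTwo X ⊔ π.ker = coreTwo X from sup_eq_left.2 (fun y hy => mem_comap.2 (by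
          rw [MonoidHom.mem_ker] at hy
          rw [hy]; exact one_mem _))])
    obtain ⟨n, hn⟩ := IsPGroup.iff_card.1
      (CfsgLib.Comp.isPGroup_pCore 2 (X ⧸ Cfsg.pPrimeCore 2 X))
    obtain ⟨i, -, hi⟩ := (Nat.dvd_prime_pow Nat.prime_two).1 (hn ▸ relIndex_dvd_card (U.map π) P :)
    rcases i with _ | i
    · simpa using hi
    · exact absurd ((hi ▸ h1 : 2 ^ (i + 1) ∣ _)) (fun h => hUi ((dvd_pow_self 2 (by omega)).trans h))
  have hxP : π x ∈ U.map π := hUP ▸ mem_comap.1 hx
  obtain ⟨t, ht, htx⟩ := hxP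
  refine ⟨x * t⁻¹, (QuotientGroup.eq_one_iff _).1 ?_, t, hU ht, by group⟩
  show π (x * t⁻¹) = 1
  rw [map_mul, map_inv, htx, mul_inv_cancel]

variable {q : ℕ}

/-- A normal subgroup of involutions of a Sylow two-subgroup, containing the central involution. -/
theorem le_coreTwo_of_small [Group.IsSolvable X] (hq : q.Prime) (hq5 : 5 ≤ q)
    (hX : ∀ r : ℕ, r.Prime → r ∣ Nat.card X → r = 2 ∨ r = q) {u : X} (hu : ∀ x, x * u = u * x)
    (hu2 : u * u = 1) (hu1 : u ≠ 1) (T : Sylow 2 X) {B : Subgroup X} (hBT : B ≤ (T : Subgroup X))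
    (hTB : (T : Subgroup X) ≤ normalizer (B : Set X)) (hB2 : ∀ b ∈ B, b * b = 1) (huB : u ∈ B)
    (hsmall : Nat.card ↥(B ⊓ coreTwo X) ≤ 4) : B ≤ coreTwo X := by
  classical
  haveI := Cfsg.pPrimeCore_normal 2 X
  haveI := Fact.mk Nat.prime_two
  haveI := coreTwo_normal (X := X)
  intro a ha
  by_contra haK
  set π := QuotientGroup.mk' (Cfsg.pPrimeCore 2 X) with hπ
  set P := Cfsg.pCore 2 (X ⧸ Cfsg.pPrimeCore 2 X) with hP
  haveI hPn : P.Normal := CfsgLib.Solvable.pCore_normal 2 _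
  set U := (T : Subgroup X) ⊓ coreTwo X with hUdef
  have hU2 : IsPGroup 2 ↥U := T.isPGroup'.to_le inf_le_left
  have huU : u ∈ U := ⟨hBT huB, mem_coreTwo_of_central hu hu2⟩
  set N := normalizer (U : Set X) with hN
  have haN : a ∈ N := by
    refine mem_normalizer_of_conj_mem fun x hx => ?_
    have hxT : x ∈ (T : Subgroup X) := (mem_inf.1 hx).1
    exact mem_inf.2 ⟨mul_mem (mul_mem (hBT ha) hxT) (inv_mem (hBT ha) : a⁻¹ ∈ (T : Subgroup X)),
      coreTwo_normal.conj_mem x (mem_inf.1 hx).2 a⟩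
  -- the action on the Frattini quotient
  haveI hcomm : IsMulCommutative (↥U ⧸ frattini ↥U) := ⟨⟨fun x y => by
    obtain ⟨x, rfl⟩ := QuotientGroup.mk_surjective x
    obtain ⟨y, rfl⟩ := QuotientGroup.mk_surjective y
    have hsq : ∀ z : ↥U, (z : ↥U ⧸ frattini ↥U) * z = 1 := fun z => by
      rw [← sq, ← QuotientGroup.mk_pow]
      exact (QuotientGroup.eq_one_iff _).2 (CfsgLib.StructC.pow_mem_frattini hU2 z)
    have hi : ∀ z : ↥U, (z : ↥U ⧸ frattini ↥U)⁻¹ = z := fun z =>
      inv_eq_of_mul_eq_one_right (hsq z)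
    calc (x : ↥U ⧸ frattini ↥U) * y = ((x * y : ↥U) : ↥U ⧸ frattini ↥U)⁻¹ := by rw [hi]; rfl
      _ = (y : ↥U ⧸ frattini ↥U)⁻¹ * (x : ↥U ⧸ frattini ↥U)⁻¹ := by
        rw [QuotientGroup.mk_mul, mul_inv_rev]
      _ = y * x := by rw [hi, hi]⟩⟩
  let V := ↥U ⧸ frattini ↥U
  have hmapF : ∀ φ : MulAut ↥U, (frattini ↥U).map φ.toMonoidHom = frattini ↥U := fun φ =>
    Subgroup.characteristic_iff_map_eq.1 inferInstance φ
  let ρ : ↥N →* MulAut V := MonoidHom.mk'
    (fun n => QuotientGroup.congr (frattini ↥U) (frattini ↥U) (cjAut n.2) (hmapF _))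
    (fun m n => MulEquiv.ext fun v => by
      obtain ⟨v, rfl⟩ := QuotientGroup.mk_surjective v
      show ((cjAut _ v : ↥U) : V) = ((cjAut m.2 (cjAut n.2 v) : ↥U) : V)
      congr 1
      exact Subtype.ext (by
        show (m : X) * n * v * ((m : X) * n)⁻¹ = m * (n * v * (n : X)⁻¹) * (m : X)⁻¹
        group))
  have hρ : ∀ (n : ↥N) (v : ↥U), ρ n (v : V) = ((cjAut n.2 v : ↥U) : V) := fun n v => rfl
  -- an odd element acting trivially lies in the odd core
  have hker : ∀ n : ↥N, Odd (orderOf n) → ρ n = 1 → π n = 1 := by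
    intro n hn h1
    have hfk : cjAut n.2 ∈ CfsgLib.Invol.FrattiniKernel.frattiniKer ↥U := fun v => by
      refine QuotientGroup.eq.1 ?_
      show (v : V) = ((cjAut n.2 v : ↥U) : V)
      rw [← hρ, h1, MulAut.one_apply]
    obtain ⟨i, hi⟩ := IsPGroup.iff_orderOf.1
      (CfsgLib.Invol.FrattiniKernel.isPGroup_frattiniKer hU2) ⟨_, hfk⟩
    rw [orderOf_mk] at hi
    have hdvd : orderOf (cjAut n.2 : MulAut ↥U) ∣ orderOf n := by
      rw [orderOf_dvd_iff_pow_eq_one]
      have key : ∀ i : ℕ, ∀ v : ↥U, (((cjAut n.2 : MulAut ↥U) ^ i) v : X) =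
          (n : X) ^ i * v * ((n : X) ^ i)⁻¹ := by
        intro i
        induction i with
        | zero => simp
        | succ i ih =>
          intro v
          rw [pow_succ', MulAut.mul_apply, cjAut_apply, ih, pow_succ']
          group
      refine MulEquiv.ext fun v => Subtype.ext ?_
      rw [key, ← SubgroupClass.coe_pow, pow_orderOf_eq_one]
      simp
    rw [hi] at hdvd
    have hi0 : i = 0 := by
      by_contra h
      exact (Nat.not_even_iff_odd.2 hn) (even_iff_two_dvd.2 ((dvd_pow_self 2 h).trans hdvd))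
    rw [hi0, pow_zero, orderOf_eq_one_iff] at hi
    -- `n` centralises the two-core of the quotient
    have hc : π n ∈ centralizer (P : Set (X ⧸ Cfsg.pPrimeCore 2 X)) := by
      refine mem_centralizer_iff.2 fun p hp => ?_
      obtain ⟨x, rfl⟩ := QuotientGroup.mk'_surjective _ p
      obtain ⟨o, ho, t, ht, rfl⟩ := exists_part_coreTwo T (mem_comap.2 hp)
      rw [map_mul, show π o = 1 from (QuotientGroup.eq_one_iff o).2 ho, one_mul]
      have h := congrArg (fun φ : MulAut ↥U => ((φ ⟨t, ht⟩ : ↥U) : X)) hi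
      simp only [MulAut.one_apply, cjAut_apply] at h
      rw [← map_mul, ← map_mul, mul_inv_eq_iff_eq_mul.1 h]
    have hmem := CfsgLib.Solvable.centralizer_pCore_le 2
      (CfsgLib.Solvable.pPrimeCore_quotient_eq_bot 2) hc
    obtain ⟨j, hj⟩ := IsPGroup.iff_orderOf.1
      (CfsgLib.Comp.isPGroup_pCore 2 (X ⧸ Cfsg.pPrimeCore 2 X)) ⟨_, hmem⟩
    rw [orderOf_mk] at hj
    have hd : orderOf (π n) ∣ orderOf n := by
      rw [← orderOf_coe n]; exact orderOf_map_dvd π _
    rw [hj] at hd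
    have hj0 : j = 0 := by
      by_contra h
      exact (Nat.not_even_iff_odd.2 hn) (even_iff_two_dvd.2 ((dvd_pow_self 2 h).trans hd))
    rw [hj0, pow_zero, orderOf_eq_one_iff] at hj
    exact hj
  set a' : ↥ρ.range := ⟨ρ ⟨a, haN⟩, _, rfl⟩ with ha'
  have ha'2 : a' * a' = 1 := Subtype.ext (by
    show ρ ⟨a, haN⟩ * ρ ⟨a, haN⟩ = 1
    rw [← map_mul, show (⟨a, haN⟩ : ↥N) * ⟨a, haN⟩ = 1 from Subtype.ext (hB2 a ha), map_one])
  -- it is not in the two-core of the acting group
  have hncore : a' ∉ Cfsg.pCore 2 ↥ρ.range := by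
    intro hcore
    haveI hn : (Cfsg.pCore 2 ↥ρ.range).Normal := CfsgLib.Solvable.pCore_normal 2 _
    set L := (Cfsg.pCore 2 ↥ρ.range).comap ρ.rangeRestrict with hL
    haveI hLn : L.Normal := Subgroup.Normal.comap inferInstance _
    have hsurj : Function.Surjective (π.comp N.subtype) := by
      intro y
      obtain ⟨x, rfl⟩ := QuotientGroup.mk'_surjective _ y
      obtain ⟨Q, hQ⟩ : ∃ Q : Sylow 2 ↥(coreTwo X), (Q : Subgroup ↥(coreTwo X)).map
          (coreTwo X).subtype = U := by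
        have h1 : IsPGroup 2 ↥(U.subgroupOf (coreTwo X)) :=
          hU2.of_equiv (subgroupOfEquivOfLe inf_le_right).symm
        obtain ⟨Q, hQ⟩ := h1.exists_le_sylow
        refine ⟨Q, ?_⟩
        obtain ⟨T', hT'⟩ := (Q.isPGroup'.map (coreTwo X).subtype).exists_le_sylow
        refine (eq_of_le_of_card_ge (fun x hx => ?_) ?_).symm
        · exact ⟨⟨x, hx.2⟩, hQ (mem_subgroupOf.2 hx), rfl⟩
        · -- the order of a two-subgroup of the core is at most that of the intersection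
          obtain ⟨g, hg⟩ := MulAction.exists_smul_eq X T' T
          refine le_of_eq_of_le (card_map_of_injective (f := (MulAut.conj g).toMonoidHom)
            (MulAut.conj g).injective).symm (card_le_of_le ?_)
          rintro _ ⟨y, hy, rfl⟩
          refine ⟨?_, ?_⟩
          · rw [SetLike.mem_coe, ← hg, Sylow.coe_subgroup_smul]
            exact ⟨y, hT' hy, rfl⟩
          · obtain ⟨y', -, rfl⟩ := hy
            exact coreTwo_normal.conj_mem _ y'.2 g
      have htop := Sylow.normalizer_sup_eq_top Q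
      rw [hQ] at htop
      have hx : x ∈ (↑(N ⊔ coreTwo X) : Set X) := by rw [htop]; exact Set.mem_univ x
      rw [mul_normal] at hx
      obtain ⟨n, hnN, c, hc, rfl⟩ := hx
      obtain ⟨o, ho, t, ht, rfl⟩ := exists_part_coreTwo T hc
      refine ⟨⟨n, hnN⟩ * ⟨t, le_normalizer ht⟩, ?_⟩
      show π (n * t) = π (n * (o * t))
      rw [map_mul, map_mul, map_mul, show π o = 1 from (QuotientGroup.eq_one_iff o).2 ho, one_mul]
    have hle : L.map (π.comp N.subtype) ≤ P := by
      refine le_sSup (s := {N : Subgroup (X ⧸ Cfsg.pPrimeCore 2 X) | N.Normal ∧ IsPGroup 2 N})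
        ⟨Subgroup.Normal.map hLn _ hsurj, ?_⟩
      rintro ⟨_, l, hl, rfl⟩
      have hl' : ρ.rangeRestrict l ∈ Cfsg.pCore 2 ↥ρ.range := hl
      obtain ⟨i, hi⟩ := IsPGroup.iff_orderOf.1
        (CfsgLib.Comp.isPGroup_pCore 2 ↥ρ.range) ⟨_, hl'⟩
      rw [orderOf_mk] at hi
      obtain ⟨j, m, hm, hlo⟩ := Nat.exists_eq_two_pow_mul_odd (orderOf_pos l).ne'
      refine ⟨i + j, Subtype.ext ?_⟩
      show (π (l : X)) ^ 2 ^ (i + j) = 1
      rw [← map_pow, ← SubgroupClass.coe_pow]
      refine hker _ ?_ ?_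
      · refine Odd.of_dvd_nat hm ?_
        rw [orderOf_dvd_iff_pow_eq_one, ← pow_mul,
          show 2 ^ (i + j) * m = (2 ^ j * m) * 2 ^ i by rw [pow_add]; ring, ← hlo, pow_mul,
          pow_orderOf_eq_one, one_pow]
      · rw [map_pow]
        have : (ρ.rangeRestrict l) ^ 2 ^ (i + j) = 1 := by
          rw [pow_add, pow_mul, ← hi, pow_orderOf_eq_one, one_pow]
        exact congrArg Subtype.val this
    refine haK (mem_comap.2 (hle ⟨⟨a, haN⟩, mem_comap.2 hcore, rfl⟩))
  -- an inverted element of odd prime order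
  obtain ⟨f, r, hr, hr2, hf, hfrel⟩ : ∃ (f : ↥ρ.range) (r : ℕ), r.Prime ∧ r ≠ 2 ∧
      orderOf f = r ∧ a' * f * a' = f⁻¹ := by
    obtain ⟨g, hg⟩ : ∃ g, ¬ IsPGroup 2 ↥(closure ({a', g * a' * g⁻¹} : Set ↥ρ.range)) := by
      by_contra hcon
      push Not at hcon
      exact hncore (CfsgLib.Invol.baer_suzuki_mem_pCore hcon)
    set b := g * a' * g⁻¹ with hb
    have hb2 : b * b = 1 := by
      rw [hb, show g * a' * g⁻¹ * (g * a' * g⁻¹) = g * (a' * a') * g⁻¹ by group, ha'2, mul_one,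
        mul_inv_cancel]
    have hai : a'⁻¹ = a' := inv_eq_of_mul_eq_one_right ha'2
    have hbi : b⁻¹ = b := inv_eq_of_mul_eq_one_right hb2
    set f0 := a' * b with hf0
    have hrel : a' * f0 * a'⁻¹ = f0⁻¹ := by
      rw [hf0, mul_inv_rev, hai, hbi, ← mul_assoc, ha'2, one_mul]
    obtain ⟨r, hr, hrd, hr2⟩ : ∃ r, r.Prime ∧ r ∣ orderOf f0 ∧ r ≠ 2 := by
      by_contra hcon
      push Not at hcon
      refine hg ?_
      have hnorm : zpowers a' ≤ normalizer (zpowers f0 : Set ↥ρ.range) := by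
        refine zpowers_le.2 (mem_normalizer_of_conj_mem fun x hx => ?_)
        obtain ⟨i, rfl⟩ := mem_zpowers_iff.1 hx
        rw [← conj_zpow, hrel]
        exact zpow_mem (inv_mem (mem_zpowers f0)) i
      have hsup : IsPGroup 2 ↥(zpowers f0 ⊔ zpowers a') := by
        refine IsPGroup.to_sup_of_normal_left' ?_ ?_ hnorm
        · refine IsPGroup.of_card (n := (orderOf f0).primeFactorsList.length) ?_
          rw [Nat.card_zpowers]
          refine Nat.eq_prime_pow_of_unique_prime_dvd (orderOf_pos f0).ne' fun {d} hd hdd => ?_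
          exact hcon d hd hdd
        · intro x
          obtain ⟨i, hi⟩ := mem_zpowers_iff.1 x.2
          refine ⟨1, Subtype.ext ?_⟩
          rw [SubgroupClass.coe_pow, ← hi, pow_one, OneMemClass.coe_one, ← zpow_natCast, ← zpow_mul,
            mul_comm, zpow_mul, zpow_natCast, sq, ha'2, one_zpow]
      refine hsup.to_le ((closure_le _).2 ?_)
      rintro x (rfl | rfl)
      · exact mem_sup_right (mem_zpowers _)
      · rw [show b = a'⁻¹ * f0 by rw [hf0, inv_mul_cancel_left]]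
        exact mul_mem (mem_sup_right (inv_mem (mem_zpowers _))) (mem_sup_left (mem_zpowers _))
    refine ⟨f0 ^ (orderOf f0 / r), r, hr, hr2, ?_, ?_⟩
    · rw [orderOf_pow_of_dvd ?_ (Nat.div_dvd_of_dvd hrd), Nat.div_div_self hrd (orderOf_pos f0).ne']
      exact (Nat.div_pos (Nat.le_of_dvd (orderOf_pos f0) hrd) hr.pos).ne'
    · conv_lhs => arg 2; rw [← hai]
      rw [← conj_pow, hrel, inv_pow]
  have hrq : r = q := by
    refine (hX r hr ?_).resolve_left hr2
    rw [← hf]
    exact (orderOf_dvd_natCard f).trans ((card_range_dvd ρ).trans (card_subgroup_dvd_card N))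
  obtain ⟨n, hn⟩ := f.2
  have hV2 : ∀ v : V, v * v = 1 := fun v => by
    obtain ⟨v, rfl⟩ := QuotientGroup.mk_surjective v
    rw [← sq, ← QuotientGroup.mk_pow]
    exact (QuotientGroup.eq_one_iff _).2 (CfsgLib.StructC.pow_mem_frattini hU2 v)
  have hinv : Inverts q (ρ ⟨a, haN⟩) (f : MulAut V) :=
    { exp := hV2
      prime := hq
      five := hq5
      inv := congrArg Subtype.val ha'2
      pow := by rw [← hrq, ← hf, ← SubgroupClass.coe_pow, pow_orderOf_eq_one, OneMemClass.coe_one]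
      ne := fun e => by
        have : f = 1 := Subtype.ext e
        rw [this, orderOf_one] at hf
        exact hr.one_lt.ne hf
      rel := congrArg Subtype.val hfrel }
  -- the moved part comes from the intersection
  set I := ((B ⊓ coreTwo X).subgroupOf U).map (QuotientGroup.mk' (frattini ↥U)) with hI
  have hrange : (mv (ρ ⟨a, haN⟩)).range ≤ I := by
    rintro _ ⟨v, rfl⟩
    obtain ⟨v, rfl⟩ := QuotientGroup.mk_surjective v
    refine ⟨cjAut haN v * v⁻¹, mem_subgroupOf.2 ⟨?_, ?_⟩, ?_⟩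
    · show a * (v : X) * a⁻¹ * (v : X)⁻¹ ∈ B
      rw [mul_assoc, mul_assoc]
      exact mul_mem ha (by simpa [mul_assoc] using conj_mem (hTB v.2.1) (inv_mem ha))
    · exact (mul_mem (cjAut haN v).2 (inv_mem v.2)).2
    · show ((cjAut haN v * v⁻¹ : ↥U) : V) = _
      rw [QuotientGroup.mk_mul, QuotientGroup.mk_inv, mv_apply, hρ]
  have hcI : Nat.card ↥((B ⊓ coreTwo X).subgroupOf U) ≤ 4 :=
    le_trans (le_of_eq (Nat.card_congr (subgroupOfEquivOfLe
      (fun x hx => ⟨hBT hx.1, hx.2⟩ : B ⊓ coreTwo X ≤ U)).toEquiv)) hsmall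
  have hIle : Nat.card I ≤ 4 :=
    (Nat.le_of_dvd Nat.card_pos (card_map_dvd _ _)).trans hcI
  have huI : (⟨u, huU⟩ : ↥U) ∈ (B ⊓ coreTwo X).subgroupOf U := mem_subgroupOf.2 ⟨huB, huU.2⟩
  by_cases huF : (⟨u, huU⟩ : ↥U) ∈ frattini ↥U
  · refine hinv.not_small ((card_le_of_le hrange).trans ?_)
    set M := (B ⊓ coreTwo X).subgroupOf U
    set φ := (QuotientGroup.mk' (frattini ↥U)).comp M.subtype
    have h1 : I = φ.range := by rw [hI, MonoidHom.range_comp, range_subtype]
    have h2 := φ.ker.card_mul_index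
    rw [index_ker, ← h1] at h2
    have h3 : 2 ≤ Nat.card φ.ker := by
      refine Finite.one_lt_card_iff_nontrivial.2 ((nontrivial_iff_ne_bot _).2 fun e => ?_)
      have : (⟨⟨u, huU⟩, huI⟩ : ↥M) ∈ φ.ker := (QuotientGroup.eq_one_iff _).2 huF
      rw [e, mem_bot] at this
      exact hu1 (congrArg (fun x : ↥M => ((x : ↥U) : X)) this)
    nlinarith
  · obtain ⟨-, -, h4, hle⟩ := hinv.dichotomy ((card_le_of_le hrange).trans hIle)
    have heq : (mv (ρ ⟨a, haN⟩)).range = I := eq_of_le_of_card_ge hrange (hIle.trans h4.ge)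
    have hub : ((⟨u, huU⟩ : ↥U) : V) ∈ (mv (f : MulAut V)).range :=
      hle (heq ▸ mem_map_of_mem _ huI)
    have hfix : ((⟨u, huU⟩ : ↥U) : V) ∈ (mv (f : MulAut V)).ker := by
      rw [mem_ker_mv, ← hn, hρ]
      congr 1
      exact Subtype.ext (by
        show (n : X) * u * (n : X)⁻¹ = u
        rw [hu, mul_inv_cancel_right])
    refine huF ((QuotientGroup.eq_one_iff _).1 ?_)
    rw [← Subgroup.mem_bot, ← hinv.inf_eq_bot]
    exact ⟨hfix, hub⟩

end CfsgLib.InvChar.SecNineOpen
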