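import Cfsg.Agent.Lib.InvChar.SecNineOpen.CaseOneSignalizer
import Cfsg.Agent.Lib.InvChar.SecNineOpen.CaseOneAction

/-!
The centraliser of an involution normalises the group generated in any Sylow subgroup through it.
-/

set_option autoImplicit false
set_option linter.unusedSectionVars false
set_option linter.style.haveILetI false

namespace CfsgLib.InvChar.SecNineOpen

open Subgroup

universe u

variable {G : Type u} [Group G] [Finite G] {q : ℕ}

theorem elemAb_map {A : Subgroup G} (hA : Cfsg.IsElementaryAbelian 2 A) (f : G →* G) :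
    Cfsg.IsElementaryAbelian 2 (A.map f) := by
  refine ⟨⟨⟨fun a b => ?_⟩⟩, ?_⟩
  · obtain ⟨_, x, hx, rfl⟩ := a
    obtain ⟨_, y, hy, rfl⟩ := b
    have h : x * y = y * x := congrArg Subtype.val (hA.1.is_comm.comm ⟨x, hx⟩ ⟨y, hy⟩)
    exact Subtype.ext (((map_mul f x y).symm.trans (congrArg f h)).trans (map_mul f y x))
  · rintro _ ⟨x, hx, rfl⟩
    rw [← map_pow, hA.2 x hx, map_one]

/-- An elementary subgroup of order at least eight through an involution of a Sylow subgroup. -/
theorem exists_elementary_through (S : Setup G q) (hI : Free G) (h4 : ∃ x : G, orderOf x = 4)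
    (T : Sylow 2 G) {u : G} (hu : orderOf u = 2) (huT : u ∈ (T : Subgroup G)) :
    ∃ B : Subgroup G, Cfsg.IsElementaryAbelian 2 B ∧ 8 ≤ Nat.card B ∧ u ∈ B ∧
      B ≤ (T : Subgroup G) ∧ B ≤ centralizer ({u} : Set G) ∧
      (T : Subgroup G) ⊓ centralizer ({u} : Set G) ≤ normalizer (B : Set G) := by
  haveI := Fact.mk Nat.prime_two
  obtain ⟨A, hAT, hTA, hA, h8⟩ := exists_normal_elementary S hI h4 T
  have hu2 : u ^ 2 = 1 := by rw [← hu]; exact pow_orderOf_eq_one u
  set C := A ⊓ centralizer ({u} : Set G) with hC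
  have hCc : ∀ c ∈ C, c * u = u * c := fun c hc => mem_centralizer_singleton_iff.1 hc.2
  have hcc : ∀ a ∈ insert u (C : Set G), ∀ b ∈ insert u (C : Set G), a * b = b * a := by
    rintro a (rfl | ha) b (rfl | hb)
    · rfl
    · exact (hCc b hb).symm
    · exact hCc a ha
    · exact congrArg Subtype.val (hA.1.is_comm.comm ⟨a, ha.1⟩ ⟨b, hb.1⟩)
  set B := closure (insert u (C : Set G)) with hB
  haveI hBc : IsMulCommutative B := Subgroup.isMulCommutative_closure hcc
  have hBe : Cfsg.IsElementaryAbelian 2 B := by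
    refine ⟨hBc, fun x hx => ?_⟩
    induction hx using closure_induction with
    | mem a ha =>
      rcases ha with rfl | ha
      · exact hu2
      · exact hA.2 a ha.1
    | one => exact one_pow _
    | mul a b ha hb iha ihb =>
      rw [Commute.mul_pow (congrArg Subtype.val (mul_comm' (⟨a, ha⟩ : B) ⟨b, hb⟩)), iha, ihb,
        one_mul]
    | inv a ha iha => rw [inv_pow, iha, inv_one]
  have huB : u ∈ B := subset_closure (Set.mem_insert _ _)
  have hCB : C ≤ B := fun c hc => subset_closure (Set.mem_insert_of_mem _ hc)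
  refine ⟨B, hBe, ?_, huB, (closure_le _).2 ?_, (closure_le _).2 ?_, fun t ht => ?_⟩
  · by_cases huA : u ∈ A
    · refine h8.trans (card_le_of_le fun a ha => hCB ⟨ha, mem_centralizer_singleton_iff.2 ?_⟩)
      exact congrArg Subtype.val (hA.1.is_comm.comm ⟨a, ha⟩ ⟨u, huA⟩)
    -- the moved parts lie among the fixed points
    have hun : u ∈ normalizer (A : Set G) := hTA huT
    have hcomm : ∀ a ∈ A, ∀ b ∈ A, a * b = b * a := fun a ha b hb =>
      congrArg Subtype.val (hA.1.is_comm.comm ⟨a, ha⟩ ⟨b, hb⟩)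
    let φ : ↥A →* G := MonoidHom.mk' (fun a => (a : G) * (u * a * u⁻¹)) fun a b => by
      show (a : G) * b * (u * (a * b) * u⁻¹) = a * (u * a * u⁻¹) * (b * (u * b * u⁻¹))
      calc (a : G) * b * (u * (a * b) * u⁻¹) = a * (b * (u * a * u⁻¹)) * (u * b * u⁻¹) := by group
        _ = a * ((u * a * u⁻¹) * b) * (u * b * u⁻¹) := by rw [hcomm b b.2 _ (conj_mem hun a.2)]
        _ = _ := by group
    have hr : φ.range ≤ C := by
      rintro _ ⟨a, rfl⟩
      refine ⟨mul_mem a.2 (conj_mem hun a.2), mem_centralizer_singleton_iff.2 ?_⟩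
      show (a : G) * (u * a * u⁻¹) * u = u * ((a : G) * (u * a * u⁻¹))
      have hui : u⁻¹ = u := inv_eq_of_mul_eq_one_right (by rw [← sq, hu2])
      calc (a : G) * (u * a * u⁻¹) * u = a * u * a := by group
        _ = ((u * a * u⁻¹) * a) * u := by
          rw [← hcomm _ a.2 _ (conj_mem hun a.2)]; group
        _ = u * ((a : G) * (u * a * u⁻¹)) := by
          rw [hui]
          simp [mul_assoc]
    have hk : φ.ker.map A.subtype ≤ C := by
      rintro _ ⟨a, ha, rfl⟩
      refine ⟨a.2, mem_centralizer_singleton_iff.2 ?_⟩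
      have h1 : (a : G) * (u * a * u⁻¹) = 1 := ha
      have h2 : u * a * u⁻¹ = (a : G) := by
        rw [← inv_eq_of_mul_eq_one_right h1]
        exact inv_eq_of_mul_eq_one_right (by rw [← sq]; exact hA.2 a a.2)
      exact (mul_inv_eq_iff_eq_mul.1 h2).symm
    have h1 := φ.ker.card_mul_index
    rw [index_ker] at h1
    have hkc : Nat.card φ.ker ≤ Nat.card C := by
      rw [← Nat.card_congr (equivMapOfInjective φ.ker A.subtype A.subtype_injective).symm.toEquiv]
      exact card_le_of_le hk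
    have hrc := card_le_of_le hr
    have h9 : 8 ≤ Nat.card C * Nat.card C := h8.trans (h1 ▸ Nat.mul_le_mul hkc hrc)
    have hlt : C < B := lt_of_le_of_ne hCB fun e => huA (e ▸ huB : u ∈ C).1
    have hd := relIndex_mul_relIndex ⊥ C B bot_le hCB
    simp only [relIndex_bot_left] at hd
    have h2 : C.relIndex B ≠ 1 := fun e => hlt.not_ge (relIndex_eq_one.1 e)
    have h0 : C.relIndex B ≠ 0 := fun e => by
      rw [e, mul_zero] at hd
      exact Nat.card_pos.ne hd
    obtain ⟨m, hm⟩ := IsPGroup.iff_card.1 (CfsgLib.Comp.isPGroup_of_elemAb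
      (CfsgLib.Comp.elemAb_mono hBe hCB))
    have h4c : 4 ≤ Nat.card C := by
      rw [hm] at h9 ⊢
      rcases (by omega : m < 2 ∨ 2 ≤ m) with h | h
      · interval_cases m <;> omega
      · exact (by norm_num : 4 = 2 ^ 2) ▸ Nat.pow_le_pow_right (by norm_num) h
    calc 8 = 4 * 2 := rfl
      _ ≤ Nat.card C * C.relIndex B := Nat.mul_le_mul h4c (by omega)
      _ = Nat.card B := hd
  · rintro x (rfl | hx)
    · exact huT
    · exact hAT hx.1
  · rintro x (rfl | hx)
    · exact mem_centralizer_singleton_iff.2 rfl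
    · exact hx.2
  · have htu := mem_centralizer_singleton_iff.1 ht.2
    refine mem_normalizer_of_conj_mem fun x hx => ?_
    induction hx using closure_induction with
    | mem a ha =>
      rcases ha with rfl | ha
      · rw [htu, mul_inv_cancel_right]; exact huB
      · refine hCB ⟨conj_mem (hTA ht.1) ha.1, mem_centralizer_singleton_iff.2 ?_⟩
        have h1 := hCc a ha
        calc t * a * t⁻¹ * u = t * a * (t⁻¹ * (u * t)) * t⁻¹ := by group
          _ = t * a * (t⁻¹ * (t * u)) * t⁻¹ := by rw [htu]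
          _ = t * (a * u) * t⁻¹ := by group
          _ = t * (u * a) * t⁻¹ := by rw [h1]
          _ = (t * u) * a * t⁻¹ := by group
          _ = (u * t) * a * t⁻¹ := by rw [htu]
          _ = u * (t * a * t⁻¹) := by group
    | one => simp
    | mul a b _ _ iha ihb =>
      rw [show t * (a * b) * t⁻¹ = t * a * t⁻¹ * (t * b * t⁻¹) by group]
      exact mul_mem iha ihb
    | inv a _ iha =>
      rw [show t * a⁻¹ * t⁻¹ = (t * a * t⁻¹)⁻¹ by group]
      exact inv_mem iha

/-- Moving a two-subgroup of a centraliser into a Sylow subgroup of it. -/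
theorem exists_sylow_centralizer {u : G} {X : Subgroup G} (hX : IsPGroup 2 X)
    (hXC : X ≤ centralizer ({u} : Set G)) :
    ∃ P : Sylow 2 ↥(centralizer ({u} : Set G)),
      X ≤ (P : Subgroup ↥(centralizer ({u} : Set G))).map (centralizer ({u} : Set G)).subtype := by
  obtain ⟨P, hP⟩ := (hX.of_equiv (subgroupOfEquivOfLe hXC).symm).exists_le_sylow
  exact ⟨P, fun x hx => ⟨⟨x, hXC hx⟩, hP (mem_subgroupOf.2 hx), rfl⟩⟩

/-- The data attached to an involution: an elementary subgroup whose generated group is normalised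
by the whole centraliser. -/
theorem exists_base (S : Setup G q) (hI : Free G) (h4 : ∃ x : G, orderOf x = 4) {u : G}
    (hu : orderOf u = 2) : ∀ P : Sylow 2 ↥(centralizer ({u} : Set G)),
    ∃ (T : Sylow 2 G) (B : Subgroup G), Cfsg.IsElementaryAbelian 2 B ∧ 8 ≤ Nat.card B ∧ u ∈ B ∧
      B ≤ (T : Subgroup G) ∧
      (P : Subgroup ↥(centralizer ({u} : Set G))).map (centralizer ({u} : Set G)).subtype ≤
        (T : Subgroup G) ∧
      centralizer ({u} : Set G) ≤ normalizer (sig B : Set G) := by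
  haveI := Fact.mk Nat.prime_two
  set H := centralizer ({u} : Set G) with hH
  intro P
  have huH : u ∈ H := mem_centralizer_singleton_iff.2 rfl
  have hu2 : u * u = 1 := by rw [← sq, ← hu]; exact pow_orderOf_eq_one u
  obtain ⟨T, hT⟩ := (P.isPGroup'.map H.subtype).exists_le_sylow
  have hTH : ∀ t : ↥H, (t : G) ∈ (T : Subgroup G) → t ∈ (P : Subgroup ↥H) := by
    intro t ht
    have h2 : IsPGroup 2 ↥((T : Subgroup G).subgroupOf H) := T.isPGroup'.comap_subtype
    have hle : (P : Subgroup ↥H) ≤ (T : Subgroup G).subgroupOf H := fun p hp =>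
      mem_subgroupOf.2 (hT ⟨p, hp, rfl⟩)
    exact (P.is_maximal' h2 hle).le (mem_subgroupOf.2 ht)
  have huP : (⟨u, huH⟩ : ↥H) ∈ (P : Subgroup ↥H) := by
    have hn : (zpowers (⟨u, huH⟩ : ↥H)).Normal := ⟨fun n hn g => by
      obtain ⟨i, rfl⟩ := mem_zpowers_iff.1 hn
      have hc : Commute g (⟨u, huH⟩ : ↥H) := Subtype.ext (mem_centralizer_singleton_iff.1 g.2)
      rw [(hc.zpow_right i).eq, mul_inv_cancel_right]
      exact zpow_mem (mem_zpowers _) i⟩
    have h2 : IsPGroup 2 ↥(zpowers (⟨u, huH⟩ : ↥H)) := IsPGroup.of_card (n := 1)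
      (by rw [Nat.card_zpowers, Subgroup.orderOf_mk, hu, pow_one])
    have hsup : IsPGroup 2 ↥((P : Subgroup ↥H) ⊔ zpowers (⟨u, huH⟩ : ↥H)) := by
      haveI := hn
      exact P.isPGroup'.to_sup_of_normal_right h2
    exact (P.is_maximal' hsup le_sup_left).le (mem_sup_right (mem_zpowers _))
  have huT : u ∈ (T : Subgroup G) := hT ⟨_, huP, rfl⟩
  obtain ⟨B, hB, hB8, huB, hBT, hBH, hnB⟩ := exists_elementary_through S hI h4 T hu huT
  refine ⟨T, B, hB, hB8, huB, hBT, hT, ?_⟩
  set X := ↥H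
  haveI : Group.IsSolvable X := S.solvable (S.not_three_dvd_centralizer hu)
  have hX : ∀ r : ℕ, r.Prime → r ∣ Nat.card X → r = 2 ∨ r = q := fun r hr h =>
    S.prime_dvd (S.not_three_dvd_centralizer hu) hr h
  set B' := B.subgroupOf H with hB'
  have hB'P : B' ≤ (P : Subgroup X) := fun b hb => hTH b (hBT (mem_subgroupOf.1 hb))
  have hPB : (P : Subgroup X) ≤ normalizer (B' : Set X) := fun p hp =>
    mem_normalizer_of_conj_mem fun b hb => mem_subgroupOf.2
      (conj_mem (hnB ⟨hT ⟨p, hp, rfl⟩, p.2⟩) (mem_subgroupOf.1 hb))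
  have hB'2 : ∀ b ∈ B', b * b = 1 := fun b hb =>
    Subtype.ext (by rw [← sq, SubgroupClass.coe_pow]; exact hB.2 _ (mem_subgroupOf.1 hb))
  have hu' : ∀ x : X, x * ⟨u, huH⟩ = ⟨u, huH⟩ * x := fun x =>
    Subtype.ext (mem_centralizer_singleton_iff.1 x.2)
  have hcB : Nat.card B' = Nat.card B := Nat.card_congr (subgroupOfEquivOfLe hBH).toEquiv
  -- the elementary subgroup meets the two-part of the core in at least eight elements
  set E := ((P : Subgroup X) ⊓ coreTwo X ⊓ B').map H.subtype with hE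
  have hE8 : 8 ≤ Nat.card E := by
    rw [hE, Nat.card_congr (equivMapOfInjective _ H.subtype H.subtype_injective).symm.toEquiv]
    by_contra hlt
    push Not at hlt
    have e : (P : Subgroup X) ⊓ coreTwo X ⊓ B' = B' ⊓ coreTwo X := by
      ext x
      simp only [mem_inf]
      exact ⟨fun h => ⟨h.2, h.1.2⟩, fun h => ⟨⟨hB'P h.1, h.2⟩, h.1⟩⟩
    rw [e] at hlt
    obtain ⟨m, hm⟩ := IsPGroup.iff_card.1
      (P.isPGroup'.to_le ((inf_le_left : B' ⊓ coreTwo X ≤ B').trans hB'P))
    have h4' : Nat.card ↥(B' ⊓ coreTwo X) ≤ 4 := by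
      rw [hm] at hlt ⊢
      have hm3 : m < 3 := by
        by_contra h
        have : 2 ^ 3 ≤ 2 ^ m := Nat.pow_le_pow_right (by norm_num) (by omega)
        omega
      interval_cases m <;> omega
    have hle := le_coreTwo_of_small S.prime S.five hX hu' (Subtype.ext hu2)
      (fun e' => by
        have := congrArg Subtype.val e'
        simp only [OneMemClass.coe_one] at this
        rw [this, orderOf_one] at hu
        norm_num at hu)
      P hB'P hPB hB'2 (mem_subgroupOf.2 huB) h4'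
    rw [inf_eq_left.2 hle, hcB] at h4'
    omega
  have hEB : E ≤ B := by
    rintro _ ⟨x, hx, rfl⟩
    exact mem_subgroupOf.1 hx.2
  have hEe := CfsgLib.Comp.elemAb_mono hB hEB
  have hsigE : sig E = sig B := sig_eq_of_le S hB hB8 hEB (le_trans (by norm_num) hE8)
  have hcore : Cfsg.centralizerPPrimeCore 2 u ≤ sig B :=
    core_le_sig huB fun e => by rw [e, orderOf_one] at hu; norm_num at hu
  -- the normaliser of the two-part
  set U := (P : Subgroup X) ⊓ coreTwo X with hU
  have hnorm : ∀ n : X, n ∈ normalizer (U : Set X) → (n : G) ∈ normalizer (sig B : Set G) := by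
    intro n hn
    refine mem_norm_of_map_eq ?_
    have hE' : E.map (MulAut.conj (n : G)).toMonoidHom ≤ (T : Subgroup G) := by
      rintro _ ⟨_, ⟨x, hx, rfl⟩, rfl⟩
      refine hT ⟨n * x * n⁻¹, ?_, rfl⟩
      exact (mem_inf.1 (conj_mem hn (mem_inf.1 hx).1)).1
    have h8' : 8 ≤ Nat.card ↥(E.map (MulAut.conj (n : G)).toMonoidHom) := by
      rw [Nat.card_congr (equivMapOfInjective E _ (MulAut.conj (n : G)).injective).symm.toEquiv]
      exact hE8
    have hEn : Cfsg.IsElementaryAbelian 2 (E.map (MulAut.conj (n : G)).toMonoidHom) :=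
      elemAb_map hEe _
    calc (sig B).map (MulAut.conj (n : G)).toMonoidHom
        = (sig E).map (MulAut.conj (n : G)).toMonoidHom := by rw [hsigE]
      _ = sig (E.map (MulAut.conj (n : G)).toMonoidHom) := sig_conj _ _
      _ = sig B := sig_eq_of_sylow S hI h4 T hEn h8' hE' hB hB8 hBT
  -- the centraliser is the product of the core and that normaliser
  intro g hg
  haveI := coreTwo_normal (X := X)
  obtain ⟨Q, hQ⟩ : ∃ Q : Sylow 2 ↥(coreTwo X), (Q : Subgroup ↥(coreTwo X)).map
      (coreTwo X).subtype = U := by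
    obtain ⟨Q, hQ⟩ := ((P.isPGroup'.to_le (inf_le_left : U ≤ _)).of_equiv
      (subgroupOfEquivOfLe (inf_le_right : U ≤ coreTwo X)).symm).exists_le_sylow
    have hle : U ≤ (Q : Subgroup ↥(coreTwo X)).map (coreTwo X).subtype := fun x hx =>
      ⟨⟨x, (mem_inf.1 hx).2⟩, hQ (mem_subgroupOf.2 hx), rfl⟩
    refine ⟨Q, (eq_of_le_of_card_ge hle ?_).symm⟩
    obtain ⟨P', hP'⟩ := (Q.isPGroup'.map (coreTwo X).subtype).exists_le_sylow
    obtain ⟨c, hc⟩ := MulAction.exists_smul_eq X P' P
    refine le_of_eq_of_le (card_map_of_injective (f := (MulAut.conj c).toMonoidHom)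
      (MulAut.conj c).injective).symm (card_le_of_le ?_)
    rintro _ ⟨y, hy, rfl⟩
    refine ⟨?_, ?_⟩
    · rw [SetLike.mem_coe, ← hc, Sylow.coe_subgroup_smul]
      exact ⟨y, hP' hy, rfl⟩
    · obtain ⟨y', -, rfl⟩ := hy
      exact coreTwo_normal.conj_mem _ y'.2 c
  have htop := Sylow.normalizer_sup_eq_top Q
  rw [hQ] at htop
  have hx : (⟨g, hg⟩ : X) ∈ (↑(normalizer (U : Set X) ⊔ coreTwo X) : Set X) := by
    rw [htop]; exact Set.mem_univ _
  rw [mul_normal] at hx
  obtain ⟨n, hnN, c, hc, hnc⟩ := hx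
  obtain ⟨o, ho, t, ht, rfl⟩ := exists_part_coreTwo P hc
  have hg' : g = (n : G) * ((o : G) * (t : G)) := by
    have := congrArg Subtype.val hnc
    exact this.symm
  rw [hg']
  refine mul_mem (hnorm n hnN) (mul_mem (le_normalizer (hcore ?_)) (hnorm t (le_normalizer ht)))
  exact ⟨o, ho, rfl⟩

/-- Two Sylow subgroups through an involution have the same generated group, normalised by its
centraliser. -/
theorem sig_through (S : Setup G q) (hI : Free G) (h4 : ∃ x : G, orderOf x = 4) {u : G}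
    (hu : orderOf u = 2) (T T' : Sylow 2 G) (huT : u ∈ (T : Subgroup G))
    (huT' : u ∈ (T' : Subgroup G)) {E E' : Subgroup G} (hE : Cfsg.IsElementaryAbelian 2 E)
    (hE8 : 8 ≤ Nat.card E) (hET : E ≤ (T : Subgroup G)) (hE' : Cfsg.IsElementaryAbelian 2 E')
    (hE'8 : 8 ≤ Nat.card E') (hE'T : E' ≤ (T' : Subgroup G)) :
    sig E = sig E' ∧ centralizer ({u} : Set G) ≤ normalizer (sig E : Set G) := by
  haveI := Fact.mk Nat.prime_two
  set H := centralizer ({u} : Set G) with hH
  obtain ⟨P₀⟩ : Nonempty (Sylow 2 ↥H) := inferInstance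
  obtain ⟨T₀, B₀, hB₀, hB₀8, -, hB₀T, hP₀, hn₀⟩ := exists_base S hI h4 hu P₀
  suffices key : ∀ (T : Sylow 2 G) (E : Subgroup G), u ∈ (T : Subgroup G) →
      Cfsg.IsElementaryAbelian 2 E → 8 ≤ Nat.card E → E ≤ (T : Subgroup G) →
      sig E = sig B₀ from
    ⟨(key T E huT hE hE8 hET).trans (key T' E' huT' hE' hE'8 hE'T).symm,
      (key T E huT hE hE8 hET).symm ▸ hn₀⟩
  intro T E huT hE hE8 hET
  obtain ⟨B, hB, hB8, -, hBT, hBH, -⟩ := exists_elementary_through S hI h4 T hu huT
  obtain ⟨P, hP⟩ := exists_sylow_centralizer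
    (CfsgLib.Comp.isPGroup_of_elemAb hB) hBH
  obtain ⟨c, hc⟩ := MulAction.exists_smul_eq (↥H) P P₀
  have hBc : B.map (MulAut.conj (c : G)).toMonoidHom ≤ (T₀ : Subgroup G) := by
    rintro _ ⟨b, hb, rfl⟩
    obtain ⟨b', hb', rfl⟩ := hP hb
    refine hP₀ ⟨c * b' * c⁻¹, ?_, rfl⟩
    rw [SetLike.mem_coe, ← hc, Sylow.coe_subgroup_smul]
    exact ⟨b', hb', rfl⟩
  have h8 : 8 ≤ Nat.card ↥(B.map (MulAut.conj (c : G)).toMonoidHom) := by
    rw [Nat.card_congr (equivMapOfInjective B _ (MulAut.conj (c : G)).injective).symm.toEquiv]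
    exact hB8
  have hBce : Cfsg.IsElementaryAbelian 2 (B.map (MulAut.conj (c : G)).toMonoidHom) :=
    elemAb_map hB _
  have h1 := sig_eq_of_sylow S hI h4 T₀ hBce h8 hBc hB₀ hB₀8 hB₀T
  rw [← sig_conj] at h1
  have h2 : sig B = (sig B₀).map (MulAut.conj (c : G)⁻¹).toMonoidHom := by
    rw [← h1, map_conj_map, inv_mul_cancel, map_conj_one]
  rw [sig_eq_of_sylow S hI h4 T hE hE8 hET hB hB8 hBT, h2]
  exact map_eq_of_norm (hn₀ (inv_mem c.2))

end CfsgLib.InvChar.SecNineOpen
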