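import Cfsg.Agent.Lib.Char.Burnside
import Cfsg.Agent.Lib.Transfer.SimpleCount
import Cfsg.Agent.Lib.Comp.Signalizer
import Cfsg.Agent.Lib.InvChar.SecNineOpen.Fpf

/-!
# Simple groups of order `9 · 2ᵃ · qᵇ`, `b ≥ 2`, with self-centralising Sylow three-subgroups

Basic consequences: subgroups of order prime to three are solvable `{2, q}`-groups, elements of
order three act fixed-point-freely on them, and no proper subgroup contains both a Sylow
two-subgroup and a Sylow `q`-subgroup.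
-/

set_option autoImplicit false
set_option linter.unusedSectionVars false
set_option linter.style.haveILetI false

namespace CfsgLib.InvChar.SecNineOpen

open Subgroup

universe u

variable {G : Type u} [Group G]

/-- The hypotheses. -/
structure Setup (G : Type u) [Group G] (q : ℕ) : Prop where
  simple : IsSimpleGroup G
  nc : ¬ IsMulCommutative G
  prime : q.Prime
  five : 5 ≤ q
  ord : ∃ a b, 2 ≤ b ∧ Nat.card G = 9 * 2 ^ a * q ^ b
  cent : ∀ k : G, orderOf k = 3 → Nat.card ↥(centralizer ({k} : Set G)) = 9 ∧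
    (∀ x ∈ centralizer ({k} : Set G), x ^ 3 = 1) ∧
    ∀ x ∈ centralizer ({k} : Set G), x ≠ 1 → centralizer ({x} : Set G) = centralizer ({k} : Set G)

theorem eq_of_dvd_two_q {n a b q r : ℕ} (hq : q.Prime) (hn : n ∣ 9 * 2 ^ a * q ^ b)
    (hr : r.Prime) (hrn : r ∣ n) : r = 2 ∨ r = 3 ∨ r = q := by
  rcases (Nat.Prime.dvd_mul hr).1 (hrn.trans hn) with h | h
  · rcases (Nat.Prime.dvd_mul hr).1 h with h | h
    · exact Or.inr (Or.inl ((Nat.prime_dvd_prime_iff_eq hr Nat.prime_three).1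
        (hr.dvd_of_dvd_pow (show r ∣ 3 ^ 2 from h))))
    · exact Or.inl ((Nat.prime_dvd_prime_iff_eq hr Nat.prime_two).1 (hr.dvd_of_dvd_pow h))
  · exact Or.inr (Or.inr ((Nat.prime_dvd_prime_iff_eq hr hq).1 (hr.dvd_of_dvd_pow h)))

namespace Setup

variable [Finite G] {q : ℕ}

theorem q_ne_two (S : Setup G q) : q ≠ 2 := by have := S.five; omega

theorem q_ne_three (S : Setup G q) : q ≠ 3 := by have := S.five; omega

theorem three_dvd (S : Setup G q) : 3 ∣ Nat.card G := by
  obtain ⟨a, b, -, h⟩ := S.ord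
  rw [h]
  exact Dvd.dvd.mul_right (Dvd.dvd.mul_right (by norm_num) _) _

theorem card_two_q (S : Setup G q) {H : Subgroup G} (hH : ¬ 3 ∣ Nat.card H) :
    ∃ i j, Nat.card H = 2 ^ i * q ^ j := by
  obtain ⟨a, b, -, h⟩ := S.ord
  have hd := card_subgroup_dvd_card H
  rw [h, mul_assoc] at hd
  have hc : (Nat.card H).Coprime 9 :=
    Nat.Coprime.pow_right 2 ((Nat.prime_three.coprime_iff_not_dvd.2 hH).symm)
  obtain ⟨u, v, hu, hv, e⟩ := exists_dvd_and_dvd_of_dvd_mul (hc.dvd_of_dvd_mul_left hd)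
  obtain ⟨i, -, rfl⟩ := (Nat.dvd_prime_pow Nat.prime_two).1 hu
  obtain ⟨j, -, rfl⟩ := (Nat.dvd_prime_pow S.prime).1 hv
  exact ⟨i, j, e⟩

theorem solvable (S : Setup G q) {H : Subgroup G} (hH : ¬ 3 ∣ Nat.card H) : Group.IsSolvable H := by
  obtain ⟨i, j, h⟩ := S.card_two_q hH
  exact CfsgLib.Char.burnside_pq 2 q Nat.prime_two S.prime i j H h

theorem prime_dvd (S : Setup G q) {H : Subgroup G} (hH : ¬ 3 ∣ Nat.card H) {r : ℕ} (hr : r.Prime)
    (hrH : r ∣ Nat.card H) : r = 2 ∨ r = q := by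
  obtain ⟨a, b, -, h⟩ := S.ord
  rcases eq_of_dvd_two_q S.prime (h ▸ card_subgroup_dvd_card H) hr hrH with e | e | e
  · exact Or.inl e
  · exact absurd (e ▸ hrH) hH
  · exact Or.inr e

theorem isPGroup_two (S : Setup G q) {H : Subgroup G} (hH : ¬ 3 ∣ Nat.card H)
    (hq : ¬ q ∣ Nat.card H) : IsPGroup 2 H := by
  obtain ⟨i, j, h⟩ := S.card_two_q hH
  rcases j with _ | j
  · exact IsPGroup.of_card (n := i) (by simpa using h)
  · exact absurd (h ▸ dvd_mul_of_dvd_right (dvd_pow_self q (by omega)) _) hq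

theorem not_three_dvd_pgroup {r : ℕ} [Fact r.Prime] (hr : r ≠ 3) {P : Subgroup G} (hP : IsPGroup r P) :
    ¬ 3 ∣ Nat.card P := by
  obtain ⟨n, hn⟩ := IsPGroup.iff_card.1 hP
  rw [hn]
  exact fun h => hr ((Nat.prime_dvd_prime_iff_eq Nat.prime_three Fact.out).1
    (Nat.prime_three.dvd_of_dvd_pow h)).symm

theorem cube (k : G) (hk : orderOf k = 3) : k * k * k = 1 := by
  rw [← pow_three', ← hk, pow_orderOf_eq_one]

theorem fpf (S : Setup G q) {k : G} (hk : orderOf k = 3) {M : Subgroup G}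
    (hM : ¬ 3 ∣ Nat.card M) {m : G} (hm : m ∈ M) (hc : k * m * k⁻¹ = m) : m = 1 := by
  have hmc : m ∈ centralizer ({k} : Set G) :=
    mem_centralizer_singleton_iff.2 (mul_inv_eq_iff_eq_mul.1 hc).symm
  have h3 : orderOf m ∣ 3 := orderOf_dvd_of_pow_eq_one ((S.cent k hk).2.1 m hmc)
  rw [← orderOf_eq_one_iff]
  rcases (Nat.dvd_prime Nat.prime_three).1 h3 with e | e
  · exact e
  · exfalso
    refine hM ?_
    rw [← e, ← orderOf_mk m hm]
    exact orderOf_dvd_natCard _

theorem cubic (S : Setup G q) {k : G} (hk : orderOf k = 3) {P : Subgroup G}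
    (hP : IsPGroup 2 P) (hn : k ∈ normalizer (P : Set G)) : Cubic k P where
  cube := cube k hk
  norm := hn
  two := hP
  fpf := fun _ hp => S.fpf hk (haveI := Fact.mk Nat.prime_two
    not_three_dvd_pgroup (by norm_num) hP) hp

/-- The centraliser of an involution has order prime to three. -/
theorem not_three_dvd_centralizer (S : Setup G q) {u : G} (hu : orderOf u = 2) :
    ¬ 3 ∣ Nat.card ↥(centralizer ({u} : Set G)) := by
  intro h
  haveI := Fact.mk Nat.prime_three
  obtain ⟨k, hk⟩ := exists_prime_orderOf_dvd_card' 3 h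
  have hk3 : orderOf (k : G) = 3 := by rw [orderOf_coe, hk]
  have huc : u ∈ centralizer ({(k : G)} : Set G) :=
    mem_centralizer_singleton_iff.2 (mem_centralizer_singleton_iff.1 k.2).symm
  have h2 := orderOf_dvd_of_pow_eq_one ((S.cent _ hk3).2.1 u huc)
  rw [hu] at h2
  norm_num at h2

/-- **Index nine**: no proper subgroup contains a Sylow two- and a Sylow `q`-subgroup. -/
theorem index_nine (S : Setup G q) {H : Subgroup G} (hH : H ≠ ⊤) (h2 : ¬ 2 ∣ H.index)
    (hq : ¬ q ∣ H.index) : False := by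
  obtain ⟨a, b, hb, h⟩ := S.ord
  have hd : H.index ∣ 9 := by
    have h1 := H.index_dvd_card
    rw [h, mul_assoc] at h1
    refine (Nat.Coprime.mul_right ?_ ?_).dvd_of_dvd_mul_right h1
    · exact Nat.Coprime.pow_right a ((Nat.prime_two.coprime_iff_not_dvd.2 h2).symm)
    · exact Nat.Coprime.pow_right b ((S.prime.coprime_iff_not_dvd.2 hq).symm)
  haveI := S.simple
  have h1 := CfsgLib.Transfer.two_mul_card_dvd_factorial S.nc hH
  have h9 : q ^ 2 ∣ Nat.factorial 9 := by
    refine ((pow_dvd_pow q hb).trans ?_).trans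
      (Nat.factorial_dvd_factorial (Nat.le_of_dvd (by norm_num) hd))
    have h2' := (dvd_mul_left (Nat.card G) 2).trans h1
    rw [h] at h2'
    exact (dvd_mul_left _ _).trans h2'
  have h5 := S.five
  have hq9 : q ≤ 9 := (S.prime.dvd_factorial).1 ((dvd_pow_self q two_ne_zero).trans h9)
  norm_num [Nat.factorial] at h9
  interval_cases q <;> norm_num at h9 <;> exact absurd S.prime (by norm_num)

theorem ne_top_of_not_three (S : Setup G q) {H : Subgroup G} (hH : ¬ 3 ∣ Nat.card H) : H ≠ ⊤ := by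
  intro e
  rw [e, card_top] at hH
  exact hH S.three_dvd

theorem normalizer_ne_top (S : Setup G q) {X : Subgroup G} (hX : X ≠ ⊥) (hX3 : ¬ 3 ∣ Nat.card X) :
    normalizer (X : Set G) ≠ ⊤ := by
  intro e
  haveI := S.simple
  rcases IsSimpleGroup.eq_bot_or_eq_top_of_normal X (normalizer_eq_top_iff.1 e) with h | h
  · exact hX h
  · exact S.ne_top_of_not_three hX3 h

end Setup

end CfsgLib.InvChar.SecNineOpen
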