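import Cfsg.Agent.Lib.Recog.SelfCentThree.Final
import Cfsg.Agent.Lib.OddLocal.FittingHall
import Cfsg.Agent.Lib.InvChar.SecNineOpen.Setting

/-!
# Proper subgroups with a normal subgroup of order prime to three

They are nilpotent-by-`3` or nilpotent-by-`S₃`, or (for `q = 5`) elementary abelian by a simple
group of order sixty.
-/

set_option autoImplicit false
set_option linter.unusedSectionVars false
set_option linter.style.haveILetI false

namespace CfsgLib.InvChar.SecNineOpen

open Subgroup CfsgLib.Recog.SelfCentThree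

universe u

variable {G : Type u} [Group G] [Finite G] {q : ℕ}

/-- `K` is the nilpotent core of `H`, with quotient of order three or six. -/
structure Core (H K : Subgroup G) : Prop where
  le : K ≤ H
  norm : H ≤ normalizer (K : Set G)
  nil : Group.IsNilpotent K
  three : ¬ 3 ∣ Nat.card K
  card : Nat.card H = 3 * Nat.card K ∨ Nat.card H = 6 * Nat.card K

/-- The exceptional shape: elementary abelian by a simple group of order sixty. -/
structure Alt (q : ℕ) (H : Subgroup G) : Prop where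
  five : q = 5
  ext : ∃ E : Subgroup H, ∃ _ : E.Normal, (∀ a ∈ E, a * a = 1) ∧ IsSimpleGroup (H ⧸ E) ∧ E.index = 60

theorem isPGroup_two_of_sq {X : Type*} [Group X] {E : Subgroup X} (h : ∀ a ∈ E, a * a = 1) :
    IsPGroup 2 E :=
  fun a => ⟨1, Subtype.ext (by simpa [sq] using h a a.2)⟩

/-- A subgroup of order prime to three met by `k` in index at most two lies there. -/
theorem le_of_inv_relIndex (S : Setup G q) {k : G} (hk : orderOf k = 3) {L M : Subgroup G}
    (hL : ¬ 3 ∣ Nat.card L) (hkL : k ∈ normalizer (L : Set G)) (hkM : k ∈ normalizer (M : Set G))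
    (hi : M.relIndex L ≤ 2) : L ≤ M := by
  have hmem : ∀ l ∈ L, l⁻¹ * (k * l * k⁻¹) ∈ M := by
    intro l hl
    have hl' := mul_mem (inv_mem hl) (conj_mem hkL hl)
    have h0 := rne M L
    rcases (by omega : M.relIndex L = 1 ∨ M.relIndex L = 2) with e | e
    · exact (relIndex_eq_one.1 e) hl'
    · have : ((⟨l, hl⟩ : L)⁻¹ * ⟨k * l * k⁻¹, conj_mem hkL hl⟩) ∈ M.subgroupOf L := by
        rw [mul_mem_iff_of_index_two e, inv_mem_iff, mem_subgroupOf, mem_subgroupOf]
        exact mem_normalizer_iff.1 hkM l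
      exact this
  let f : L → ↥(L ⊓ M) := fun l =>
    ⟨(l : G)⁻¹ * (k * l * k⁻¹),
      mem_inf.2 ⟨mul_mem (inv_mem l.2) (conj_mem hkL l.2), hmem l l.2⟩⟩
  have hinj : Function.Injective f := by
    intro a b e
    have e' : (a : G)⁻¹ * (k * a * k⁻¹) = (b : G)⁻¹ * (k * b * k⁻¹) := congrArg Subtype.val e
    have h1 : k * ((b : G) * (a : G)⁻¹) * k⁻¹ = b * (a : G)⁻¹ := by
      calc k * ((b : G) * (a : G)⁻¹) * k⁻¹
          = b * ((b : G)⁻¹ * (k * b * k⁻¹)) * ((a : G) * ((a : G)⁻¹ * (k * a * k⁻¹)))⁻¹ := by group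
        _ = b * (a : G)⁻¹ := by rw [e']; group
    exact Subtype.ext (mul_inv_eq_one.1 (S.fpf hk hL (mul_mem b.2 (inv_mem a.2)) h1)).symm
  exact (eq_of_le_of_card_ge inf_le_left (Nat.card_le_card_of_injective f hinj)).symm.le.trans
    inf_le_right

/-- The trichotomy of the proper subgroups. -/
theorem local_cases (S : Setup G q) {H M : Subgroup G} (hM : M ≠ ⊥) (hM3 : ¬ 3 ∣ Nat.card M)
    (hMH : M ≤ H) (hn : H ≤ normalizer (M : Set G)) {k : G} (hk : orderOf k = 3) (hkH : k ∈ H) :
    (∃ K, Core H K) ∨ Alt q H := by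
  haveI := Fact.mk Nat.prime_three
  have h9 : ¬ 3 ^ 2 ∣ Nat.card H := by
    intro h9
    obtain ⟨P, hP⟩ := Sylow.exists_subgroup_card_pow_prime (G := H) 3 h9
    haveI : IsMulCommutative P := IsPGroup.isMulCommutative_of_card_eq_prime_sq (p := 3) hP
    obtain ⟨r, hr⟩ := exists_prime_orderOf_dvd_card' (G := P) 3 (by rw [hP]; norm_num)
    have hr3 : orderOf ((r : H) : G) = 3 := by rw [orderOf_coe, orderOf_coe, hr]
    obtain ⟨hc9, hcexp, hcc⟩ := S.cent _ hr3
    set A := centralizer ({((r : H) : G)} : Set G) with hA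
    have hPA : P.map H.subtype ≤ A := by
      rintro _ ⟨p, hp, rfl⟩
      exact mem_centralizer_singleton_iff.2
        (congrArg (fun z : P => ((z : H) : G)) (mul_comm' (⟨p, hp⟩ : P) r))
    have hPAeq : P.map H.subtype = A := eq_of_le_of_card_ge hPA
      (by rw [hc9, card_map_of_injective H.subtype_injective, hP]; norm_num)
    have hAn : A ≤ normalizer (M : Set G) := hPAeq ▸ (map_subtype_le P).trans hn
    have hAel : Cfsg.IsElementaryAbelian 3 A := by
      refine ⟨⟨⟨fun x y => ?_⟩⟩, fun x hx => hcexp x hx⟩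
      apply Subtype.ext
      obtain ⟨p, hp, hpx⟩ := hPAeq.ge x.2
      obtain ⟨p', hp', hpy⟩ := hPAeq.ge y.2
      simp only [Subgroup.coe_mul, ← hpx, ← hpy]
      exact congrArg (fun z : P => H.subtype (z : H)) (mul_comm' (⟨p, hp⟩ : P) ⟨p', hp'⟩)
    have hA1 : A ≠ ⊥ := fun e => by rw [e, card_bot] at hc9; norm_num at hc9
    refine hM (le_bot_iff.1 ?_)
    rw [CfsgLib.Comp.eq_iSup_centralizer_hyperplane hAel hA1 hM3 hAn]
    refine iSup_le fun B => ?_
    rintro m ⟨hmM, hmB⟩
    have hB1 : (B : Subgroup G) ≠ ⊥ := by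
      intro e
      have := B.2.2
      rw [e, relIndex_bot_left, hc9] at this
      norm_num at this
    obtain ⟨x, hx, hx1⟩ := CfsgLib.Comp.exists_mem_ne_one hB1
    have hxA := B.2.1 hx
    have hx3 : orderOf x = 3 := orderOf_eq_prime (hcexp x hxA) hx1
    exact mem_bot.2 (S.fpf hx3 hM3 hmM
      (mul_inv_eq_iff_eq_mul.2 (mem_centralizer_iff.1 hmB x hx)))
  have hyp : Hyp (⟨k, hkH⟩ : H) := by
    have hord : orderOf (⟨k, hkH⟩ : H) = 3 := by rw [orderOf_mk, hk]
    refine ⟨hord, (eq_of_le_of_card_ge (zpowers_le.2 (mem_centralizer_singleton_iff.2 rfl)) ?_).symm⟩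
    rw [Nat.card_zpowers, hord]
    set C := centralizer ({(⟨k, hkH⟩ : H)} : Set H)
    have hd : Nat.card C ∣ 3 ^ 2 := by
      rw [← card_map_of_injective H.subtype_injective]
      refine (card_dvd_of_le ?_).trans (by rw [(S.cent k hk).1]; norm_num)
      rintro _ ⟨c, hc, rfl⟩
      exact mem_centralizer_singleton_iff.2 (congrArg Subtype.val
        (mem_centralizer_singleton_iff.1 hc))
    obtain ⟨i, hi, he⟩ := (Nat.dvd_prime_pow Nat.prime_three).1 hd
    rcases i with _ | _ | _ | i
    · rw [he]; norm_num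
    · rw [he]; norm_num
    · exact absurd (he ▸ card_subgroup_dvd_card C) h9
    · omega
  rcases conc hyp with ⟨N, hN, hnil, hN3, hNi⟩ | ⟨E, hE, hsq, hsimp, hi⟩ | ⟨hsimp, -⟩
  · left
    refine ⟨N.map H.subtype, map_subtype_le N, ?_, ?_, ?_, ?_⟩
    · intro h hh
      refine mem_normalizer_of_conj_mem ?_
      rintro _ ⟨n, hn, rfl⟩
      exact ⟨⟨h, hh⟩ * n * (⟨h, hh⟩ : H)⁻¹, hN.conj_mem n hn _, by simp⟩
    · haveI := hnil
      exact Group.nilpotent_of_mulEquiv (equivMapOfInjective N _ H.subtype_injective)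
    · rwa [card_map_of_injective H.subtype_injective]
    · rw [card_map_of_injective H.subtype_injective]
      have := card_mul_index N
      rcases hNi with e | e <;> rw [e] at this <;> omega
  · right
    refine ⟨?_, E, hE, hsq, hsimp, hi⟩
    obtain ⟨a, b, -, hG⟩ := S.ord
    have h5 : 5 ∣ Nat.card G :=
      (hi ▸ (by norm_num : 5 ∣ 60)).trans (E.index_dvd_card.trans H.card_subgroup_dvd_card)
    rcases eq_of_dvd_two_q S.prime (hG ▸ h5) (by norm_num : Nat.Prime 5) dvd_rfl with e | e | e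
    · norm_num at e
    · norm_num at e
    · exact e.symm
  · exfalso
    haveI : (M.subgroupOf H).Normal := normal_subgroupOf_of_le_normalizer hn
    rcases hsimp.eq_bot_or_eq_top_of_normal (M.subgroupOf H) inferInstance with e | e
    · refine hM (le_bot_iff.1 fun m hm => ?_)
      have : (⟨m, hMH hm⟩ : H) ∈ M.subgroupOf H := hm
      rw [e, mem_bot] at this
      exact mem_bot.2 (congrArg Subtype.val this)
    · have : k ∈ M := subgroupOf_eq_top.1 e hkH
      exact hM3 (by rw [← hk, ← orderOf_mk k this]; exact orderOf_dvd_natCard _)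

namespace Core

variable {H K : Subgroup G}

/-- An invariant subgroup of order prime to three lies in the core. -/
theorem inv_le (S : Setup G q) (hC : Core H K) {k : G} (hk : orderOf k = 3) (hkH : k ∈ H)
    {L : Subgroup G} (hLH : L ≤ H) (hL : ¬ 3 ∣ Nat.card L) (hkL : k ∈ normalizer (L : Set G)) :
    L ≤ K := by
  refine le_of_inv_relIndex S hk hL hkL (hC.norm hkH) ?_
  haveI : (K.subgroupOf H).Normal := normal_subgroupOf_of_le_normalizer hC.norm
  have h6 : K.relIndex H ∣ 6 := by
    have := relIndex_mul_relIndex ⊥ K H bot_le hC.le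
    simp only [relIndex_bot_left] at this
    have hp := Nat.card_pos (α := K)
    rcases hC.card with e | e <;> rw [e] at this
    · rw [mul_comm 3 (Nat.card K)] at this
      rw [Nat.eq_of_mul_eq_mul_left hp this]
      norm_num
    · rw [mul_comm 6 (Nat.card K)] at this
      rw [Nat.eq_of_mul_eq_mul_left hp this]
  have hd : K.relIndex L ∣ K.relIndex H := by
    rw [← (Subgroup.relIndex_subgroupOf hLH :
      (K.subgroupOf H).relIndex (L.subgroupOf H) = K.relIndex L)]
    exact relIndex_dvd_index_of_normal (H := K.subgroupOf H) (K := L.subgroupOf H)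
  have h3 : ¬ 3 ∣ K.relIndex L := fun h => hL (h.trans (relIndex_dvd_card K L))
  have h0 := rne K L
  have := Nat.le_of_dvd (by norm_num) (hd.trans h6)
  have h6' := hd.trans h6
  interval_cases K.relIndex L <;> simp_all

theorem mem_of_orderOf (hC : Core H K) {y : G} (hy : y ∈ H) (ho : (orderOf y).Coprime 6) :
    y ∈ K := by
  haveI : (K.subgroupOf H).Normal := normal_subgroupOf_of_le_normalizer hC.norm
  have h6 : K.relIndex H ∣ 6 := by
    have := relIndex_mul_relIndex ⊥ K H bot_le hC.le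
    simp only [relIndex_bot_left] at this
    have hp := Nat.card_pos (α := K)
    rcases hC.card with e | e <;> rw [e] at this
    · rw [mul_comm 3 (Nat.card K)] at this
      rw [Nat.eq_of_mul_eq_mul_left hp this]
      norm_num
    · rw [mul_comm 6 (Nat.card K)] at this
      rw [Nat.eq_of_mul_eq_mul_left hp this]
  have h1 : y ^ K.relIndex H ∈ K :=
    pow_index_mem (K.subgroupOf H) (⟨y, hy⟩ : H)
  obtain ⟨n, hn⟩ := exists_pow_eq_self_of_coprime ((ho.coprime_dvd_right h6).symm)
  rw [← hn]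
  exact pow_mem h1 n

/-- The part of the core for one prime. -/
theorem exists_part (hC : Core H K) (r : ℕ) [Fact r.Prime] :
    ∃ P : Subgroup G, P ≤ K ∧ IsPGroup r P ∧ H ≤ normalizer (P : Set G) ∧
      (∀ X : Subgroup G, X ≤ K → IsPGroup r X → X ≤ P) ∧ ¬ r ∣ P.relIndex K := by
  haveI := hC.nil
  obtain ⟨Q⟩ : Nonempty (Sylow r K) := inferInstance
  have hQn : (Q : Subgroup K).Normal :=
    (Group.isNilpotent_of_finite_tfae (G := K)).out 0 3 rfl rfl |>.mp hC.nil r inferInstance Q
  haveI := hQn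
  have hmax : ∀ X : Subgroup G, X ≤ K → IsPGroup r X → X.subgroupOf K ≤ (Q : Subgroup K) := by
    intro X hX hXr
    have h1 : IsPGroup r ↥(X.subgroupOf K) := hXr.of_equiv (subgroupOfEquivOfLe hX).symm
    obtain ⟨Q', hQ'⟩ := h1.exists_le_sylow
    haveI := Sylow.unique_of_normal Q hQn
    exact hQ'.trans (le_of_eq (congrArg Sylow.toSubgroup (Subsingleton.elim Q' Q)))
  refine ⟨(Q : Subgroup K).map K.subtype, map_subtype_le _, Q.isPGroup'.map _, ?_, ?_, ?_⟩
  · intro h hh
    refine mem_normalizer_of_conj_mem ?_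
    rintro _ ⟨x, hx, rfl⟩
    set Y := ((Q : Subgroup K).map K.subtype).map (MulAut.conj h).toMonoidHom with hY
    have hYK : Y ≤ K := by
      rintro _ ⟨_, ⟨z, -, rfl⟩, rfl⟩
      exact conj_mem (hC.norm hh) z.2
    have := hmax Y hYK ((Q.isPGroup'.map _).map _)
    have hm : h * (x : G) * h⁻¹ ∈ Y := ⟨_, ⟨x, hx, rfl⟩, rfl⟩
    exact ⟨⟨_, hYK hm⟩, this (mem_subgroupOf.2 hm), rfl⟩
  · intro X hX hXr x hx
    exact ⟨⟨x, hX hx⟩, hmax X hX hXr (mem_subgroupOf.2 hx), rfl⟩
  · rw [relIndex, subgroupOf, comap_map_eq_self_of_injective K.subtype_injective]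
    exact Q.not_dvd_index

/-- Elements of coprime orders in the core commute. -/
theorem commute_of_coprime (hC : Core H K) {x y : G} (hx : x ∈ K) (hy : y ∈ K)
    (h : (orderOf x).Coprime (orderOf y)) : Commute x y := by
  haveI := hC.nil
  exact (CfsgLib.OddLocal.commute_of_coprime_of_isNilpotent hC.nil (x := (⟨x, hx⟩ : K))
    (y := ⟨y, hy⟩) (by rwa [orderOf_mk, orderOf_mk])).map K.subtype

end Core

namespace Alt

variable {H : Subgroup G}

theorem two_q (hA : Alt q H) : q.Prime ∧ q = 5 := by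
  obtain ⟨h, -⟩ := hA
  subst h
  norm_num

/-- A subgroup of order prime to three containing a Sylow two-subgroup has no element of order five. -/
theorem not_five_dvd (hA : Alt q H) {L : Subgroup G} (hLH : L ≤ H) (hL : ¬ 3 ∣ Nat.card L)
    (h2 : ¬ 2 ∣ L.relIndex H) : ¬ q ∣ Nat.card L := by
  obtain ⟨rfl, E, hE, hsq, hsimp, hi⟩ := hA
  intro h5
  haveI := Fact.mk (by norm_num : Nat.Prime 5)
  set π := QuotientGroup.mk' E
  set Lb := (L.subgroupOf H).map π with hLb
  have hc : Nat.card (H ⧸ E) = 60 := hi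
  have hnc := simple_sixty_not_comm hc
  have hne : Lb ≠ ⊤ := by
    intro e
    have hd := card_map_dvd (L.subgroupOf H) π
    rw [← hLb, e, card_top, hc, Nat.card_congr (subgroupOfEquivOfLe hLH).toEquiv] at hd
    exact hL ((by norm_num : 3 ∣ 60).trans hd)
  have hi5 := five_le_index hnc (by rw [hc]; norm_num) hne
  have h2' : ¬ 2 ∣ Lb.index := by
    intro h
    refine h2 (h.trans ?_)
    exact index_map_dvd _ (QuotientGroup.mk'_surjective E)
  obtain ⟨y, hy⟩ := exists_prime_orderOf_dvd_card' (G := L) 5 h5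
  have hy' : ¬ 5 ∣ Lb.index := by
    intro h
    have hπy : π ⟨y, hLH y.2⟩ ∈ Lb := mem_map_of_mem _ (mem_subgroupOf.2 y.2)
    have ho : orderOf (π ⟨y, hLH y.2⟩) = 5 := by
      refine orderOf_eq_prime ?_ ?_
      · rw [← map_pow, ← map_one π]
        congr 1
        apply Subtype.ext
        show (y : G) ^ 5 = 1
        rw [← hy, ← orderOf_coe, pow_orderOf_eq_one]
      · intro e
        have := hsq _ ((QuotientGroup.eq_one_iff _).1 e)
        have h2 : orderOf (⟨y, hLH y.2⟩ : H) ∣ 2 := orderOf_dvd_of_pow_eq_one (by rw [sq]; exact this)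
        rw [orderOf_mk, orderOf_coe, hy] at h2
        norm_num at h2
    have h5d : 5 ∣ Nat.card Lb := by
      rw [← ho, ← orderOf_mk _ hπy]
      exact orderOf_dvd_natCard _
    have h25 := Nat.mul_dvd_mul h5d h
    rw [card_mul_index, hc] at h25
    norm_num at h25
  have hd := Lb.index_dvd_card
  rw [hc] at hd
  have := Nat.le_of_dvd (by norm_num) hd
  have h15 : Lb.index ∣ 3 := by
    refine Nat.Coprime.dvd_of_dvd_mul_left (k := Lb.index) (m := 20) ?_ (by norm_num; exact hd)
    rw [show (20 : ℕ) = 2 ^ 2 * 5 by norm_num]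
    exact Nat.Coprime.mul_right (Nat.Coprime.pow_right 2 (Nat.prime_two.coprime_iff_not_dvd.2 h2').symm)
      ((by norm_num : Nat.Prime 5).coprime_iff_not_dvd.2 hy').symm
  have := Nat.le_of_dvd (by norm_num) h15
  omega

/-- An element of order five and an involution of `H` do not commute outside the elementary part. -/
theorem not_commute_five (hA : Alt q H) {y u : G} (hy : y ∈ H) (hu : u ∈ H) (hyo : orderOf y = q)
    (huo : orderOf u = 2) (hc : Commute y u) :
    ∃ E : Subgroup H, ∃ _ : E.Normal, (∀ a ∈ E, a * a = 1) ∧ IsSimpleGroup (H ⧸ E) ∧ E.index = 60 ∧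
      (⟨u, hu⟩ : H) ∈ E := by
  obtain ⟨rfl, E, hE, hsq, hsimp, hi⟩ := hA
  refine ⟨E, hE, hsq, hsimp, hi, ?_⟩
  by_contra huE
  haveI := Fact.mk (by norm_num : Nat.Prime 5)
  haveI := Fact.mk Nat.prime_two
  have hc60 : Nat.card (H ⧸ E) = 60 := hi
  have hnc := simple_sixty_not_comm hc60
  set π := QuotientGroup.mk' E
  set yb := π ⟨y, hy⟩ with hyb
  set ub := π ⟨u, hu⟩ with hub
  have hyo' : orderOf yb = 5 := by
    refine orderOf_eq_prime ?_ ?_
    · rw [hyb, ← map_pow, ← map_one π]
      congr 1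
      apply Subtype.ext
      simp [← hyo, pow_orderOf_eq_one]
    · intro e
      have := hsq _ ((QuotientGroup.eq_one_iff _).1 e)
      have h2 : orderOf (⟨y, hy⟩ : H) ∣ 2 := orderOf_dvd_of_pow_eq_one (by rw [sq]; exact this)
      rw [orderOf_mk, hyo] at h2
      norm_num at h2
  have huo' : orderOf ub = 2 := by
    refine orderOf_eq_prime ?_ ?_
    · rw [hub, ← map_pow, ← map_one π]
      congr 1
      apply Subtype.ext
      simp [← huo, pow_orderOf_eq_one]
    · exact fun e => huE ((QuotientGroup.eq_one_iff _).1 e)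
  have hcomm : Commute yb ub := (show Commute (⟨y, hy⟩ : H) ⟨u, hu⟩ from Subtype.ext hc.eq).map π
  -- the centraliser of the image involution contains a Sylow two-subgroup and `yb`
  obtain ⟨V, hV⟩ := (IsPGroup.of_card (n := 1) (by rw [Nat.card_zpowers, huo', pow_one]) :
    IsPGroup 2 (zpowers ub)).exists_le_sylow
  have hV4 : Nat.card (V : Subgroup (H ⧸ E)) = 4 := by
    rw [V.card_eq_multiplicity, hc60, show (60 : ℕ) = 2 ^ 2 * 15 by norm_num,
      Nat.factorization_mul (by norm_num) (by norm_num), Finsupp.add_apply, Nat.factorization_pow,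
      Finsupp.smul_apply, Nat.Prime.factorization_self Nat.prime_two,
      Nat.factorization_eq_zero_of_not_dvd (by norm_num : ¬ 2 ∣ 15)]
    norm_num
  haveI : IsMulCommutative (V : Subgroup (H ⧸ E)) :=
    IsPGroup.isMulCommutative_of_card_eq_prime_sq (p := 2) (by rw [hV4]; norm_num)
  set C := centralizer ({ub} : Set (H ⧸ E)) with hC
  have hVC : (V : Subgroup (H ⧸ E)) ≤ C := fun v hv => mem_centralizer_singleton_iff.2
    (congrArg Subtype.val (mul_comm' (⟨v, hv⟩ : ↥(V : Subgroup (H ⧸ E))) ⟨ub, hV (mem_zpowers ub)⟩))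
  have hyC : yb ∈ C := mem_centralizer_singleton_iff.2 hcomm.eq
  have h20 : 20 ∣ Nat.card C := by
    rw [show (20 : ℕ) = 4 * 5 by norm_num]
    refine (show Nat.Coprime 4 5 by norm_num).mul_dvd_of_dvd_of_dvd (hV4 ▸ card_dvd_of_le hVC) ?_
    rw [← hyo', ← orderOf_mk yb hyC]
    exact orderOf_dvd_natCard _
  have hne : C ≠ ⊤ := by
    intro e
    have h1 : ub ∈ center (H ⧸ E) := mem_center_iff.2 fun g =>
      mem_centralizer_singleton_iff.1 (show g ∈ C from e ▸ mem_top g)
    rcases hsimp.eq_bot_or_eq_top_of_normal (center (H ⧸ E)) inferInstance with e' | e'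
    · rw [e', mem_bot] at h1
      rw [h1, orderOf_one] at huo'
      norm_num at huo'
    · exact hnc ⟨⟨fun a b => (mem_center_iff.1 (show b ∈ center (H ⧸ E) from e' ▸ mem_top b) a)⟩⟩
  have hi5 := five_le_index hnc (by rw [hc60]; norm_num) hne
  obtain ⟨c, hc'⟩ := h20
  have := card_mul_index C
  rw [hc60, hc'] at this
  have hc0 : c ≠ 0 := fun e => by simp [e] at this
  nlinarith [Nat.one_le_iff_ne_zero.2 hc0]

end Alt

end CfsgLib.InvChar.SecNineOpen
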