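import Cfsg.Agent.Lib.Coprime.InvariantMaximalOrbit
import Cfsg.Agent.Lib.InvChar.SecNineOpen.Core

/-!
# Maximal two-subgroups normalised by an element of order three

Their normalisers, the shape of the Sylow two-subgroup around them, and the absence of
`q`-elements centralising them.
-/

set_option autoImplicit false
set_option linter.unusedSectionVars false
set_option linter.style.haveILetI false

namespace CfsgLib.InvChar.SecNineOpen

open Subgroup CfsgLib.Recog.SelfCentThree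

universe u

variable {G : Type u} [Group G] [Finite G] {q : ℕ} {k : G} {P : Subgroup G}

/-- A maximal two-subgroup normalised by `k`. -/
structure MaxTwo (k : G) (P : Subgroup G) : Prop where
  two : IsPGroup 2 P
  norm : k ∈ normalizer (P : Set G)
  ne : P ≠ ⊥
  max : ∀ P' : Subgroup G, IsPGroup 2 P' → k ∈ normalizer (P' : Set G) → P ≤ P' → P' = P

theorem exists_maxTwo {X : Subgroup G} (hX : IsPGroup 2 X) (hkX : k ∈ normalizer (X : Set G))
    (hX1 : X ≠ ⊥) : ∃ P, MaxTwo k P ∧ X ≤ P := by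
  obtain ⟨P, hXP, hP, hmax⟩ := Set.Finite.exists_le_maximal
    (Set.toFinite {Y : Subgroup G | IsPGroup 2 Y ∧ k ∈ normalizer (Y : Set G)}) ⟨hX, hkX⟩
  exact ⟨P, ⟨hP.1, hP.2, fun e => hX1 (le_bot_iff.1 (e ▸ hXP)),
    fun P' h1 h2 hle => le_antisymm (hmax ⟨h1, h2⟩ hle) hle⟩, hXP⟩

theorem not_three_dvd_two {X : Subgroup G} (hX : IsPGroup 2 X) : ¬ 3 ∣ Nat.card X :=
  haveI := Fact.mk Nat.prime_two
  Setup.not_three_dvd_pgroup (by norm_num) hX

theorem normalizer_inf {X Y : Subgroup G} {g : G} (h1 : g ∈ normalizer (X : Set G))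
    (h2 : g ∈ normalizer (Y : Set G)) : g ∈ normalizer ((X ⊓ Y : Subgroup G) : Set G) :=
  mem_normalizer_iff.2 fun z => by
    rw [mem_inf, mem_inf, mem_normalizer_iff.1 h1 z, mem_normalizer_iff.1 h2 z]

/-- In the exceptional shape `k` generates its centraliser. -/
theorem hyp_of_alt (S : Setup G q) (hk : orderOf k = 3) {H : Subgroup G} (hkH : k ∈ H)
    {E : Subgroup H} (hsq : ∀ a ∈ E, a * a = 1) (hi : E.index = 60) : Hyp (⟨k, hkH⟩ : H) := by
  haveI := Fact.mk Nat.prime_three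
  refine ⟨by rw [orderOf_mk, hk], (eq_of_le_of_card_ge
    (zpowers_le.2 (mem_centralizer_singleton_iff.2 rfl)) ?_).symm⟩
  rw [Nat.card_zpowers, orderOf_mk, hk]
  set C := centralizer ({(⟨k, hkH⟩ : H)} : Set H)
  have hd : Nat.card C ∣ 3 ^ 2 := by
    rw [← card_map_of_injective H.subtype_injective]
    refine (card_dvd_of_le ?_).trans (by rw [(S.cent k hk).1]; norm_num)
    rintro _ ⟨c, hc, rfl⟩
    exact mem_centralizer_singleton_iff.2 (congrArg Subtype.val
      (mem_centralizer_singleton_iff.1 hc))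
  obtain ⟨i, hi', he⟩ := (Nat.dvd_prime_pow Nat.prime_three).1 hd
  rcases i with _ | _ | _ | i
  · rw [he]; norm_num
  · rw [he]; norm_num
  · exfalso
    have h9 : 9 ∣ Nat.card H := by
      have := card_subgroup_dvd_card C
      rw [he] at this
      exact this
    have hE2 := isPGroup_two_of_sq hsq
    have := card_mul_index E
    rw [hi] at this
    obtain ⟨n, hn'⟩ := IsPGroup.iff_card.1 hE2
    rw [← this, hn', show (60 : ℕ) = 3 * 20 by norm_num, ← mul_assoc, mul_comm _ 3, mul_assoc,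
      show (9 : ℕ) = 3 * 3 by norm_num] at h9
    have h3 := Nat.dvd_of_mul_dvd_mul_left (by norm_num) h9
    rcases (Nat.Prime.dvd_mul Nat.prime_three).1 h3 with h | h
    · exact absurd (Nat.prime_three.dvd_of_dvd_pow h) (by norm_num)
    · norm_num at h
  · omega

/-- An invariant subgroup of order prime to three forces the nilpotent shape as soon as `q` divides it. -/
theorem core_of_q (S : Setup G q) {H M L : Subgroup G} (hM : M ≠ ⊥) (hM3 : ¬ 3 ∣ Nat.card M)
    (hMH : M ≤ H) (hn : H ≤ normalizer (M : Set G)) (hk : orderOf k = 3) (hkH : k ∈ H)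
    (hLH : L ≤ H) (hL : ¬ 3 ∣ Nat.card L) (hkL : k ∈ normalizer (L : Set G))
    (hq : q ∣ Nat.card L) : ∃ K, Core H K ∧ L ≤ K := by
  rcases local_cases S hM hM3 hMH hn hk hkH with ⟨K, hK⟩ | ⟨h5, E, hE, hsq, hsimp, hi⟩
  · exact ⟨K, hK, hK.inv_le S hk hkH hLH hL hkL⟩
  exfalso
  subst h5
  haveI := Fact.mk (by norm_num : Nat.Prime 5)
  haveI := Fact.mk Nat.prime_three
  have hyp : Hyp (⟨k, hkH⟩ : H) := hyp_of_alt S hk hkH hsq hi
  have hE3 : ¬ 3 ∣ Nat.card E := by
    obtain ⟨n, hn'⟩ := IsPGroup.iff_card.1 (isPGroup_two_of_sq hsq)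
    rw [hn']
    exact fun h => absurd (Nat.prime_three.dvd_of_dvd_pow h) (by norm_num)
  have hq' := hyp.quotient E hE3
  have hc60 : Nat.card (H ⧸ E) = 60 := hi
  set π := QuotientGroup.mk' E with hπ
  have hinv : Inv (π ⟨k, hkH⟩) ((L.subgroupOf H).map π) :=
    Inv.image ((show Inv k L from ⟨hkL, hL⟩).subgroupOf hkH hLH) π
  have h14 := card_le_of_inv_sixty hq' hc60 (simple_sixty_not_comm hc60) hinv
  obtain ⟨y, hy⟩ := exists_prime_orderOf_dvd_card' (G := L) 5 hq
  have hy1 : π ⟨y, hLH y.2⟩ ∈ (L.subgroupOf H).map π :=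
    mem_map_of_mem _ (mem_subgroupOf.2 y.2)
  have ho : orderOf (π ⟨y, hLH y.2⟩) ∣ 5 := by
    refine (orderOf_map_dvd π _).trans ?_
    rw [orderOf_mk, orderOf_coe, hy]
  have ho' : orderOf (π ⟨y, hLH y.2⟩) ∣ Nat.card ((L.subgroupOf H).map π) := by
    rw [← orderOf_mk _ hy1]
    exact orderOf_dvd_natCard _
  have h1 : π ⟨y, hLH y.2⟩ = 1 := by
    rw [← orderOf_eq_one_iff]
    refine Nat.eq_one_of_dvd_coprimes ?_ ho ho'
    rcases h14 with e | e <;> rw [e] <;> norm_num
  have := hsq _ ((QuotientGroup.eq_one_iff _).1 h1)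
  have h2 : orderOf (⟨y, hLH y.2⟩ : H) ∣ 2 := orderOf_dvd_of_pow_eq_one (by rw [sq]; exact this)
  rw [orderOf_mk, orderOf_coe, hy] at h2
  norm_num at h2

namespace MaxTwo

/-- The normaliser has the nilpotent shape and `P` is the two-part of its core. -/
theorem exists_core (hP : MaxTwo k P) (S : Setup G q) (hk : orderOf k = 3) :
    ∃ K, Core (normalizer (P : Set G)) K ∧ P ≤ K ∧ ∀ X : Subgroup G, X ≤ K → IsPGroup 2 X → X ≤ P := by
  haveI := Fact.mk Nat.prime_two
  rcases local_cases S hP.ne (not_three_dvd_two hP.two) le_normalizer le_rfl hk hP.norm with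
    ⟨K, hK⟩ | ⟨h5, E, hE, hsq, hsimp, hi⟩
  · have hPK := hK.inv_le S hk hP.norm le_normalizer (not_three_dvd_two hP.two) hP.norm
    obtain ⟨P₂, hP₂K, hP₂, hn, hmax, -⟩ := hK.exists_part 2
    have e := hP.max P₂ hP₂ (hn hP.norm) (hmax P hPK hP.two)
    exact ⟨K, hK, hPK, fun X hX hX2 => (hmax X hX hX2).trans e.le⟩
  exfalso
  generalize hH : normalizer (P : Set G) = H at E hE hsq hsimp hi
  have hPH : P ≤ H := hH ▸ le_normalizer
  haveI := hE
  have hc60 : Nat.card (H ⧸ E) = 60 := hi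
  set π := QuotientGroup.mk' E with hπ
  have hPE : P.subgroupOf H ≤ E := by
    haveI : (P.subgroupOf H).Normal := normal_subgroupOf_of_le_normalizer hH.ge
    have hn : ((P.subgroupOf H).map π).Normal :=
      Normal.map inferInstance π (QuotientGroup.mk'_surjective E)
    rcases hsimp.eq_bot_or_eq_top_of_normal _ hn with e | e
    · rwa [Subgroup.map_eq_bot_iff, hπ, QuotientGroup.ker_mk'] at e
    · exfalso
      have h1 := (hP.two.of_equiv (subgroupOfEquivOfLe hPH).symm).map π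
      rw [e] at h1
      obtain ⟨n, hn'⟩ := IsPGroup.iff_card.1 h1
      rw [card_top, hc60] at hn'
      have : 3 ∣ 2 ^ n := ⟨20, by omega⟩
      exact absurd (Nat.prime_three.dvd_of_dvd_pow this) (by norm_num)
  haveI := Fact.mk Nat.prime_three
  have hE2 := isPGroup_two_of_sq hsq
  have hkH : k ∈ H := hH ▸ hP.norm
  have hq' : Hyp (π ⟨k, hkH⟩) := (hyp_of_alt S hk hkH hsq hi).quotient E (by
    obtain ⟨n, hn'⟩ := IsPGroup.iff_card.1 hE2
    rw [hn']
    exact fun h => absurd (Nat.prime_three.dvd_of_dvd_pow h) (by norm_num))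
  obtain ⟨W, hW, hW4⟩ := exists_inv_four_sixty hq' hc60 (simple_sixty_not_comm hc60)
  set W' := (W.comap π).map H.subtype with hW'
  have hker : π.ker = E := QuotientGroup.ker_mk' E
  have hW'2 : IsPGroup 2 W' := by
    refine IsPGroup.map ?_ _
    exact (IsPGroup.of_card (n := 2) (by rw [hW4]; norm_num) : IsPGroup 2 W).comap_of_ker_isPGroup π
      (by rwa [hker])
  have hkW' : k ∈ normalizer (W' : Set G) := by
    refine mem_normalizer_of_conj_mem ?_
    rintro _ ⟨w, hw, rfl⟩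
    refine ⟨(⟨k, hkH⟩ : H) * w * (⟨k, hkH⟩ : H)⁻¹, ?_, rfl⟩
    show π _ ∈ W
    rw [map_mul, map_mul, map_inv]
    exact (mem_normalizer_iff.1 hW.1 _).1 hw
  have hPW : P ≤ W' := fun p hp =>
    ⟨⟨p, hPH hp⟩, mem_comap.2 (by
      rw [show π ⟨p, hPH hp⟩ = 1 from (QuotientGroup.eq_one_iff _).2 (hPE (mem_subgroupOf.2 hp))]
      exact one_mem _), rfl⟩
  have e := hP.max W' hW'2 hkW' hPW
  have hWE : W.comap π ≤ E := fun w hw => hPE (mem_subgroupOf.2 (e.le ⟨w, hw, rfl⟩))
  have hW1 : W = ⊥ := by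
    rw [← map_comap_eq_self_of_surjective (QuotientGroup.mk'_surjective E) W, Subgroup.map_eq_bot_iff, hker]
    exact hWE
  rw [hW1, card_bot] at hW4
  norm_num at hW4

/-- The two shapes, unless the order is four. -/
theorem shape (hP : MaxTwo k P) (S : Setup G q) (hk : orderOf k = 3) :
    (∃ T : Sylow 2 G, (T : Subgroup G) = P) ∨
      (∃ (T : Sylow 2 G) (τ : G), P ≤ (T : Subgroup G) ∧ P.relIndex (T : Subgroup G) = 2 ∧
        τ ∈ (T : Subgroup G) ∧ τ ∉ P ∧ τ * τ = 1 ∧ τ * k * τ⁻¹ = k⁻¹) ∨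
      Nat.card P ≤ 4 := by
  haveI := Fact.mk Nat.prime_two
  haveI := Fact.mk Nat.prime_three
  obtain ⟨K, hK, hPK, hmax⟩ := hP.exists_core S hk
  obtain ⟨P₂, hP₂K, hP₂, -, hmax₂, hnd⟩ := hK.exists_part 2
  have hP₂P : P₂ = P := le_antisymm (hmax P₂ hP₂K hP₂) (hmax₂ P hPK hP.two)
  rw [hP₂P] at hnd
  set H := normalizer (P : Set G)
  have hcK := relIndex_mul_relIndex ⊥ P K bot_le hPK
  simp only [relIndex_bot_left] at hcK
  have sylow_of : ∀ T : Subgroup G, IsPGroup 2 T → T ≤ H → P ≤ T →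
      (∀ T' : Subgroup G, IsPGroup 2 T' → T' ≤ H → T ≤ T' → T' = T) →
      (∃ S' : Sylow 2 G, (S' : Subgroup G) = T) ∨
        ∃ g, g ∈ normalizer (T : Set G) ∧ g ∉ normalizer (P : Set G) := by
    intro T hT hTH hPT hTmax
    obtain ⟨S', hS'⟩ := hT.exists_le_sylow
    rcases eq_or_lt_of_le hS' with e | e
    · exact Or.inl ⟨S', e.symm⟩
    have hnc : NormalizerCondition ↥(S' : Subgroup G) :=
      @Group.normalizerCondition_of_isNilpotent _ _ S'.isPGroup'.isNilpotent
    have hne : T.subgroupOf (S' : Subgroup G) < ⊤ :=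
      lt_top_iff_ne_top.2 fun h => e.not_ge (subgroupOf_eq_top.1 h)
    obtain ⟨g, hg, hgT⟩ := SetLike.exists_of_lt (hnc _ hne)
    have hgN : (g : G) ∈ normalizer (T : Set G) := by
      refine mem_normalizer_of_conj_mem fun x hx => ?_
      exact (mem_normalizer_iff.1 hg ⟨x, hS' hx⟩).1 (mem_subgroupOf.2 hx)
    refine Or.inr ⟨g, hgN, fun hgP => hgT ?_⟩
    have := hTmax (T ⊔ zpowers (g : G)) (S'.isPGroup'.to_le (sup_le hS' (zpowers_le.2 g.2)))
      (sup_le hTH (zpowers_le.2 hgP)) le_sup_left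
    exact mem_subgroupOf.2 (this.le (mem_sup_right (mem_zpowers _)))
  have max_of : ∀ T : Subgroup G, IsPGroup 2 T → T ≤ H → ¬ 2 ∣ T.relIndex H →
      ∀ T' : Subgroup G, IsPGroup 2 T' → T' ≤ H → T ≤ T' → T' = T := by
    intro T hT hTH hnd T' hT' hT'H hle
    refine le_antisymm (relIndex_eq_one.1 ?_) hle
    obtain ⟨n, hn⟩ := IsPGroup.iff_card.1 hT'
    have h1 : T.relIndex T' ∣ 2 ^ n := hn ▸ relIndex_dvd_card T T'
    obtain ⟨i, -, hi⟩ := (Nat.dvd_prime_pow Nat.prime_two).1 h1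
    rcases i with _ | i
    · simpa using hi
    · refine absurd (dvd_trans ?_ (Dvd.intro _ (relIndex_mul_relIndex T T' H hle hT'H))) hnd
      rw [hi]; exact dvd_pow_self 2 (by omega)
  rcases hK.card with h3 | h6
  · -- `P` is a Sylow subgroup of its normaliser
    have hi : ¬ 2 ∣ P.relIndex H := by
      have h1 := relIndex_mul_relIndex P K H hPK hK.le
      have h2 := relIndex_mul_relIndex ⊥ K H bot_le hK.le
      simp only [relIndex_bot_left, h3] at h2
      have h3' : K.relIndex H = 3 :=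
        Nat.eq_of_mul_eq_mul_left (Nat.card_pos (α := K)) (by rw [h2, mul_comm])
      rw [← h1, h3', Nat.prime_two.dvd_mul]
      rintro (h | h)
      · exact hnd h
      · norm_num at h
    rcases sylow_of P hP.two le_normalizer le_rfl (max_of P hP.two le_normalizer hi) with h | ⟨g, hg, hgP⟩
    · exact Or.inl h
    · exact absurd hg hgP
  right
  -- an involution inverting `k`
  set M := K ⊔ zpowers k with hMdef
  have hkK : zpowers k ≤ normalizer (K : Set G) := zpowers_le.2 (hK.norm hP.norm)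
  have hKk : K ⊓ zpowers k = ⊥ := by
    rw [eq_bot_iff]
    rintro x ⟨hxK, hxk⟩
    rw [mem_bot, ← orderOf_eq_one_iff]
    refine Nat.eq_one_of_dvd_coprimes ((Nat.prime_three.coprime_iff_not_dvd).2 hK.three).symm ?_ ?_
    · rw [← orderOf_mk x hxK]; exact orderOf_dvd_natCard _
    · rw [← orderOf_mk x hxk, ← hk, ← Nat.card_zpowers k]; exact orderOf_dvd_natCard _
  have hMH : M ≤ H := sup_le hK.le (zpowers_le.2 hP.norm)
  have hMc : Nat.card M = 3 * Nat.card K := by
    have := CfsgLib.Coprime.InvMax.card_sup_mul_inf_of_le_normalizer hkK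
    rw [hKk, card_bot, mul_one, Nat.card_zpowers, hk] at this
    rw [hMdef, this]
  have hMi : M.relIndex H = 2 := by
    have h2 := relIndex_mul_relIndex ⊥ M H bot_le hMH
    simp only [relIndex_bot_left, hMc, h6] at h2
    have := Nat.card_pos (α := K)
    nlinarith
  haveI hMn : (M.subgroupOf H).Normal := normal_of_index_eq_two hMi
  obtain ⟨g, hgH, hgM, hgk⟩ : ∃ g ∈ H, g ∉ M ∧ g * k * g⁻¹ = k⁻¹ := by
    let k' : ↥(M.subgroupOf H) := ⟨⟨k, hP.norm⟩, mem_sup_right (mem_zpowers k)⟩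
    have hk'o : orderOf k' = 3 := by
      rw [← orderOf_coe, orderOf_mk, hk]
    let R : Sylow 3 ↥(M.subgroupOf H) := Sylow.ofCard (zpowers k') (by
      rw [Nat.card_zpowers, hk'o, Nat.card_congr (subgroupOfEquivOfLe hMH).toEquiv, hMc,
        Nat.factorization_mul (by norm_num) Nat.card_pos.ne', Finsupp.add_apply,
        Nat.Prime.factorization_self Nat.prime_three,
        Nat.factorization_eq_zero_of_not_dvd hK.three]
      norm_num)
    have htop := Sylow.normalizer_sup_eq_top R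
    obtain ⟨g, hg, hgM⟩ : ∃ g ∈ normalizer (((R : Subgroup ↥(M.subgroupOf H)).map
        (M.subgroupOf H).subtype : Subgroup H) : Set H), g ∉ M.subgroupOf H := by
      by_contra hcon
      push Not at hcon
      have : M.subgroupOf H = ⊤ := by
        rw [← top_le_iff, ← htop]
        exact sup_le hcon le_rfl
      rw [subgroupOf_eq_top] at this
      rw [relIndex_eq_one.2 this] at hMi
      norm_num at hMi
    refine ⟨g, g.2, fun h => hgM (mem_subgroupOf.2 h), ?_⟩
    have h1 := (mem_normalizer_iff.1 hg ⟨k, hP.norm⟩).1 ⟨k', mem_zpowers k', rfl⟩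
    obtain ⟨z, hz, hze⟩ := h1
    obtain ⟨i, hi⟩ := mem_zpowers_iff.1 hz
    have he : (g : G) * k * (g : G)⁻¹ = k ^ i := by
      have := congrArg Subtype.val hze
      rw [← hi] at this
      simpa [k'] using this.symm
    have h0 := Int.emod_nonneg i (by norm_num : (3 : ℤ) ≠ 0)
    have h3' := Int.emod_lt_of_pos i (by norm_num : (0 : ℤ) < 3)
    rw [← zpow_mod_orderOf, hk, Nat.cast_ofNat] at he
    rcases (by omega : i % 3 = 0 ∨ i % 3 = 1 ∨ i % 3 = 2) with e | e | e <;> rw [e] at he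
    · rw [zpow_zero, conj_eq_one_iff] at he
      rw [he, orderOf_one] at hk
      norm_num at hk
    · exfalso
      rw [zpow_one] at he
      have h3g := (S.cent k hk).2.1 g
        (mem_centralizer_singleton_iff.2 (mul_inv_eq_iff_eq_mul.1 he))
      have hg2 : g ^ 2 ∈ M.subgroupOf H := sq_mem_of_index_two hMi g
      have : g = (g ^ 2) ^ 2 := by
        apply Subtype.ext
        simp only [SubmonoidClass.coe_pow]
        rw [← pow_mul, show 2 * 2 = 3 + 1 by norm_num, pow_succ, h3g, one_mul]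
      exact hgM (this ▸ pow_mem hg2 2)
    · rw [he, zpow_two, inv_eq_of_mul_eq_one_right (a := k) (b := k * k)
        (by rw [← mul_assoc]; exact Setup.cube k hk)]
  -- replace by the two-part, an involution
  obtain ⟨i, m, hm, hgo⟩ := Nat.exists_eq_two_pow_mul_odd (orderOf_pos g).ne'
  set τ := g ^ m with hτdef
  have hτM : τ ∉ M := by
    intro h
    refine hgM ?_
    obtain ⟨r, hr⟩ := hm
    have hg2 : (⟨g, hgH⟩ : H) ^ 2 ∈ M.subgroupOf H := sq_mem_of_index_two hMi _
    have hg2' : g ^ 2 ∈ M := hg2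
    have : g = g ^ m * ((g ^ 2) ^ r)⁻¹ := by
      rw [hr, ← pow_mul, pow_succ]; group
    rw [this]
    exact mul_mem h (inv_mem (pow_mem hg2' r))
  have hτk : τ * k * τ⁻¹ = k⁻¹ := by
    obtain ⟨r, hr⟩ := hm
    have hsq : ∀ n : ℕ, g ^ (2 * n) * k * (g ^ (2 * n))⁻¹ = k := by
      intro n
      induction n with
      | zero => simp
      | succ n ih =>
        rw [show 2 * (n + 1) = 2 * n + 2 by ring, pow_add]
        calc g ^ (2 * n) * g ^ 2 * k * (g ^ (2 * n) * g ^ 2)⁻¹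
            = g ^ (2 * n) * (g * (g * k * g⁻¹) * g⁻¹) * (g ^ (2 * n))⁻¹ := by rw [sq]; group
          _ = g ^ (2 * n) * (g * k⁻¹ * g⁻¹) * (g ^ (2 * n))⁻¹ := by rw [hgk]
          _ = g ^ (2 * n) * (g * k * g⁻¹)⁻¹ * (g ^ (2 * n))⁻¹ := by group
          _ = g ^ (2 * n) * k * (g ^ (2 * n))⁻¹ := by rw [hgk, inv_inv]
          _ = k := ih
    rw [hτdef, hr, pow_succ]
    calc g ^ (2 * r) * g * k * (g ^ (2 * r) * g)⁻¹
        = g ^ (2 * r) * (g * k * g⁻¹) * (g ^ (2 * r))⁻¹ := by group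
      _ = (g ^ (2 * r) * k * (g ^ (2 * r))⁻¹)⁻¹ := by rw [hgk]; group
      _ = k⁻¹ := by rw [hsq]
  have hττ : τ * τ = 1 := by
    have hc : τ * τ ∈ centralizer ({k} : Set G) := by
      rw [mem_centralizer_singleton_iff]
      have h2 : τ * k⁻¹ * τ⁻¹ = k := by
        rw [show τ * k⁻¹ * τ⁻¹ = (τ * k * τ⁻¹)⁻¹ by group, hτk, inv_inv]
      calc τ * τ * k = τ * (τ * k * τ⁻¹) * τ⁻¹ * (τ * τ) := by group
        _ = k * (τ * τ) := by rw [hτk, h2]
    rw [← orderOf_eq_one_iff]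
    refine Nat.eq_one_of_dvd_coprimes (a := 2 ^ i) (b := 3)
      (Nat.Coprime.pow_left i (by norm_num)) ?_ (orderOf_dvd_of_pow_eq_one ((S.cent k hk).2.1 _ hc))
    refine orderOf_dvd_of_pow_eq_one ?_
    have hgm : τ ^ 2 ^ i = 1 := by
      rw [hτdef, ← pow_mul, mul_comm m, ← hgo, pow_orderOf_eq_one]
    rw [(Commute.refl τ).mul_pow, hgm, one_mul]
  have hτH : τ ∈ H := pow_mem hgH m
  have hτP : τ ∉ P := fun h => hτM (mem_sup_left (hPK h))
  set T := P ⊔ zpowers τ with hT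
  have hτ2 : orderOf τ = 2 := orderOf_eq_prime (by rw [sq]; exact hττ) fun e => hτP (e ▸ one_mem P)
  have hPτ : P ⊓ zpowers τ = ⊥ := by
    rw [eq_bot_iff]
    rintro x ⟨hxP, hxτ⟩
    rw [mem_bot]
    obtain ⟨n, rfl⟩ := mem_zpowers_iff.1 hxτ
    rcases Int.even_or_odd n with ⟨j, rfl⟩ | ⟨j, rfl⟩
    · rw [← two_mul, zpow_mul, zpow_two, hττ, one_zpow]
    · exfalso
      rw [zpow_add, zpow_mul, zpow_two, hττ, one_zpow, one_mul, zpow_one] at hxP
      exact hτP hxP
  have hTc : Nat.card T = 2 * Nat.card P := by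
    have := CfsgLib.Coprime.InvMax.card_sup_mul_inf_of_le_normalizer (K := P) (A := zpowers τ)
      (zpowers_le.2 hτH)
    rw [hPτ, card_bot, mul_one, Nat.card_zpowers, hτ2] at this
    rw [hT, this]
  have hT2 : IsPGroup 2 T := by
    obtain ⟨n, hn⟩ := IsPGroup.iff_card.1 hP.two
    exact IsPGroup.of_card (n := n + 1) (by rw [hTc, hn]; ring)
  have hTH : T ≤ H := sup_le le_normalizer (zpowers_le.2 hτH)
  have hPT : P ≤ T := le_sup_left
  have hPTi : P.relIndex T = 2 := by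
    have := relIndex_mul_relIndex ⊥ P T bot_le hPT
    simp only [relIndex_bot_left, hTc] at this
    exact Nat.eq_of_mul_eq_mul_left (Nat.card_pos (α := P)) (by rw [this, mul_comm])
  have hTi : ¬ 2 ∣ T.relIndex H := by
    intro h
    have h1 := relIndex_mul_relIndex P T H hPT hTH
    have h2 := relIndex_mul_relIndex P K H hPK hK.le
    have h3 := relIndex_mul_relIndex ⊥ K H bot_le hK.le
    simp only [relIndex_bot_left, h6] at h3
    have hK6 : K.relIndex H = 6 :=
      Nat.eq_of_mul_eq_mul_left (Nat.card_pos (α := K)) (by rw [h3, mul_comm])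
    rw [hPTi, ← h2, hK6] at h1
    have : 2 * 2 ∣ P.relIndex K * 6 := h1 ▸ Nat.mul_dvd_mul_left 2 h
    rw [show P.relIndex K * 6 = 2 * (3 * P.relIndex K) by ring] at this
    rcases (Nat.Prime.dvd_mul Nat.prime_two).1 (Nat.dvd_of_mul_dvd_mul_left (by norm_num) this) with h | h
    · norm_num at h
    · exact hnd h
  rcases sylow_of T hT2 hTH hPT (max_of T hT2 hTH hTi) with ⟨S', hS'⟩ | ⟨c, hcT, hcP⟩
  · exact Or.inl ⟨S', τ, hS' ▸ hPT, hS' ▸ hPTi, hS' ▸ mem_sup_right (mem_zpowers τ), hτP, hττ, hτk⟩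
  right
  set P' := P.map (MulAut.conj c).toMonoidHom with hP'
  have hTeq : T.map (MulAut.conj c).toMonoidHom = T := by
    refine eq_of_le_of_card_ge ?_ (card_map_of_injective (MulAut.conj c).injective).ge
    rintro _ ⟨x, hx, rfl⟩
    exact conj_mem hcT hx
  have hP'T : P' ≤ T := hTeq ▸ map_mono hPT
  have hP'i : P'.relIndex T = 2 := by
    rw [← hTeq, hP', relIndex_map_map_of_injective _ _ (MulAut.conj c).injective, hPTi]
  have hP'c : Cubic (c * k * c⁻¹) P' := by
    refine ⟨?_, ?_, hP.two.map _, ?_⟩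
    · calc c * k * c⁻¹ * (c * k * c⁻¹) * (c * k * c⁻¹) = c * (k * k * k) * c⁻¹ := by group
        _ = 1 := by rw [Setup.cube k hk, mul_one, mul_inv_cancel]
    · refine mem_normalizer_of_conj_mem ?_
      rintro _ ⟨p, hp, rfl⟩
      exact ⟨k * p * k⁻¹, conj_mem hP.norm hp, by simp [mul_assoc]⟩
    · rintro _ ⟨p, hp, rfl⟩ e
      simp only [MulEquiv.coe_toMonoidHom, MulAut.conj_apply] at e ⊢
      have h1 : k * p * k⁻¹ = p := by
        calc k * p * k⁻¹ = c⁻¹ * (c * k * c⁻¹ * (c * p * c⁻¹) * (c * k * c⁻¹)⁻¹) * c := by group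
          _ = p := by rw [e]; group
      rw [(S.cubic hk hP.two hP.norm).fpf p hp h1]
      group
  refine pair (S.cubic hk hP.two hP.norm) hP'c hPT hP'T hPTi hP'i
    (mem_sup_right (mem_zpowers τ)) hτP hτk (t' := c * τ * c⁻¹) ?_ ?_ ?_ ?_
  · exact conj_mem hcT (mem_sup_right (mem_zpowers τ))
  · rintro ⟨p, hp, hpe⟩
    have : p = τ := (MulAut.conj c).injective hpe
    exact hτP (this ▸ hp)
  · calc c * τ * c⁻¹ * (c * k * c⁻¹) * (c * τ * c⁻¹)⁻¹ = c * (τ * k * τ⁻¹) * c⁻¹ := by group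
      _ = (c * k * c⁻¹)⁻¹ := by rw [hτk]; group
  · intro e
    refine hcP (mem_normalizer_of_conj_mem fun p hp => ?_)
    rw [e]
    exact ⟨p, hp, rfl⟩

/-- No `q`-part when a Sylow two-subgroup normalises `P`. -/
theorem core_eq (hP : MaxTwo k P) (S : Setup G q) (hk : orderOf k = 3) (T : Sylow 2 G)
    (hT : (T : Subgroup G) ≤ normalizer (P : Set G)) {K : Subgroup G}
    (hK : Core (normalizer (P : Set G)) K) : ¬ q ∣ Nat.card K := by
  haveI := Fact.mk Nat.prime_two
  haveI := Fact.mk S.prime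
  intro hqK
  obtain ⟨Y, hYK, hY, hYn, hYmax, hYi⟩ := hK.exists_part q
  have hY3 : ¬ 3 ∣ Nat.card Y := Setup.not_three_dvd_pgroup S.q_ne_three hY
  have hY1 : Y ≠ ⊥ := by
    intro e
    rw [e, relIndex_bot_left] at hYi
    exact hYi hqK
  have hkY : k ∈ normalizer (Y : Set G) := hYn hP.norm
  set H := normalizer (Y : Set G) with hH
  have hKH : K ≤ H := hK.le.trans hYn
  obtain ⟨K', hK', hKK'⟩ := core_of_q S (L := K) hY1 hY3 le_normalizer le_rfl hk hkY hKH hK.three
    (hK.norm hP.norm) hqK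
  have hPK : P ≤ K := hK.inv_le S hk hP.norm le_normalizer (not_three_dvd_two hP.two) hP.norm
  obtain ⟨P₂, hP₂K, hP₂, hP₂n, hP₂max, -⟩ := hK'.exists_part 2
  have e := hP.max P₂ hP₂ (hP₂n hkY) (hP₂max P (hPK.trans hKK') hP.two)
  rw [e] at hP₂n
  have hK'K : K' ≤ K := hK.inv_le S hk hP.norm (hK'.le.trans hP₂n) hK'.three (hK'.norm hkY)
  have hYf : ¬ q ∣ Y.index := by
    obtain ⟨Q, hQ⟩ := hY.exists_le_sylow
    have hQY : (Q : Subgroup G) = Y := by
      by_contra hne
      have hlt : Y < (Q : Subgroup G) := lt_of_le_of_ne hQ (Ne.symm hne)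
      have hnc : NormalizerCondition ↥(Q : Subgroup G) :=
        @Group.normalizerCondition_of_isNilpotent _ _ Q.isPGroup'.isNilpotent
      obtain ⟨y, hy, hyY⟩ := SetLike.exists_of_lt (hnc _ (lt_top_iff_ne_top.2
        fun h => hlt.not_ge (subgroupOf_eq_top.1 h) : Y.subgroupOf (Q : Subgroup G) < ⊤))
      refine hyY (mem_subgroupOf.2 ?_)
      have hyH : (y : G) ∈ H := mem_normalizer_of_conj_mem fun x hx =>
        (mem_normalizer_iff.1 hy ⟨x, hQ hx⟩).1 (mem_subgroupOf.2 hx)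
      have hpow : IsPGroup q (zpowers (y : G)) := Q.isPGroup'.to_le (zpowers_le.2 y.2)
      have hyK : (y : G) ∈ K' := by
        refine hK'.mem_of_orderOf hyH ?_
        obtain ⟨n, hn⟩ := IsPGroup.iff_card.1 hpow
        rw [Nat.card_zpowers] at hn
        rw [hn]
        refine Nat.Coprime.pow_left n ((S.prime.coprime_iff_not_dvd).2 fun h => ?_)
        have := Nat.le_of_dvd (by norm_num) h
        have := S.five
        have := S.prime
        interval_cases q <;> norm_num at *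
      exact hYmax _ (zpowers_le.2 (hK'K hyK)) hpow (mem_zpowers _)
    rw [← hQY]
    exact Q.not_dvd_index
  refine S.index_nine (S.normalizer_ne_top hP.ne (not_three_dvd_two hP.two)) ?_ ?_
  · exact fun h => T.not_dvd_index (h.trans (index_dvd_of_le hT))
  · exact fun h => hYf (h.trans (index_dvd_of_le (hYK.trans hK.le)))

end MaxTwo

/-- A `q`-element centralising an invariant two-subgroup produces a maximal one not normalised by a
Sylow two-subgroup. -/
theorem exists_maxTwo_of_centralized (S : Setup G q) (hk : orderOf k = 3) {X : Subgroup G}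
    (hX : IsPGroup 2 X) (hkX : k ∈ normalizer (X : Set G)) (hX1 : X ≠ ⊥) {y : G}
    (hy : y ∈ centralizer (X : Set G)) (hyo : orderOf y = q) :
    ∃ P, MaxTwo k P ∧ X ≤ P ∧ ∀ T : Sylow 2 G, ¬ (T : Subgroup G) ≤ normalizer (P : Set G) := by
  haveI := Fact.mk Nat.prime_two
  haveI := Fact.mk S.prime
  obtain ⟨P, hXP, hP, hmax⟩ := Set.Finite.exists_le_maximal
    (Set.toFinite {Y : Subgroup G | IsPGroup 2 Y ∧ k ∈ normalizer (Y : Set G) ∧
      q ∣ Nat.card ↥(centralizer (Y : Set G))})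
    (show X ∈ _ from ⟨hX, hkX, by rw [← hyo, ← orderOf_mk y hy]; exact orderOf_dvd_natCard _⟩)
  obtain ⟨hP2, hkP, hPq⟩ := hP
  have hP1 : P ≠ ⊥ := fun e => hX1 (le_bot_iff.1 (e ▸ hXP))
  set C := centralizer (P : Set G) with hC
  have hC3 : ¬ 3 ∣ Nat.card C := by
    intro h
    haveI := Fact.mk Nat.prime_three
    obtain ⟨r, hr⟩ := exists_prime_orderOf_dvd_card' (G := C) 3 h
    refine hP1 ((eq_bot_iff_forall _).2 fun p hp => S.fpf (k := (r : G)) (by rw [orderOf_coe, hr])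
      (not_three_dvd_two hP2) hp ?_)
    exact mul_inv_eq_iff_eq_mul.2 (mem_centralizer_iff.1 r.2 p hp).symm
  have hkC : k ∈ normalizer (C : Set G) := by
    refine mem_normalizer_of_conj_mem fun c hc => mem_centralizer_iff.2 fun p hp => ?_
    have := mem_centralizer_iff.1 hc (k⁻¹ * p * k) (by simpa using conj_mem (inv_mem hkP) hp)
    calc p * (k * c * k⁻¹) = k * (k⁻¹ * p * k * c) * k⁻¹ := by group
      _ = k * (c * (k⁻¹ * p * k)) * k⁻¹ := by rw [this]
      _ = k * c * k⁻¹ * p := by group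
  obtain ⟨K, hK, hCK⟩ := core_of_q S (L := C) hP1 (not_three_dvd_two hP2) le_normalizer le_rfl hk
    hkP (centralizer_le_normalizer _) hC3 hkC hPq
  have hqK : q ∣ Nat.card K := hPq.trans (card_dvd_of_le hCK)
  obtain ⟨P₂, hP₂K, hP₂, hP₂n, hP₂max, -⟩ := hK.exists_part 2
  have hPP₂ : P ≤ P₂ :=
    hP₂max P (hK.inv_le S hk hkP le_normalizer (not_three_dvd_two hP2) hkP) hP2
  obtain ⟨z, hz⟩ := exists_prime_orderOf_dvd_card' (G := K) q hqK
  have hzc : (z : G) ∈ centralizer (P₂ : Set G) := mem_centralizer_iff.2 fun p hp => by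
    refine (hK.commute_of_coprime (hP₂K hp) z.2 ?_).eq
    obtain ⟨n, hn⟩ := IsPGroup.iff_orderOf.1 hP₂ ⟨p, hp⟩
    rw [orderOf_coe, hz, ← orderOf_mk p hp, hn]
    exact Nat.Coprime.pow_left n ((Nat.coprime_primes Nat.prime_two S.prime).2 (Ne.symm S.q_ne_two))
  have e : P₂ = P := le_antisymm (hmax ⟨hP₂, hP₂n hkP, by
    rw [← hz, ← orderOf_coe z, ← orderOf_mk (z : G) hzc]; exact orderOf_dvd_natCard _⟩ hPP₂) hPP₂
  refine ⟨P, ⟨hP2, hkP, hP1, fun P' hP' hkP' hle => ?_⟩, hXP, fun T hT => ?_⟩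
  · by_contra hne
    have hlt : P < P' := lt_of_le_of_ne hle (Ne.symm hne)
    have hnc : NormalizerCondition ↥P' := @Group.normalizerCondition_of_isNilpotent _ _ hP'.isNilpotent
    obtain ⟨x, hx, hxP⟩ := SetLike.exists_of_lt (hnc _ (lt_top_iff_ne_top.2
      fun h => hlt.not_ge (subgroupOf_eq_top.1 h) : P.subgroupOf P' < ⊤))
    refine hxP (mem_subgroupOf.2 ?_)
    have hxN : (x : G) ∈ P' ⊓ normalizer (P : Set G) := ⟨x.2, mem_normalizer_of_conj_mem fun p hp =>
      (mem_normalizer_iff.1 hx ⟨p, hle hp⟩).1 (mem_subgroupOf.2 hp)⟩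
    have hL : P' ⊓ normalizer (P : Set G) ≤ K :=
      hK.inv_le S hk hkP inf_le_right (not_three_dvd_two (hP'.to_le inf_le_left))
        (normalizer_inf hkP' (le_normalizer hkP))
    exact e ▸ hP₂max _ hL (hP'.to_le inf_le_left) hxN
  · refine MaxTwo.core_eq ⟨hP2, hkP, hP1, fun P' hP' hkP' hle => ?_⟩ S hk T hT hK hqK
    by_contra hne
    have hlt : P < P' := lt_of_le_of_ne hle (Ne.symm hne)
    have hnc : NormalizerCondition ↥P' := @Group.normalizerCondition_of_isNilpotent _ _ hP'.isNilpotent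
    obtain ⟨x, hx, hxP⟩ := SetLike.exists_of_lt (hnc _ (lt_top_iff_ne_top.2
      fun h => hlt.not_ge (subgroupOf_eq_top.1 h) : P.subgroupOf P' < ⊤))
    refine hxP (mem_subgroupOf.2 ?_)
    have hxN : (x : G) ∈ P' ⊓ normalizer (P : Set G) := ⟨x.2, mem_normalizer_of_conj_mem fun p hp =>
      (mem_normalizer_iff.1 hx ⟨p, hle hp⟩).1 (mem_subgroupOf.2 hp)⟩
    have hL : P' ⊓ normalizer (P : Set G) ≤ K :=
      hK.inv_le S hk hkP inf_le_right (not_three_dvd_two (hP'.to_le inf_le_left))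
        (normalizer_inf hkP' (le_normalizer hkP))
    exact e ▸ hP₂max _ hL (hP'.to_le inf_le_left) hxN

end CfsgLib.InvChar.SecNineOpen
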