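import Cfsg.Agent.S1225
import Cfsg.Agent.Lib.Comp.Subnormal
import Cfsg.Agent.Lib.Solvable.HallHigman
import Cfsg.Agent.Lib.Solvable.PCore
import Cfsg.Agent.Lib.Invol.Strong
import Cfsg.Agent.Lib.InvChar.SecNine.Numeric
import Cfsg.Agent.Lib.InvChar.LThreeFour.Orbit
import Cfsg.Agent.Lib.InvChar.SecNineOpen.Member

/-!
A strongly embedded subgroup of order prime to three with an elementary abelian subgroup of order
eight properly inside a Sylow two-subgroup is impossible.
-/

set_option autoImplicit false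
set_option linter.unusedSectionVars false
set_option linter.style.haveILetI false

namespace CfsgLib.InvChar.SecNineOpen

open Subgroup

universe u

variable {G : Type u} [Group G] [Finite G] {q : ℕ}

/-- A strongly embedded subgroup contains a Sylow two-subgroup. -/
theorem exists_sylow_le_of_strong {M : Subgroup G} (hM : Cfsg.IsStronglyEmbedded M) :
    ∃ T : Sylow 2 G, (T : Subgroup G) ≤ M := by
  haveI := Fact.mk Nat.prime_two
  obtain ⟨Q⟩ : Nonempty (Sylow 2 M) := inferInstance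
  obtain ⟨T, hT⟩ := (Q.isPGroup'.map M.subtype).exists_le_sylow
  refine ⟨T, ?_⟩
  by_contra hcon
  set P := (Q : Subgroup M).map M.subtype with hP
  have hlt : P < (T : Subgroup G) := lt_of_le_of_ne hT fun e => hcon (e ▸ map_subtype_le _)
  have hnc : NormalizerCondition ↥(T : Subgroup G) :=
    @Group.normalizerCondition_of_isNilpotent _ _ T.isPGroup'.isNilpotent
  obtain ⟨g, hg, hgP⟩ := SetLike.exists_of_lt (hnc _ (lt_top_iff_ne_top.2
    fun h => hlt.not_ge (subgroupOf_eq_top.1 h) : P.subgroupOf (T : Subgroup G) < ⊤))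
  have hgN : (g : G) ∈ normalizer (P : Set G) := mem_normalizer_of_conj_mem fun x hx =>
    (mem_normalizer_iff.1 hg ⟨x, hT hx⟩).1 (mem_subgroupOf.2 hx)
  have hP1 : P ≠ ⊥ := by
    intro e
    have h2 := Q.dvd_card_of_dvd_card (even_iff_two_dvd.1 hM.2.1)
    rw [← Nat.card_congr (equivMapOfInjective (Q : Subgroup M) M.subtype M.subtype_injective).symm.toEquiv,
      ← hP, e, card_bot] at h2
    norm_num at h2
  obtain ⟨n, hn, hcard⟩ := ((Q.isPGroup'.map M.subtype) : IsPGroup 2 P).nontrivial_iff_card.1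
    ((nontrivial_iff_ne_bot _).2 hP1)
  obtain ⟨v, hv⟩ := exists_prime_orderOf_dvd_card' (G := P) 2 (hcard ▸ dvd_pow_self 2 hn.ne')
  have hgM : (g : G) ∈ M := CfsgLib.Invol.se_mem_of_conj hM (by rw [orderOf_coe, hv])
    (map_subtype_le _ v.2) (map_subtype_le _ (conj_mem hgN v.2))
  refine hgP (mem_subgroupOf.2 ?_)
  have h2 : IsPGroup 2 ↥((T : Subgroup G).subgroupOf M) := T.isPGroup'.comap_subtype
  have hle : (Q : Subgroup M) ≤ (T : Subgroup G).subgroupOf M := fun p hp =>
    mem_subgroupOf.2 (hT ⟨p, hp, rfl⟩)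
  exact ⟨⟨g, hgM⟩, (Q.is_maximal' h2 hle).le (mem_subgroupOf.2 g.2), rfl⟩

/-- No strongly embedded subgroup of order prime to three has such a Sylow two-subgroup. -/
theorem false_of_strong (S : Setup G q) {M : Subgroup G} (hM : Cfsg.IsStronglyEmbedded M)
    (h3 : ¬ 3 ∣ Nat.card M) (T : Sylow 2 G) (hTM : (T : Subgroup G) ≤ M) {A : Subgroup G}
    (hA : Cfsg.IsElementaryAbelian 2 A) (hA8 : 8 ≤ Nat.card A) (hAT : A ≤ (T : Subgroup G))
    (hT16 : 16 ≤ Nat.card (T : Subgroup G)) : False := by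
  haveI := Fact.mk Nat.prime_two
  haveI := Fact.mk S.prime
  obtain ⟨u, huM, hu⟩ := CfsgLib.Invol.se_exists_invol_notMem hM
  set D := M ⊓ M.map (MulAut.conj u).toMonoidHom with hD
  have hDodd : Odd (Nat.card D) := hM.2.2 u huM
  obtain ⟨i, j, hij⟩ := S.card_two_q (fun h => h3 (h.trans (card_dvd_of_le (inf_le_left : D ≤ M))))
  have hi : i = 0 := by
    by_contra h
    exact Nat.not_even_iff_odd.2 hDodd (even_iff_two_dvd.2 (hij ▸ (dvd_pow_self 2 h).mul_right _))
  rw [hi, pow_zero, one_mul] at hij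
  -- the quotient by the odd core
  haveI hsolv : Group.IsSolvable M := S.solvable h3
  haveI := Cfsg.pPrimeCore_normal 2 M
  set O := Cfsg.pPrimeCore 2 M with hO
  set π := QuotientGroup.mk' O with hπ
  set P := Cfsg.pCore 2 (M ⧸ O) with hP
  haveI hPn : P.Normal := CfsgLib.Solvable.pCore_normal 2 _
  have hHH := CfsgLib.Solvable.centralizer_pCore_le 2
    (CfsgLib.Solvable.pPrimeCore_quotient_eq_bot (G := M) 2)
  have hinj : ∀ t : M, (t : G) ∈ (T : Subgroup G) → π t = 1 → t = 1 := by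
    intro t ht h1
    obtain ⟨n, hn⟩ := IsPGroup.iff_orderOf.1 T.isPGroup' ⟨(t : G), ht⟩
    rw [orderOf_mk, orderOf_coe] at hn
    have hd : orderOf t ∣ Nat.card O := by
      rw [← orderOf_mk t ((QuotientGroup.eq_one_iff t).1 h1)]
      exact orderOf_dvd_natCard _
    have hc := (CfsgLib.Comp.coprime_card_pPrimeCore 2 M).pow_right n
    rw [← orderOf_eq_one_iff]
    exact Nat.eq_one_of_dvd_coprimes hc hd (hn ▸ dvd_rfl)
  -- involutions lift
  set TM := (T : Subgroup G).subgroupOf M with hTMdef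
  let PT : Sylow 2 M := T.subtype hTM
  have hPT : (PT : Subgroup M) = TM := rfl
  have hlift : ∀ x : M ⧸ O, orderOf x = 2 → ∃ s : M, orderOf s = 2 ∧ π s = x := by
    intro x hx
    let Q : Sylow 2 (M ⧸ O) := PT.mapSurjective (QuotientGroup.mk'_surjective O)
    obtain ⟨Q', hQ'⟩ := (IsPGroup.of_card (n := 1) (by rw [Nat.card_zpowers, hx, pow_one]) :
      IsPGroup 2 (zpowers x)).exists_le_sylow
    obtain ⟨c, hc⟩ := MulAction.exists_smul_eq (M ⧸ O) Q Q'
    have hxm := hQ' (mem_zpowers x)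
    rw [← hc, Sylow.coe_subgroup_smul] at hxm
    obtain ⟨y, hy, hyx⟩ := hxm
    obtain ⟨t, ht, rfl⟩ := hy
    obtain ⟨c', rfl⟩ := QuotientGroup.mk'_surjective O c
    refine ⟨c' * t * c'⁻¹, ?_, by rw [map_mul, map_mul, map_inv]; exact hyx⟩
    rw [show orderOf (c' * t * c'⁻¹) = orderOf t from (MulAut.conj c').orderOf_eq t]
    refine orderOf_eq_prime ?_ fun e => ?_
    · refine hinj _ (by simpa using pow_mem (mem_subgroupOf.1 ht) 2) ?_
      have : (π (c' * t * c'⁻¹)) ^ 2 = 1 := by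
        rw [map_mul, map_mul, map_inv,
          show π c' * π t * (π c')⁻¹ = x from hyx, ← hx, pow_orderOf_eq_one]
      rw [map_mul, map_mul, map_inv, conj_pow, conj_eq_one_iff] at this
      rw [map_pow, this]
    · rw [← hyx, e, map_one] at hx
      simp at hx
  -- the involutions of the quotient
  let Z : Subgroup (M ⧸ O) :=
    { carrier := {x | x ∈ P ∧ x ^ 2 = 1 ∧ ∀ p ∈ P, x * p = p * x}
      one_mem' := ⟨one_mem _, one_pow _, fun p _ => by simp⟩
      mul_mem' := fun {a b} ha hb => ⟨mul_mem ha.1 hb.1, by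
        rw [Commute.mul_pow (ha.2.2 b hb.1), ha.2.1, hb.2.1, one_mul],
        fun p hp => by rw [mul_assoc, hb.2.2 p hp, ← mul_assoc, ha.2.2 p hp, mul_assoc]⟩
      inv_mem' := fun {a} ha => ⟨inv_mem ha.1, by rw [inv_pow, ha.2.1, inv_one],
        fun p hp => by
          have h : Commute a p := ha.2.2 p hp
          exact h.inv_left.eq⟩ }
  have hZconj : ∀ c : M ⧸ O, ∀ x ∈ Z, c * x * c⁻¹ ∈ Z := fun c x hx =>
    ⟨hPn.conj_mem x hx.1 c, by rw [conj_pow, hx.2.1, mul_one, mul_inv_cancel], fun p hp => by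
      have := hx.2.2 (c⁻¹ * p * c) (by simpa using hPn.conj_mem p hp c⁻¹)
      calc c * x * c⁻¹ * p = c * (x * (c⁻¹ * p * c)) * c⁻¹ := by group
        _ = c * ((c⁻¹ * p * c) * x) * c⁻¹ := by rw [this]
        _ = p * (c * x * c⁻¹) := by group⟩
  have hP2 : IsPGroup 2 P := CfsgLib.Comp.isPGroup_pCore 2 _
  obtain ⟨z, hzZ, hz⟩ : ∃ z ∈ Z, orderOf z = 2 := by
    have hP1 : P ≠ ⊥ := by
      intro e
      rw [← hP, e] at hHH
      have h1 : ∀ x : M ⧸ O, x = 1 := fun x => mem_bot.1 (hHH (mem_centralizer_iff.2 fun p hp => by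
        rw [mem_bot.1 hp, one_mul, mul_one]))
      obtain ⟨s, hsM, hs⟩ := CfsgLib.Invol.se_exists_invol hM
      have hcoO := CfsgLib.Comp.coprime_card_pPrimeCore 2 M
      have hd : orderOf (⟨s, hsM⟩ : M) ∣ Nat.card O := by
        rw [← orderOf_mk (⟨s, hsM⟩ : M) ((QuotientGroup.eq_one_iff _).1 (h1 _))]
        exact orderOf_dvd_natCard _
      rw [orderOf_mk, hs] at hd
      exact absurd (Nat.eq_one_of_dvd_coprimes hcoO hd dvd_rfl) (by norm_num)
    haveI : Nontrivial P := (nontrivial_iff_ne_bot _).2 hP1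
    haveI := hP2.center_nontrivial
    obtain ⟨n, hn, hc⟩ := (hP2.to_subgroup (center P)).nontrivial_iff_card.1 inferInstance
    obtain ⟨z, hz⟩ := exists_prime_orderOf_dvd_card' (G := center P) 2 (hc ▸ dvd_pow_self 2 hn.ne')
    have hz2 : orderOf ((z : P) : M ⧸ O) = 2 := by rw [orderOf_coe, orderOf_coe, hz]
    exact ⟨_, ⟨(z : P).2, by rw [← hz2]; exact pow_orderOf_eq_one _,
      fun p hp => (congrArg Subtype.val (mem_center_iff.1 z.2 ⟨p, hp⟩)).symm⟩, hz2⟩
  obtain ⟨z', hz', hz'π⟩ := hlift z hz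
  have hzM : orderOf (z' : G) = 2 := by rw [orderOf_coe, hz']
  set Dq := (D.subgroupOf M).map π with hDq
  -- one orbit
  have horb : ∀ s : M, orderOf s = 2 → ∃ b ∈ Dq, b * z * b⁻¹ = π s := by
    intro s hs
    obtain ⟨⟨d, hd, hde⟩, -⟩ := Cfsg.Agent.S1225.result M hM u hu huM (z' : G) (s : G) hzM z'.2
      (by rw [orderOf_coe, hs]) s.2
    refine ⟨π ⟨d, hd.1⟩, mem_map_of_mem _ (mem_subgroupOf.2 hd), ?_⟩
    rw [← hz'π, ← map_inv, ← map_mul, ← map_mul]
    exact congrArg π (Subtype.ext hde)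
  have hset : {y | ∃ b ∈ Dq, b * z * b⁻¹ = y} = (Z : Set (M ⧸ O)) \ {1} := by
    ext y
    constructor
    · rintro ⟨b, -, rfl⟩
      refine ⟨hZconj b z hzZ, fun e => ?_⟩
      rw [Set.mem_singleton_iff, conj_eq_one_iff] at e
      rw [e, orderOf_one] at hz
      norm_num at hz
    · rintro ⟨hy, hy1⟩
      obtain ⟨s, hs, rfl⟩ := hlift y (orderOf_eq_prime hy.2.1 (fun e => hy1 e))
      exact horb s hs
  have hcount := CfsgLib.InvChar.LThreeFour.orbit_card Dq z
  rw [hset] at hcount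
  have hZ2 : IsPGroup 2 Z := hP2.to_le fun x hx => hx.1
  obtain ⟨f, hf⟩ := IsPGroup.iff_card.1 hZ2
  have hZcard : ((Z : Set (M ⧸ O)) \ {1}).ncard = 2 ^ f - 1 := by
    rw [Set.ncard_sdiff_singleton_of_mem (one_mem Z), ← Nat.card_coe_set_eq,
      SetLike.coe_sort_coe, hf]
  have hdvd : 2 ^ f - 1 ∣ q ^ j := by
    rw [← hij, ← hZcard]
    refine (Dvd.intro _ hcount).trans ((card_map_dvd _ _).trans ?_)
    rw [Nat.card_congr (subgroupOfEquivOfLe (inf_le_left : D ≤ M)).toEquiv]
  -- the elementary subgroup lands inside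
  have hf3 : 8 ≤ 2 ^ f := by
    rw [← hf]
    refine hA8.trans (Nat.card_le_card_of_injective
      (fun a : A => (⟨π ⟨a, hTM (hAT a.2)⟩, ?_⟩ : Z)) fun a b e => ?_)
    · by_cases ha : (a : G) = 1
      · rw [show (⟨a, hTM (hAT a.2)⟩ : M) = 1 from Subtype.ext ha, map_one]
        exact one_mem Z
      · obtain ⟨b, -, hb⟩ := horb ⟨a, hTM (hAT a.2)⟩
          (orderOf_eq_prime (Subtype.ext (hA.2 a a.2)) (fun e => ha (congrArg Subtype.val e)))
        exact hb ▸ hZconj b z hzZ
    · have e' : π ⟨a, hTM (hAT a.2)⟩ = π ⟨b, hTM (hAT b.2)⟩ := congrArg Subtype.val e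
      have h1 := hinj (⟨a, hTM (hAT a.2)⟩ * ⟨b, hTM (hAT b.2)⟩⁻¹ : M)
        (mul_mem (hAT a.2) (inv_mem (hAT b.2))) (by rw [map_mul, map_inv, e', mul_inv_cancel])
      exact Subtype.ext (congrArg Subtype.val (mul_inv_eq_one.1 h1) :)
  obtain ⟨e, -, he⟩ := (Nat.dvd_prime_pow S.prime).1 hdvd
  have he1 : 1 ≤ e := by
    by_contra h
    rw [show e = 0 by omega, pow_zero] at he
    omega
  have he' := CfsgLib.InvChar.SecNine.mersenne_fermat S.prime S.five he1 (i := f)
    (Or.inr (by omega))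
  rw [he', pow_one] at he
  have hq1 : q + 1 = 2 ^ f := by omega
  -- the Sylow subgroup is semiregular off one point
  have hfree : Nat.card (T : Subgroup G) ∣ M.index - 1 := by
    classical
    let Y := {x : G ⧸ M // x ≠ ((1 : G) : G ⧸ M)}
    have hbase : ∀ t ∈ (T : Subgroup G), t • ((1 : G) : G ⧸ M) = ((1 : G) : G ⧸ M) := by
      intro t ht
      rw [CfsgLib.Invol.fix_coset_iff]
      simpa using hTM ht
    letI : MulAction (T : Subgroup G) Y :=
      { smul := fun t x => ⟨(t : G) • x.1, fun e => x.2 (by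
          have := hbase t t.2
          exact MulAction.injective (t : G) (e.trans this.symm))⟩
        one_smul := fun x => Subtype.ext (one_smul G x.1)
        mul_smul := fun s t x => Subtype.ext (mul_smul (s : G) (t : G) x.1) }
    have hst : ∀ x : Y, MulAction.stabilizer (T : Subgroup G) x = ⊥ := by
      intro x
      rw [eq_bot_iff]
      intro t ht
      by_contra ht1
      obtain ⟨g, hg⟩ := QuotientGroup.mk_surjective x.1
      have htx : (t : G) • x.1 = x.1 := congrArg Subtype.val (MulAction.mem_stabilizer_iff.1 ht)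
      obtain ⟨n, hn⟩ := IsPGroup.iff_orderOf.1 T.isPGroup' t
      rcases n with _ | n
      · rw [pow_zero, orderOf_eq_one_iff] at hn
        exact ht1 (mem_bot.2 hn)
      set v := (t : G) ^ 2 ^ n with hv
      have hvo : orderOf v = 2 := by
        rw [hv, orderOf_pow_of_dvd (pow_ne_zero _ (by norm_num))
          (by rw [orderOf_coe, hn]; exact pow_dvd_pow 2 n.le_succ), orderOf_coe, hn,
          pow_succ, Nat.mul_div_cancel_left _ (pow_pos (by norm_num) n)]
      have hvx : v • x.1 = x.1 :=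
        pow_mem (show (t : G) ∈ MulAction.stabilizer G x.1 from htx) (2 ^ n)
      rw [← hg, CfsgLib.Invol.fix_coset_iff] at hvx
      have hgM : g⁻¹ ∈ M := CfsgLib.Invol.se_mem_of_conj hM hvo (hTM (pow_mem t.2 _))
        (by rwa [inv_inv])
      exact x.2 (hg ▸ QuotientGroup.eq.2 (by simpa using hgM))
    have hcard : Nat.card Y = M.index - 1 := by
      haveI := Fintype.ofFinite (G ⧸ M)
      rw [index_eq_card, Nat.card_eq_fintype_card, Nat.card_eq_fintype_card]
      rw [Fintype.card_subtype_compl, Fintype.card_subtype_eq]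
    rw [← hcard]
    haveI : Fintype (MulAction.orbitRel.Quotient (T : Subgroup G) Y) := Fintype.ofFinite _
    rw [Nat.card_congr (MulAction.selfEquivSigmaOrbitsQuotientStabilizer (T : Subgroup G) Y),
      Nat.card_sigma]
    exact Finset.dvd_sum fun ω _ => by rw [hst, ← index_eq_card, index_bot]
  have hZT : 2 ^ f ∣ Nat.card (T : Subgroup G) := by
    refine T.pow_dvd_card_of_pow_dvd_card ?_
    rw [← hf]
    exact ((card_subgroup_dvd_card Z).trans (Subgroup.card_quotient_dvd_card O)).trans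
      (card_subgroup_dvd_card M)
  obtain ⟨c, hc⟩ : ∃ c, M.index = 9 * q ^ c := by
    obtain ⟨a, b, -, hG⟩ := S.ord
    have h1 := M.card_mul_index
    rw [hG] at h1
    have hodd : ¬ 2 ∣ M.index := fun h => T.not_dvd_index (h.trans (index_dvd_of_le hTM))
    have h9 : 9 ∣ M.index := by
      refine (Nat.Coprime.pow_left 2 ((Nat.prime_three.coprime_iff_not_dvd).2 h3)).dvd_of_dvd_mul_left
        (k := 9) (m := Nat.card M) ?_
      rw [h1, mul_assoc]
      exact dvd_mul_right _ _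
    obtain ⟨m, hm⟩ := h9
    have hmd : m ∣ q ^ b := by
      have hm2 : ¬ 2 ∣ m := fun h => hodd (hm ▸ h.mul_left 9)
      refine (Nat.Coprime.pow_right a ((Nat.prime_two.coprime_iff_not_dvd).2 hm2).symm).dvd_of_dvd_mul_left ?_
      refine Nat.dvd_of_mul_dvd_mul_left (by norm_num : 0 < 9) ?_
      rw [← hm, ← mul_assoc, ← h1]
      exact dvd_mul_left _ _
    obtain ⟨c, -, rfl⟩ := (Nat.dvd_prime_pow S.prime).1 hmd
    exact ⟨c, hm⟩
  rw [hc] at hfree
  have hqc : 1 ≤ 9 * q ^ c := Nat.one_le_iff_ne_zero.2 (mul_ne_zero (by norm_num)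
    (pow_ne_zero _ S.prime.ne_zero))
  have hmod : ((9 * q ^ c : ℕ) : ZMod (2 ^ f)) = 1 := by
    have h := (ZMod.natCast_eq_zero_iff _ (2 ^ f)).2 (hZT.trans hfree)
    rw [Nat.cast_sub hqc, sub_eq_zero, Nat.cast_one] at h
    exact h
  have hqm : (q : ZMod (2 ^ f)) = -1 := by
    rw [eq_neg_iff_add_eq_zero, ← Nat.cast_one, ← Nat.cast_add, hq1, ZMod.natCast_self]
  rw [Nat.cast_mul, Nat.cast_pow, hqm] at hmod
  rcases Nat.even_or_odd c with hce | hco
  · rw [hce.neg_one_pow, mul_one] at hmod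
    have h8 : ((8 : ℕ) : ZMod (2 ^ f)) = 0 := by
      have := sub_eq_zero.2 hmod
      push_cast at this ⊢
      rw [← this]; norm_num
    have h8' := Nat.le_of_dvd (by norm_num) ((ZMod.natCast_eq_zero_iff _ _).1 h8)
    have hf8 : 2 ^ f = 8 := le_antisymm h8' hf3
    have hq7 : q = 7 := by omega
    subst hq7
    obtain ⟨k, rfl⟩ := hce
    have h16 : 16 ∣ Nat.card (T : Subgroup G) := by
      obtain ⟨m, hm⟩ := IsPGroup.iff_card.1 T.isPGroup'
      rw [hm] at hT16 ⊢
      refine (by norm_num : 16 = 2 ^ 4) ▸ pow_dvd_pow 2 ?_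
      by_contra h
      have : 2 ^ m ≤ 2 ^ 3 := Nat.pow_le_pow_right (by norm_num) (by omega)
      omega
    have h := (ZMod.natCast_eq_zero_iff _ 16).2 (h16.trans hfree)
    rw [Nat.cast_sub hqc, sub_eq_zero] at h
    have h49 : ((7 : ℕ) : ZMod 16) ^ (k + k) = 1 := by
      rw [← two_mul, pow_mul]
      have : ((7 : ℕ) : ZMod 16) ^ 2 = 1 := by decide
      rw [this, one_pow]
    rw [Nat.cast_mul, Nat.cast_pow, h49, mul_one, Nat.cast_one] at h
    exact absurd h (by decide)
  · rw [hco.neg_one_pow] at hmod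
    have h10 : ((10 : ℕ) : ZMod (2 ^ f)) = 0 := by
      have := sub_eq_zero.2 hmod.symm
      push_cast at this ⊢
      rw [← this]; norm_num
    have h10' := (ZMod.natCast_eq_zero_iff _ _).1 h10
    have : 2 ^ f ≤ 10 := Nat.le_of_dvd (by norm_num) h10'
    obtain rfl : f = 3 := by
      have h3' : f < 4 := by
        by_contra h
        have : 2 ^ 4 ≤ 2 ^ f := Nat.pow_le_pow_right (by norm_num) (by omega)
        omega
      interval_cases f <;> omega
    norm_num at h10'

end CfsgLib.InvChar.SecNineOpen
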