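import Cfsg.Agent.S3756
import Cfsg.Agent.Lib.ClassK.CharTwo
import Cfsg.Agent.Lib.Fusion.ModelSection
import Cfsg.Agent.Lib.InvChar.SecNineOpen.CaseOneInvolution
import Cfsg.Agent.Lib.InvChar.SecNineOpen.CaseOneStrong

/-!
No simple group of the setting has an element of order four and no two-subgroup normalised by an
element of order three.
-/

set_option autoImplicit false
set_option linter.unusedSectionVars false
set_option linter.style.haveILetI false

namespace CfsgLib.InvChar.SecNineOpen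

open Subgroup

universe u

variable {G : Type u} [Group G] [Finite G] {q : ℕ}

/-- The subgroup generated at a conjugate of a Sylow subgroup is the conjugate one. -/
theorem sylow_conj_data (T : Sylow 2 G) {A : Subgroup G} (hA : Cfsg.IsElementaryAbelian 2 A)
    (hA8 : 8 ≤ Nat.card A) (hAT : A ≤ (T : Subgroup G)) (c : G) :
    Cfsg.IsElementaryAbelian 2 (A.map (MulAut.conj c).toMonoidHom) ∧
      8 ≤ Nat.card ↥(A.map (MulAut.conj c).toMonoidHom) ∧
      A.map (MulAut.conj c).toMonoidHom ≤ ((c • T : Sylow 2 G) : Subgroup G) := by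
  refine ⟨elemAb_map hA _, ?_, ?_⟩
  · rw [card_map_of_injective (MulAut.conj c).injective]
    exact hA8
  · rintro _ ⟨a, ha, rfl⟩
    rw [Sylow.coe_subgroup_smul]
    exact ⟨a, hAT ha, rfl⟩

/-- An involution of a subgroup containing a Sylow subgroup lies in a conjugate of that. -/
theorem exists_conj_of_mem (T : Sylow 2 G) {M : Subgroup G} (hTM : (T : Subgroup G) ≤ M) {v : G}
    (hvM : v ∈ M) (hv : orderOf v = 2) : ∃ c ∈ M, v ∈ ((c • T : Sylow 2 G) : Subgroup G) := by
  haveI := Fact.mk Nat.prime_two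
  obtain ⟨Q, hQ⟩ := (IsPGroup.of_card (n := 1)
    (by rw [Nat.card_zpowers, orderOf_mk, hv, pow_one]) :
      IsPGroup 2 (zpowers (⟨v, hvM⟩ : M))).exists_le_sylow
  obtain ⟨c, hc⟩ := MulAction.exists_smul_eq M (T.subtype hTM) Q
  have hvQ := hQ (mem_zpowers _)
  rw [← hc, Sylow.coe_subgroup_smul] at hvQ
  obtain ⟨t, ht, hte⟩ := hvQ
  refine ⟨c, c.2, ?_⟩
  rw [Sylow.coe_subgroup_smul]
  exact ⟨t, mem_subgroupOf.1 ht, congrArg Subtype.val hte⟩

theorem two_dvd_of_four (h4 : ∃ x : G, orderOf x = 4) : 2 ∣ Nat.card G := by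
  obtain ⟨x, hx⟩ := h4
  exact (by norm_num : 2 ∣ 4).trans (hx ▸ orderOf_dvd_natCard x)

/-- **The first case**: an element of order four and no two-subgroup normalised by an element of
order three. -/
theorem case_one {G : Type u} [Group G] [Finite G] {q : ℕ} (S : Setup G q)
    (h4 : ∃ x : G, orderOf x = 4)
    (hI : ∀ k : G, orderOf k = 3 → ∀ X : Subgroup G, IsPGroup 2 X → k ∈ normalizer (X : Set G) →
      X = ⊥) : False := by
  haveI := Fact.mk Nat.prime_two
  haveI := Fact.mk S.prime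
  have hI : Free G := hI
  obtain ⟨x, hx⟩ := h4
  have h4 : ∃ x : G, orderOf x = 4 := ⟨x, hx⟩
  obtain ⟨T₀, hxT⟩ := (IsPGroup.of_card (n := 2) (by rw [Nat.card_zpowers, hx]; norm_num) :
    IsPGroup 2 (zpowers x)).exists_le_sylow
  obtain ⟨A, hAT, hTA, hA, hA8⟩ := exists_normal_elementary S hI h4 T₀
  -- at least sixteen
  have hT16 : 16 ≤ Nat.card (T₀ : Subgroup G) := by
    have h := relIndex_mul_relIndex ⊥ A (T₀ : Subgroup G) bot_le hAT
    simp only [relIndex_bot_left] at h
    have h1 : A.relIndex (T₀ : Subgroup G) ≠ 1 := fun e => by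
      have h2 := hA.2 x (relIndex_eq_one.1 e (hxT (mem_zpowers x)))
      have := orderOf_dvd_of_pow_eq_one h2
      rw [hx] at this
      norm_num at this
    have h0 : A.relIndex (T₀ : Subgroup G) ≠ 0 := fun e => by
      rw [e, mul_zero] at h
      exact Nat.card_pos.ne h
    calc 16 = 8 * 2 := rfl
      _ ≤ Nat.card A * A.relIndex (T₀ : Subgroup G) := Nat.mul_le_mul hA8 (by omega)
      _ = _ := h
  set W := sig A with hW
  by_cases hW1 : W = ⊥
  · -- all cores are trivial
    have hcore : ∀ u : G, orderOf u = 2 → Cfsg.centralizerPPrimeCore 2 u = ⊥ := by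
      intro u hu
      obtain ⟨c, -, hc⟩ := exists_conj_of_mem T₀ le_top (mem_top u) hu
      obtain ⟨hAc, hAc8, hAcT⟩ := sylow_conj_data T₀ hA hA8 hAT c
      obtain ⟨B, hB, hB8, huB, hBT, -, -⟩ := exists_elementary_through S hI h4 (c • T₀) hu hc
      refine le_bot_iff.1 ((core_le_sig huB fun e => by
        rw [e, orderOf_one] at hu; norm_num at hu).trans ?_)
      rw [sig_eq_of_sylow S hI h4 (c • T₀) hB hB8 hBT hAc hAc8 hAcT, ← sig_conj, ← hW, hW1,
        Subgroup.map_bot]
    have hchar : Cfsg.IsCharacteristicTwoType G := by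
      refine CfsgLib.ClassK.isCharacteristicTwoType_of_centralizers
        (even_iff_two_dvd.2 (two_dvd_of_four h4)) fun t ht => ?_
      haveI : Group.IsSolvable ↥(centralizer ({t} : Set G)) :=
        S.solvable (S.not_three_dvd_centralizer ht)
      exact CfsgLib.Solvable.centralizer_pCore_le 2 ((Subgroup.map_eq_bot_iff_of_injective _
        (centralizer ({t} : Set G)).subtype_injective).1 (hcore t ht))
    have hO : Cfsg.pCore 2 G = ⊥ := by
      haveI := S.simple
      rcases IsSimpleGroup.eq_bot_or_eq_top_of_normal (Cfsg.pCore 2 G)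
        (CfsgLib.Solvable.pCore_normal 2 G) with e | e
      · exact e
      · exfalso
        have h2 := CfsgLib.Comp.isPGroup_pCore 2 G
        rw [e] at h2
        refine Setup.not_three_dvd_pgroup (r := 2) (by norm_num) h2 ?_
        rw [card_top]
        exact S.three_dvd
    have hloc : ∀ M : Subgroup G, Cfsg.IsTwoLocal M → Group.IsSolvable M ∧
        Cfsg.IsOfCharacteristicTwo ↥M ∧ ¬ Cfsg.Involves (Equiv.Perm (Fin 4)) ↥M := by
      rintro M ⟨X, hX, hX1, rfl⟩
      exact ⟨S.solvable (hI.not_three_dvd hX hX1), hchar.2 X hX hX1, fun h => hI.not_involves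
        (CfsgLib.Fusion.involves_of_hom _ (normalizer (X : Set G)).subtype_injective h)⟩
    obtain ⟨M, hM, -⟩ := CfsgLib.ClassK.Nice.exists_maximal (N := normalizer ((T₀ : Subgroup G) : Set G))
      ⟨T₀, T₀.isPGroup', fun e => by rw [e, card_bot] at hT16; omega, rfl⟩
    have hSE := Cfsg.Agent.S3756.result (even_iff_two_dvd.2 (two_dvd_of_four h4)) hO hloc M hM
    obtain ⟨X, hX, hX1, hMX⟩ := hM.1
    obtain ⟨T, hTM⟩ := exists_sylow_le_of_strong hSE
    obtain ⟨B, hBT, -, hB, hB8⟩ := exists_normal_elementary S hI h4 T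
    exact false_of_strong S hSE (hMX ▸ hI.not_three_dvd hX hX1) T hTM hB hB8 hBT
      (hT16.trans (T₀.card_eq_multiplicity.trans T.card_eq_multiplicity.symm).le)
  -- the normaliser is strongly embedded
  have hWq : IsPGroup q ↥W := sig_isPGroup S hA hA8
  have hW3 : ¬ 3 ∣ Nat.card W := Setup.not_three_dvd_pgroup S.q_ne_three hWq
  set M := normalizer (W : Set G) with hM
  have hTM : (T₀ : Subgroup G) ≤ M := fun t ht => mem_norm_of_map_eq (by
    rw [hW, sig_conj, map_eq_of_norm (hTA ht)])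
  have hM3 : ¬ 3 ∣ Nat.card M := by
    intro h
    haveI := Fact.mk Nat.prime_three
    obtain ⟨k, hk'⟩ := exists_prime_orderOf_dvd_card' 3 h
    have hk : orderOf (k : G) = 3 := by rw [orderOf_coe, hk']
    rcases local_cases S hW1 hW3 le_normalizer le_rfl hk k.2 with ⟨K, hK⟩ | ⟨-, E, hE, hsq, hsimp, hi⟩
    · obtain ⟨P, -, hP, hPn, -, hPi⟩ := hK.exists_part 2
      have hP1 : P = ⊥ := hI _ hk P hP (hPn k.2)
      rw [hP1, relIndex_bot_left] at hPi
      obtain ⟨m, hm⟩ := IsPGroup.iff_card.1 T₀.isPGroup'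
      have h4d : 4 ∣ Nat.card M := by
        refine dvd_trans ?_ (card_dvd_of_le hTM)
        rw [hm] at hT16 ⊢
        refine (by norm_num : 4 = 2 ^ 2) ▸ pow_dvd_pow 2 ?_
        by_contra hlt
        have : 2 ^ m ≤ 2 ^ 1 := Nat.pow_le_pow_right (by norm_num) (by omega)
        omega
      rcases hK.card with e | e <;> rw [e] at h4d <;> omega
    · haveI := hE
      haveI hn : (W.subgroupOf M).Normal := normal_subgroupOf_of_le_normalizer le_rfl
      have hq' : IsPGroup q ↥(W.subgroupOf M) :=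
        hWq.of_equiv (subgroupOfEquivOfLe le_normalizer).symm
      have hle : W.subgroupOf M ≤ E := by
        rcases hsimp.eq_bot_or_eq_top_of_normal ((W.subgroupOf M).map (QuotientGroup.mk' E))
          (Normal.map hn _ (QuotientGroup.mk'_surjective E)) with e | e
        · rwa [Subgroup.map_eq_bot_iff, QuotientGroup.ker_mk'] at e
        · exfalso
          have h1 := hq'.map (QuotientGroup.mk' E)
          rw [e] at h1
          obtain ⟨n, hn'⟩ := IsPGroup.iff_card.1 h1
          rw [card_top, ← index_eq_card, hi] at hn'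
          exact S.q_ne_three ((Nat.prime_dvd_prime_iff_eq Nat.prime_three S.prime).1
            (Nat.prime_three.dvd_of_dvd_pow (hn' ▸ (by norm_num : 3 ∣ 60) : 3 ∣ q ^ n))).symm
      refine hW1 (le_bot_iff.1 fun w hw => mem_bot.2 ?_)
      have h2 : orderOf w ∣ 2 := orderOf_dvd_of_pow_eq_one (by
        rw [sq]
        exact congrArg Subtype.val (hsq _ (hle (mem_subgroupOf.2 hw :
          (⟨w, le_normalizer hw⟩ : M) ∈ W.subgroupOf M))))
      obtain ⟨n, hn'⟩ := IsPGroup.iff_orderOf.1 hWq ⟨w, hw⟩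
      rw [orderOf_mk] at hn'
      rw [← orderOf_eq_one_iff]
      exact Nat.eq_one_of_dvd_coprimes (Nat.Coprime.pow_right n
        ((Nat.coprime_primes Nat.prime_two S.prime).2 (Ne.symm S.q_ne_two))) h2 (hn' ▸ dvd_rfl)
  have hSE : Cfsg.IsStronglyEmbedded M := by
    refine ⟨S.normalizer_ne_top hW1 hW3, even_iff_two_dvd.2 ?_, fun g hg => ?_⟩
    · refine dvd_trans ?_ (card_dvd_of_le hTM)
      exact T₀.dvd_card_of_dvd_card (two_dvd_of_four h4)
    · rw [← Nat.not_even_iff_odd, even_iff_two_dvd]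
      intro h2
      obtain ⟨v, hv'⟩ := exists_prime_orderOf_dvd_card' 2 h2
      have hv : orderOf (v : G) = 2 := by rw [orderOf_coe, hv']
      obtain ⟨v₁, hv₁M, hv₁e⟩ := (mem_inf.1 v.2).2
      have hv₁ : orderOf v₁ = 2 := by
        rw [← hv, ← hv₁e]
        exact ((MulAut.conj g).orderOf_eq v₁).symm
      obtain ⟨c, hcM, hc⟩ := exists_conj_of_mem T₀ hTM (mem_inf.1 v.2).1 hv
      obtain ⟨c', hc'M, hc'⟩ := exists_conj_of_mem T₀ hTM hv₁M hv₁
      have hvT : (v : G) ∈ (((g * c') • T₀ : Sylow 2 G) : Subgroup G) := by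
        rw [mul_smul, Sylow.coe_subgroup_smul]
        exact ⟨v₁, hc', hv₁e⟩
      obtain ⟨hAc, hAc8, hAcT⟩ := sylow_conj_data T₀ hA hA8 hAT c
      obtain ⟨hAg, hAg8, hAgT⟩ := sylow_conj_data T₀ hA hA8 hAT (g * c')
      have he := (sig_through S hI h4 hv (c • T₀) ((g * c') • T₀) hc hvT hAc hAc8 hAcT
        hAg hAg8 hAgT).1
      rw [← sig_conj, ← sig_conj, ← hW, map_eq_of_norm hcM, ← map_conj_map, map_eq_of_norm hc'M]
        at he
      exact hg (mem_norm_of_map_eq he.symm)
  exact false_of_strong S hSE hM3 T₀ hTM hA hA8 hAT hT16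

end CfsgLib.InvChar.SecNineOpen
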