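import Cfsg.Agent.S2799
import Cfsg.Agent.Lib.Invol.BrauerSuzuki
import Cfsg.Agent.Lib.Fusion.ThompsonQuad
import Cfsg.Agent.Lib.Transfer.UniqueOrderP
import Cfsg.Agent.Lib.Coprime.ClassBound
import Cfsg.Agent.Lib.InvChar.SecNineOpen.Member

/-!
# No two-subgroup normalised by an element of order three: the symmetric group of degree four is
not involved, and a Sylow two-subgroup has a normal elementary abelian subgroup of order eight.
-/

set_option autoImplicit false
set_option linter.unusedSectionVars false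
set_option linter.style.haveILetI false

namespace CfsgLib.InvChar.SecNineOpen

open Subgroup

universe u

variable {G : Type u} [Group G] [Finite G] {q : ℕ}

/-- No non-trivial two-subgroup is normalised by an element of order three. -/
def Free (G : Type u) [Group G] : Prop :=
  ∀ k : G, orderOf k = 3 → ∀ X : Subgroup G, IsPGroup 2 X → k ∈ normalizer (X : Set G) → X = ⊥

theorem Free.not_three_dvd (hI : Free G) {X : Subgroup G} (hX : IsPGroup 2 X) (hX1 : X ≠ ⊥) :
    ¬ 3 ∣ Nat.card ↥(normalizer (X : Set G)) := by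
  intro h
  haveI := Fact.mk Nat.prime_three
  obtain ⟨k, hk⟩ := exists_prime_orderOf_dvd_card' 3 h
  exact hX1 (hI _ (by rw [orderOf_coe, hk]) X hX k.2)

/-- The four-group of the symmetric group of degree four. -/
def fourS4 : Subgroup (Equiv.Perm (Fin 4)) where
  carrier := {σ | (∀ i, σ (σ i) = i) ∧ (σ = 1 ∨ ∀ i, σ i ≠ i)}
  one_mem' := ⟨fun _ => rfl, Or.inl rfl⟩
  mul_mem' := by
    have h : ∀ a b : Equiv.Perm (Fin 4), ((∀ i, a (a i) = i) ∧ (a = 1 ∨ ∀ i, a i ≠ i)) →
        ((∀ i, b (b i) = i) ∧ (b = 1 ∨ ∀ i, b i ≠ i)) →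
        ((∀ i, (a * b) ((a * b) i) = i) ∧ (a * b = 1 ∨ ∀ i, (a * b) i ≠ i)) := by decide +kernel
    intro a b ha hb
    exact h a b ha hb
  inv_mem' := by
    have h : ∀ a : Equiv.Perm (Fin 4), ((∀ i, a (a i) = i) ∧ (a = 1 ∨ ∀ i, a i ≠ i)) →
        ((∀ i, a⁻¹ (a⁻¹ i) = i) ∧ (a⁻¹ = 1 ∨ ∀ i, a⁻¹ i ≠ i)) := by decide +kernel
    intro a ha
    exact h a ha

theorem fourS4_normal : fourS4.Normal := by
  have h : ∀ a g : Equiv.Perm (Fin 4), ((∀ i, a (a i) = i) ∧ (a = 1 ∨ ∀ i, a i ≠ i)) →
      ((∀ i, (g * a * g⁻¹) ((g * a * g⁻¹) i) = i) ∧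
        (g * a * g⁻¹ = 1 ∨ ∀ i, (g * a * g⁻¹) i ≠ i)) := by decide +kernel
  exact ⟨fun a ha g => h a g ha⟩

theorem fourS4_card : Nat.card fourS4 = 4 := by
  have h : (Finset.univ.filter fun σ : Equiv.Perm (Fin 4) =>
      (∀ i, σ (σ i) = i) ∧ (σ = 1 ∨ ∀ i, σ i ≠ i)).card = 4 := by decide +kernel
  refine Eq.trans ?_ h
  rw [← SetLike.coe_sort_coe, Nat.card_coe_set_eq, ← Set.ncard_coe_finset]
  congr 1
  ext σ
  simp [fourS4]

/-- The symmetric group of degree four is not involved. -/
theorem Free.not_involves (hI : Free G) : ¬ Cfsg.Involves (Equiv.Perm (Fin 4)) G := by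
  rintro ⟨K, R, hR, ⟨e⟩⟩
  haveI := hR
  haveI := Fact.mk Nat.prime_two
  haveI := fourS4_normal
  set π : K →* Equiv.Perm (Fin 4) := e.toMonoidHom.comp (QuotientGroup.mk' (R.subgroupOf K))
  have hπ : Function.Surjective π := e.surjective.comp (QuotientGroup.mk'_surjective _)
  set L := fourS4.comap π with hL
  have hi : L.index = 6 := by
    rw [hL, index_comap_of_surjective _ hπ]
    have h1 := fourS4.card_mul_index
    rw [fourS4_card, Nat.card_perm, Nat.card_eq_fintype_card, Fintype.card_fin,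
      show Nat.factorial 4 = 24 from rfl] at h1
    omega
  have h4 : 4 ∣ Nat.card L := by
    have h := Subgroup.card_dvd_of_surjective (π.subgroupComap fourS4)
      (π.subgroupComap_surjective_of_surjective fourS4 hπ)
    rwa [fourS4_card] at h
  obtain ⟨Q⟩ : Nonempty (Sylow 2 L) := inferInstance
  set Q' := ((Q : Subgroup L).map L.subtype).map K.subtype with hQ'
  have hQ1 : Q' ≠ ⊥ := by
    intro h
    have h2 := Q.dvd_card_of_dvd_card ((by norm_num : 2 ∣ 4).trans h4)
    rw [← card_map_of_injective L.subtype_injective,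
      ← card_map_of_injective K.subtype_injective, ← hQ', h, card_bot] at h2
    norm_num at h2
  refine hI.not_three_dvd ((Q.isPGroup'.map _).map _) hQ1 ?_
  have htop := Sylow.normalizer_sup_eq_top Q
  set N := normalizer (((Q : Subgroup L).map L.subtype : Subgroup K) : Set K)
  have hsurj : Function.Surjective ((QuotientGroup.mk' L).comp N.subtype) := by
    intro x
    obtain ⟨y, rfl⟩ := QuotientGroup.mk'_surjective L x
    have hy : y ∈ (↑(N ⊔ L) : Set K) := by rw [htop]; exact Set.mem_univ y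
    rw [mul_normal] at hy
    obtain ⟨n, hn, l, hl, rfl⟩ := hy
    exact ⟨⟨n, hn⟩, by
      simp [(QuotientGroup.eq_one_iff l).2 hl]⟩
  have h3 := Subgroup.card_dvd_of_surjective _ hsurj
  rw [← index_eq_card, hi] at h3
  refine ((by norm_num : 3 ∣ 6).trans h3).trans ?_
  rw [← Nat.card_congr (equivMapOfInjective N K.subtype K.subtype_injective).symm.toEquiv]
  exact card_dvd_of_le (le_normalizer_map K.subtype)

/-- No involution is isolated. -/
theorem not_isolated (S : Setup G q) {z : G} : ¬ Cfsg.IsIsolatedInvolution z := by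
  intro hz
  haveI := S.simple
  have hO : Cfsg.oddCore G = ⊥ := by
    haveI : (Cfsg.oddCore G).Normal := CfsgLib.Solvable.pPrimeCore_normal 2 G
    rcases IsSimpleGroup.eq_bot_or_eq_top_of_normal (Cfsg.oddCore G) inferInstance with h | h
    · exact h
    · exfalso
      have hc := CfsgLib.Comp.coprime_card_pPrimeCore 2 G
      rw [show Cfsg.pPrimeCore 2 G = Cfsg.oddCore G from rfl, h, card_top] at hc
      have h2 : 2 ∣ Nat.card G := hz.1 ▸ orderOf_dvd_natCard z
      exact absurd (Nat.eq_one_of_dvd_coprimes hc h2 dvd_rfl) (by norm_num)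
  have hc : z ∈ center G := mem_center_iff.2 fun g => by
    have := CfsgLib.Invol.zstar G hz g
    rw [hO, mem_bot, mul_inv_eq_one, mul_inv_eq_iff_eq_mul] at this
    exact this.symm
  rcases IsSimpleGroup.eq_bot_or_eq_top_of_normal (center G) inferInstance with h | h
  · rw [h, mem_bot] at hc
    have := hz.1
    rw [hc, orderOf_one] at this
    norm_num at this
  · exact S.nc ⟨⟨fun a b => (mem_center_iff.1 (h ▸ mem_top b : b ∈ center G) a)⟩⟩

theorem exists_invol_center {X : Subgroup G} (hX : IsPGroup 2 X) (hX1 : X ≠ ⊥) :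
    ∃ z ∈ X, orderOf z = 2 ∧ ∀ x ∈ X, z * x = x * z := by
  haveI := Fact.mk Nat.prime_two
  haveI : Nontrivial X := (nontrivial_iff_ne_bot _).2 hX1
  haveI := hX.center_nontrivial
  obtain ⟨n, hn, hc⟩ := (hX.to_subgroup (center X)).nontrivial_iff_card.1 inferInstance
  obtain ⟨z, hz⟩ := exists_prime_orderOf_dvd_card' (G := center X) 2 (hc ▸ dvd_pow_self 2 hn.ne')
  exact ⟨((z : X) : G), (z : X).2, by rw [orderOf_coe, orderOf_coe, hz], fun x hx =>
    (congrArg Subtype.val (mem_center_iff.1 z.2 ⟨x, hx⟩)).symm⟩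

theorem le_thompson {P : Subgroup G} {z : G} (hz : z ∈ P) (hc : ∀ x ∈ P, z * x = x * z) :
    z ∈ Cfsg.thompsonSubgroupAOf P :=
  ⟨⟨z, hz⟩, CfsgLib.Fusion.center_le_thompsonA _
    (mem_center_iff.2 fun x => Subtype.ext (hc x x.2).symm), rfl⟩

theorem thompson_le (P : Subgroup G) : Cfsg.thompsonSubgroupAOf P ≤ P := map_subtype_le _

theorem conj_thompson {P : Subgroup G} {g : G} (hg : g ∈ normalizer (P : Set G)) :
    g ∈ normalizer (Cfsg.thompsonSubgroupAOf P : Set G) := by
  refine mem_normalizer_of_conj_mem ?_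
  rintro _ ⟨x, hx, rfl⟩
  refine ⟨cjAut hg x, ?_, rfl⟩
  have := CfsgLib.Fusion.thompsonA_map ↥P ↥P (cjAut hg)
  exact this ▸ mem_map_of_mem _ hx

/-- An element of prime-to-six order moves an element of an elementary abelian two-group only if
that group has order at least eight. -/
theorem eight_le_of_moved {X : Subgroup G} (hX : IsPGroup 2 X) {g x : G}
    (hg : g ∈ normalizer (X : Set G)) {r n : ℕ} (hr : r.Prime) (hr5 : 5 ≤ r)
    (hgn : orderOf g = r ^ n) (hx : x ∈ X) (hne : g * x * g⁻¹ ≠ x) : 8 ≤ Nat.card X := by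
  haveI := Fact.mk Nat.prime_two
  let f : ↥X → ↥X := fun y => ⟨g * y * g⁻¹, conj_mem hg y.2⟩
  have hit : ∀ (i : ℕ) (y : ↥X), ((f^[i] y : ↥X) : G) = g ^ i * y * (g ^ i)⁻¹ := by
    intro i
    induction i with
    | zero => simp
    | succ i ih =>
      intro y
      rw [Function.iterate_succ_apply']
      show g * (f^[i] y : ↥X) * g⁻¹ = _
      rw [ih, pow_succ']
      group
  set p := Function.minimalPeriod f ⟨x, hx⟩ with hp
  have hd : p ∣ r ^ n := Function.IsPeriodicPt.minimalPeriod_dvd (Subtype.ext (by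
    rw [hit, ← hgn, pow_orderOf_eq_one, one_mul, inv_one, mul_one]))
  have hp1 : p ≠ 1 := fun e => hne (congrArg Subtype.val
    (Function.minimalPeriod_eq_one_iff_isFixedPt.1 e))
  have hp5 : 5 ≤ p := by
    obtain ⟨i, -, hi⟩ := (Nat.dvd_prime_pow hr).1 hd
    rw [hi] at hp1 ⊢
    exact hr5.trans (Nat.le_self_pow (fun e => hp1 (by rw [e, pow_zero])) r)
  have hle : p ≤ Nat.card X := by
    haveI := Fintype.ofFinite ↥X
    rw [Nat.card_eq_fintype_card, ← Finset.card_univ, ← Finset.card_range p]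
    refine Finset.card_le_card_of_injOn (fun i => f^[i] ⟨x, hx⟩) (fun i _ => Finset.mem_univ _) ?_
    intro i hi j hj h
    exact Function.iterate_injOn_Iio_minimalPeriod (Finset.mem_range.1 hi) (Finset.mem_range.1 hj) h
  obtain ⟨m, hm⟩ := IsPGroup.iff_card.1 hX
  rw [hm] at hle ⊢
  rcases (by omega : m < 3 ∨ 3 ≤ m) with h | h
  · interval_cases m <;> omega
  · exact (by norm_num : 8 = 2 ^ 3) ▸ Nat.pow_le_pow_right (by norm_num) h

/-- A Sylow two-subgroup has a normal elementary abelian subgroup of order at least eight. -/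
theorem exists_normal_elementary (S : Setup G q) (hI : Free G) (h4 : ∃ x : G, orderOf x = 4)
    (T : Sylow 2 G) : ∃ A : Subgroup G, A ≤ (T : Subgroup G) ∧
      (T : Subgroup G) ≤ normalizer (A : Set G) ∧ Cfsg.IsElementaryAbelian 2 A ∧ 8 ≤ Nat.card A := by
  haveI := Fact.mk Nat.prime_two
  haveI := Fact.mk S.prime
  obtain ⟨x₄, hx₄⟩ := h4
  have hT1 : (T : Subgroup G) ≠ ⊥ := by
    intro h
    have h2 : 2 ∣ Nat.card G := (by norm_num : 2 ∣ 4).trans (hx₄ ▸ orderOf_dvd_natCard x₄)
    have := T.dvd_card_of_dvd_card h2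
    rw [h, card_bot] at this
    norm_num at this
  set J := Cfsg.thompsonSubgroupAOf (T : Subgroup G) with hJ
  obtain ⟨z, hzT, hz, hzc⟩ := exists_invol_center T.isPGroup' hT1
  have hzJ : z ∈ J := le_thompson hzT hzc
  have hJ2 : IsPGroup 2 J := T.isPGroup'.to_le (thompson_le _)
  have hJ1 : J ≠ ⊥ := fun h => by
    rw [h, mem_bot] at hzJ
    rw [hzJ, orderOf_one] at hz
    norm_num at hz
  set N := normalizer (J : Set G) with hN
  have hN3 := hI.not_three_dvd hJ2 hJ1
  have hTN : (T : Subgroup G) ≤ N := fun t ht => conj_thompson (le_normalizer ht)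
  -- a `q`-element of the normaliser moves `z`
  obtain ⟨Q⟩ : Nonempty (Sylow q N) := inferInstance
  obtain ⟨y, hyQ, hyz⟩ : ∃ y ∈ (Q : Subgroup N), (y : G) * z * (y : G)⁻¹ ≠ z := by
    by_contra hcon
    push Not at hcon
    set C := centralizer ({z} : Set G) ⊓ N with hC
    have hTC : (T : Subgroup G) ≤ C := le_inf
      (fun t ht => mem_centralizer_singleton_iff.2 (hzc t ht).symm) hTN
    have hQC : (Q : Subgroup N).map N.subtype ≤ C := by
      rintro _ ⟨y, hy, rfl⟩
      exact ⟨mem_centralizer_singleton_iff.2 (mul_inv_eq_iff_eq_mul.1 (hcon y hy)), y.2⟩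
    have hCN : C = N := by
      refine eq_of_le_of_card_ge inf_le_right ?_
      refine Nat.le_of_dvd Nat.card_pos ?_
      obtain ⟨i, j, hij⟩ := S.card_two_q hN3
      rw [hij]
      refine Nat.Coprime.mul_dvd_of_dvd_of_dvd
        (Nat.Coprime.pow _ _ ((Nat.coprime_primes Nat.prime_two S.prime).2 (Ne.symm S.q_ne_two))) ?_ ?_
      · refine (T.pow_dvd_card_of_pow_dvd_card ?_).trans (card_dvd_of_le hTC)
        exact (Dvd.intro _ hij.symm).trans (card_subgroup_dvd_card N)
      · refine (Q.pow_dvd_card_of_pow_dvd_card ?_).trans ?_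
        · rw [hij]; exact dvd_mul_left _ _
        · rw [← Nat.card_congr
            (equivMapOfInjective (Q : Subgroup N) N.subtype N.subtype_injective).symm.toEquiv]
          exact card_dvd_of_le hQC
    have hwc := Cfsg.Agent.S2799.result T z hzT
      ⟨⟨z, le_normalizer hzJ⟩, mem_center_iff.2 fun n => Subtype.ext (by
        have hn : (n : G) ∈ C := hCN.symm ▸ n.2
        exact mem_centralizer_singleton_iff.1 hn.1), rfl⟩ (Or.inr (Or.inr hI.not_involves))
    refine not_isolated S (z := z) ⟨hz, fun g hg => ?_⟩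
    set w := g * z * g⁻¹ with hw
    have hw2 : w ^ 2 = 1 := by
      rw [hw, conj_pow, ← hz, pow_orderOf_eq_one, mul_one, mul_inv_cancel]
    have hz2 : z ^ 2 = 1 := by rw [← hz]; exact pow_orderOf_eq_one z
    set P := closure ({z, w} : Set G)
    have hP : IsPGroup 2 P := by
      haveI : IsMulCommutative P := Subgroup.isMulCommutative_closure (by
        rintro a (rfl | rfl) b (rfl | rfl)
        exacts [rfl, hg.eq, hg.eq.symm, rfl])
      intro p
      refine ⟨1, Subtype.ext ?_⟩
      have : ∀ a ∈ P, a ^ 2 = 1 ∧ a ∈ P := by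
        intro a ha
        induction ha using closure_induction with
        | mem a ha =>
          rcases ha with rfl | rfl
          · exact ⟨hz2, subset_closure (Or.inl rfl)⟩
          · exact ⟨hw2, subset_closure (Or.inr rfl)⟩
        | one => exact ⟨one_pow _, one_mem _⟩
        | mul a b ha hb iha ihb =>
          refine ⟨?_, mul_mem ha hb⟩
          rw [Commute.mul_pow (congrArg Subtype.val (mul_comm' (⟨a, ha⟩ : P) ⟨b, hb⟩)), iha.1,
            ihb.1, one_mul]
        | inv a ha iha => exact ⟨by rw [inv_pow, iha.1, inv_one], inv_mem ha⟩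
      rw [pow_one]
      exact (this p p.2).1
    obtain ⟨T', hT'⟩ := hP.exists_le_sylow
    obtain ⟨h, hh⟩ := MulAction.exists_smul_eq G T' T
    have hmem : ∀ a ∈ P, h * a * h⁻¹ ∈ (T : Subgroup G) := by
      intro a ha
      rw [← hh, Sylow.coe_subgroup_smul]
      exact ⟨a, hT' ha, rfl⟩
    have e1 := hwc h (hmem z (subset_closure (Or.inl rfl)))
    have e2' := hmem w (subset_closure (Or.inr rfl))
    rw [hw] at e2'
    have e2 : h * (g * z * g⁻¹) * h⁻¹ = z := by
      have := hwc (h * g) (by simpa [mul_assoc] using e2')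
      calc h * (g * z * g⁻¹) * h⁻¹ = h * g * z * (h * g)⁻¹ := by group
        _ = z := this
    rw [← hw] at e2
    calc w = h⁻¹ * (h * w * h⁻¹) * h := by group
      _ = h⁻¹ * (h * z * h⁻¹) * h := by rw [e2, e1]
      _ = z := by group
  -- the elementary part of the centre
  let V : Subgroup G :=
    { carrier := {x | x ∈ J ∧ x ^ 2 = 1 ∧ ∀ j ∈ J, x * j = j * x}
      one_mem' := ⟨one_mem _, one_pow _, fun j _ => by simp⟩
      mul_mem' := fun {a b} ha hb => ⟨mul_mem ha.1 hb.1, by
        rw [Commute.mul_pow (ha.2.2 b hb.1), ha.2.1, hb.2.1, one_mul],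
        fun j hj => by rw [mul_assoc, hb.2.2 j hj, ← mul_assoc, ha.2.2 j hj, mul_assoc]⟩
      inv_mem' := fun {a} ha => ⟨inv_mem ha.1, by rw [inv_pow, ha.2.1, inv_one],
        fun j hj => by
          have h : Commute a j := ha.2.2 j hj
          exact h.inv_left.eq⟩ }
  have hVn : N ≤ normalizer (V : Set G) := fun n hn => mem_normalizer_of_conj_mem fun x hx =>
    ⟨conj_mem hn hx.1, by rw [conj_pow, hx.2.1, mul_one, mul_inv_cancel], fun j hj => by
      have := hx.2.2 (n⁻¹ * j * n) (by simpa using conj_mem (inv_mem hn) hj)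
      calc n * x * n⁻¹ * j = n * (x * (n⁻¹ * j * n)) * n⁻¹ := by group
        _ = n * ((n⁻¹ * j * n) * x) * n⁻¹ := by rw [this]
        _ = j * (n * x * n⁻¹) := by group⟩
  have hVe : Cfsg.IsElementaryAbelian 2 V :=
    ⟨⟨⟨fun a b => Subtype.ext (a.2.2.2 b b.2.1)⟩⟩, fun x hx => hx.2.1⟩
  have hVT : V ≤ (T : Subgroup G) := fun x hx => thompson_le _ hx.1
  refine ⟨V, hVT, hTN.trans hVn, hVe, ?_⟩
  obtain ⟨n, hn⟩ := IsPGroup.iff_orderOf.1 Q.isPGroup' ⟨y, hyQ⟩
  exact eight_le_of_moved (T.isPGroup'.to_le hVT) (hVn y.2) S.prime S.five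
    ((orderOf_coe y).trans ((orderOf_mk y hyQ).symm.trans hn)) (x := z)
    ⟨hzJ, by rw [← hz]; exact pow_orderOf_eq_one z, fun j hj => hzc j (thompson_le _ hj)⟩ hyz

end CfsgLib.InvChar.SecNineOpen
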