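import Cfsg.Agent.S1279
import Cfsg.Agent.S0217
import Cfsg.Agent.Lib.Coprime.Sylow
import Cfsg.Agent.Lib.InvChar.SecNineOpen.CaseOneBase

/-!
The signalizer `O(C(u))`: all elementary subgroups of order at least eight of one Sylow subgroup
generate the same group with it.
-/

set_option autoImplicit false
set_option linter.unusedSectionVars false
set_option linter.style.haveILetI false

namespace CfsgLib.InvChar.SecNineOpen

open Subgroup

universe u

variable {G : Type u} [Group G] [Finite G] {q : ℕ}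

/-- The subgroup generated by the odd cores of the centralisers of the involutions of `E`. -/
def sig (E : Subgroup G) : Subgroup G :=
  ⨆ v : {v : G // v ∈ E ∧ v ≠ 1}, Cfsg.centralizerPPrimeCore 2 (v : G)

theorem core_le_sig {E : Subgroup G} {v : G} (hv : v ∈ E) (hv1 : v ≠ 1) :
    Cfsg.centralizerPPrimeCore 2 v ≤ sig E :=
  le_iSup (fun v : {v : G // v ∈ E ∧ v ≠ 1} => Cfsg.centralizerPPrimeCore 2 (v : G)) ⟨v, hv, hv1⟩

theorem sig_mono {E F : Subgroup G} (h : E ≤ F) : sig E ≤ sig F :=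
  iSup_le fun v => core_le_sig (h v.2.1) v.2.2

theorem core_conj (g v : G) : (Cfsg.centralizerPPrimeCore 2 v).map (MulAut.conj g).toMonoidHom ≤
    Cfsg.centralizerPPrimeCore 2 (g * v * g⁻¹) := by
  haveI := Fact.mk Nat.prime_two
  refine CfsgLib.Comp.le_centralizerPPrimeCore ?_ (fun c hc => mem_normalizer_of_conj_mem ?_) ?_
  · rintro _ ⟨x, hx, rfl⟩
    have hxv := mem_centralizer_singleton_iff.1 (CfsgLib.Comp.centralizerPPrimeCore_le v hx)
    refine mem_centralizer_singleton_iff.2 ?_
    show g * x * g⁻¹ * (g * v * g⁻¹) = g * v * g⁻¹ * (g * x * g⁻¹)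
    calc g * x * g⁻¹ * (g * v * g⁻¹) = g * (x * v) * g⁻¹ := by group
      _ = g * (v * x) * g⁻¹ := by rw [hxv]
      _ = g * v * g⁻¹ * (g * x * g⁻¹) := by group
  · rintro _ ⟨x, hx, rfl⟩
    have hc' := mem_centralizer_singleton_iff.1 hc
    have hd : g⁻¹ * c * g ∈ centralizer ({v} : Set G) := mem_centralizer_singleton_iff.2 (by
      calc g⁻¹ * c * g * v = g⁻¹ * (c * (g * v * g⁻¹)) * g := by group
        _ = g⁻¹ * (g * v * g⁻¹ * c) * g := by rw [hc']
        _ = v * (g⁻¹ * c * g) := by group)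
    refine ⟨_, conj_mem (CfsgLib.Comp.centralizer_le_normalizer_centralizerPPrimeCore v hd) hx, ?_⟩
    show g * (g⁻¹ * c * g * x * (g⁻¹ * c * g)⁻¹) * g⁻¹ = c * (g * x * g⁻¹) * c⁻¹
    group
  · rw [card_map_of_injective (MulAut.conj g).injective]
    exact CfsgLib.Comp.coprime_card_centralizerPPrimeCore v

theorem sig_conj_le (g : G) (E : Subgroup G) :
    (sig E).map (MulAut.conj g).toMonoidHom ≤ sig (E.map (MulAut.conj g).toMonoidHom) := by
  rw [sig, Subgroup.map_iSup]
  exact iSup_le fun v => (core_conj g v).trans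
    (core_le_sig (mem_map_of_mem _ v.2.1) fun e => v.2.2 ((MulAut.conj g).injective
      (e.trans (map_one (MulAut.conj g)).symm)))

theorem map_conj_map (g h : G) (E : Subgroup G) :
    (E.map (MulAut.conj h).toMonoidHom).map (MulAut.conj g).toMonoidHom =
      E.map (MulAut.conj (g * h)).toMonoidHom := by
  rw [Subgroup.map_map]
  congr 1
  ext x
  simp [mul_assoc]

theorem map_conj_one (E : Subgroup G) : E.map (MulAut.conj (1 : G)).toMonoidHom = E := by
  have e : (MulAut.conj (1 : G)).toMonoidHom = MonoidHom.id G := by ext; simp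
  rw [e, Subgroup.map_id]

theorem sig_conj (g : G) (E : Subgroup G) :
    (sig E).map (MulAut.conj g).toMonoidHom = sig (E.map (MulAut.conj g).toMonoidHom) := by
  refine le_antisymm (sig_conj_le g E) ?_
  have h := map_mono (f := (MulAut.conj g).toMonoidHom)
    (sig_conj_le g⁻¹ (E.map (MulAut.conj g).toMonoidHom))
  rwa [map_conj_map, map_conj_map, mul_inv_cancel, inv_mul_cancel, map_conj_one, map_conj_one] at h

theorem solvable_centralizer (S : Setup G q) {E : Subgroup G} (hE : Cfsg.IsElementaryAbelian 2 E) :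
    ∀ a ∈ E, a ≠ 1 → Group.IsSolvable ↥(centralizer ({a} : Set G)) := fun a ha ha1 =>
  S.solvable (S.not_three_dvd_centralizer (orderOf_eq_prime (hE.2 a ha) ha1))

/-- The completeness of the signalizer functor. -/
theorem sig_spec (S : Setup G q) {E : Subgroup G} (hE : Cfsg.IsElementaryAbelian 2 E)
    (h8 : 8 ≤ Nat.card E) : ¬ 2 ∣ Nat.card ↥(sig E) ∧ E ≤ normalizer (sig E : Set G) ∧
      ∀ v ∈ E, v ≠ 1 → sig E ⊓ centralizer ({v} : Set G) = Cfsg.centralizerPPrimeCore 2 v := by
  haveI := Fact.mk Nat.prime_two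
  obtain ⟨⟨h1, h2, h3, h4⟩, h5⟩ := Cfsg.Agent.S1279.result 2 E hE (le_trans (by norm_num) h8)
    (solvable_centralizer S hE)
  have hcomm : ∀ a ∈ E, ∀ b ∈ E, a * b = b * a := fun a ha b hb =>
    congrArg Subtype.val (hE.1.is_comm.comm ⟨a, ha⟩ ⟨b, hb⟩)
  obtain ⟨hodd, hmeet⟩ := Cfsg.Agent.S0217.result E hcomm hE.2 (le_trans (by norm_num) h8)
    (fun a => Cfsg.centralizerPPrimeCore 2 a) h1 h2 h3 h5 h4
  refine ⟨hodd, fun b hb => ?_, hmeet⟩
  have hbe : E.map (MulAut.conj b).toMonoidHom = E := map_eq_of_mem_normalizer' (le_normalizer hb)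
  refine mem_normalizer_of_conj_mem fun x hx => ?_
  have := sig_conj b E
  rw [hbe] at this
  exact this ▸ mem_map_of_mem _ hx
where
  map_eq_of_mem_normalizer' {H : Subgroup G} {g : G} (h : g ∈ normalizer (H : Set G)) :
      H.map (MulAut.conj g).toMonoidHom = H :=
    eq_of_le_of_card_ge (by rintro _ ⟨x, hx, rfl⟩; exact conj_mem h hx)
      (card_map_of_injective (MulAut.conj g).injective).ge

theorem map_eq_of_norm {H : Subgroup G} {g : G} (h : g ∈ normalizer (H : Set G)) :
    H.map (MulAut.conj g).toMonoidHom = H :=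
  eq_of_le_of_card_ge (by rintro _ ⟨x, hx, rfl⟩; exact conj_mem h hx)
    (card_map_of_injective (MulAut.conj g).injective).ge

theorem mem_norm_of_map_eq {H : Subgroup G} {g : G}
    (h : H.map (MulAut.conj g).toMonoidHom = H) : g ∈ normalizer (H : Set G) :=
  mem_normalizer_of_conj_mem fun x hx => h ▸ mem_map_of_mem _ hx

/-- A four-group inside generates the same. -/
theorem sig_eq_of_le (S : Setup G q) {E V : Subgroup G} (hE : Cfsg.IsElementaryAbelian 2 E)
    (h8 : 8 ≤ Nat.card E) (hVE : V ≤ E) (h4 : 4 ≤ Nat.card V) : sig V = sig E := by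
  haveI := Fact.mk Nat.prime_two
  obtain ⟨hodd, hn, hmeet⟩ := sig_spec S hE h8
  refine le_antisymm (sig_mono hVE) ?_
  have hV : Cfsg.IsElementaryAbelian 2 V := CfsgLib.Comp.elemAb_mono hE hVE
  have hV1 : V ≠ ⊥ := fun e => by rw [e, card_bot] at h4; omega
  refine (CfsgLib.Comp.eq_iSup_centralizer_hyperplane hV hV1 hodd (hVE.trans hn)).le.trans
    (iSup_le ?_)
  rintro ⟨B, hBV, hBi⟩
  have hB1 : B ≠ ⊥ := fun e => by rw [e, relIndex_bot_left] at hBi; omega
  obtain ⟨b, hb, hb1⟩ := CfsgLib.Comp.exists_mem_ne_one hB1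
  refine le_trans ?_ (core_le_sig (hBV hb) hb1)
  rw [← hmeet b (hVE (hBV hb)) hb1]
  exact inf_le_inf_left _ (centralizer_le (by simpa using hb))

/-- The generated group is a `q`-group. -/
theorem sig_isPGroup (S : Setup G q) {E : Subgroup G} (hE : Cfsg.IsElementaryAbelian 2 E)
    (h8 : 8 ≤ Nat.card E) : IsPGroup q ↥(sig E) := by
  haveI := Fact.mk Nat.prime_two
  haveI := Fact.mk Nat.prime_three
  obtain ⟨hodd, hn, hmeet⟩ := sig_spec S hE h8
  have hcop : (Nat.card E).Coprime (Nat.card ↥(sig E)) :=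
    CfsgLib.Comp.coprime_card_elemAb hE hodd
  obtain ⟨R, hR⟩ := CfsgLib.Coprime.exists_invariant_sylow hn hcop
    (Or.inl (CfsgLib.Comp.isSolvable_elemAb hE)) 3
  set R' := (R : Subgroup ↥(sig E)).map (sig E).subtype with hR'
  have hR2 : ¬ 2 ∣ Nat.card R' := by
    intro h
    exact hodd (h.trans (card_dvd_of_le (map_subtype_le _)))
  have hR1 : R' = ⊥ := by
    refine le_bot_iff.1 ?_
    have hE1 : E ≠ ⊥ := fun e => by rw [e, card_bot] at h8; omega
    refine (CfsgLib.Comp.eq_iSup_centralizer_hyperplane hE hE1 hR2 hR).le.trans (iSup_le ?_)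
    rintro ⟨B, hBE, hBi⟩
    rintro r ⟨hr, hrB⟩
    have hB1 : B ≠ ⊥ := fun e => by rw [e, relIndex_bot_left] at hBi; omega
    obtain ⟨b, hb, hb1⟩ := CfsgLib.Comp.exists_mem_ne_one hB1
    have hbo : orderOf b = 2 := orderOf_eq_prime (hE.2 b (hBE hb)) hb1
    obtain ⟨r₀, hr₀, rfl⟩ := hr
    obtain ⟨n, hn⟩ := IsPGroup.iff_orderOf.1 R.isPGroup' ⟨r₀, hr₀⟩
    rw [orderOf_mk] at hn
    rcases n with _ | n
    · rw [pow_zero, orderOf_eq_one_iff] at hn
      rw [hn, map_one]
      exact one_mem _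
    exfalso
    refine S.not_three_dvd_centralizer hbo ?_
    have hrc : ((r₀ : ↥(sig E)) : G) ∈ centralizer ({b} : Set G) :=
      centralizer_le (by simpa using hb) hrB
    have := orderOf_dvd_natCard (⟨_, hrc⟩ : centralizer ({b} : Set G))
    rw [orderOf_mk, orderOf_coe, hn] at this
    exact (dvd_pow_self 3 n.succ_ne_zero).trans this
  have h3 : ¬ 3 ∣ Nat.card ↥(sig E) := by
    intro h
    have := R.dvd_card_of_dvd_card h
    rw [← card_map_of_injective (sig E).subtype_injective (K := (R : Subgroup ↥(sig E))), ← hR', hR1,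
      card_bot] at this
    norm_num at this
  obtain ⟨i, j, hij⟩ := S.card_two_q h3
  rcases i with _ | i
  · exact IsPGroup.of_card (n := j) (by rw [hij]; simp)
  · exact absurd (hij ▸ Dvd.dvd.mul_right (dvd_pow_self 2 i.succ_ne_zero) _) hodd

/-- A normal four-group of a Sylow subgroup inside an elementary subgroup of order at least eight. -/
theorem exists_normal_four (S : Setup G q) (hI : Free G) (h4 : ∃ x : G, orderOf x = 4)
    (T : Sylow 2 G) : ∃ V A : Subgroup G, V ≤ A ∧ A ≤ (T : Subgroup G) ∧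
      (T : Subgroup G) ≤ normalizer (V : Set G) ∧ Cfsg.IsElementaryAbelian 2 A ∧
      8 ≤ Nat.card A ∧ Nat.card V = 4 := by
  haveI := Fact.mk Nat.prime_two
  obtain ⟨A, hAT, hTA, hA, h8⟩ := exists_normal_elementary S hI h4 T
  haveI : (A.subgroupOf (T : Subgroup G)).Normal := normal_subgroupOf_of_le_normalizer hTA
  obtain ⟨m, hm⟩ := IsPGroup.iff_card.1 (T.isPGroup'.to_le hAT)
  obtain ⟨M, hMn, hMA, hMc⟩ := CfsgLib.Transfer.exists_normal_le_card T.isPGroup'
    (A.subgroupOf (T : Subgroup G)) (k := 2) (by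
      rw [Nat.card_congr (subgroupOfEquivOfLe hAT).toEquiv, hm]
      refine pow_dvd_pow 2 ?_
      by_contra hlt
      have : 2 ^ m ≤ 2 ^ 2 := Nat.pow_le_pow_right (by norm_num) (by omega)
      omega)
  refine ⟨M.map (T : Subgroup G).subtype, A, ?_, hAT, fun t ht => mem_normalizer_of_conj_mem ?_,
    hA, h8, by rw [card_map_of_injective (T : Subgroup G).subtype_injective, hMc]; norm_num⟩
  · rintro _ ⟨x, hx, rfl⟩
    exact mem_subgroupOf.1 (hMA hx)
  · rintro _ ⟨x, hx, rfl⟩
    exact ⟨⟨t, ht⟩ * x * ⟨t, ht⟩⁻¹, hMn.conj_mem x hx _, rfl⟩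

/-- Any two elementary subgroups of order at least eight of a Sylow subgroup generate the same. -/
theorem sig_eq_of_sylow (S : Setup G q) (hI : Free G) (h4 : ∃ x : G, orderOf x = 4) (T : Sylow 2 G)
    {E F : Subgroup G} (hE : Cfsg.IsElementaryAbelian 2 E) (hE8 : 8 ≤ Nat.card E)
    (hET : E ≤ (T : Subgroup G)) (hF : Cfsg.IsElementaryAbelian 2 F) (hF8 : 8 ≤ Nat.card F)
    (hFT : F ≤ (T : Subgroup G)) : sig E = sig F := by
  haveI := Fact.mk Nat.prime_two
  obtain ⟨V, A, hVA, hAT, hTV, hA, hA8, hV4⟩ := exists_normal_four S hI h4 T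
  suffices key : ∀ E : Subgroup G, Cfsg.IsElementaryAbelian 2 E → 8 ≤ Nat.card E →
      E ≤ (T : Subgroup G) → sig E = sig V from (key E hE hE8 hET).trans (key F hF hF8 hFT).symm
  intro E hE hE8 hET
  have hV : Cfsg.IsElementaryAbelian 2 V := CfsgLib.Comp.elemAb_mono hA hVA
  set C := E ⊓ centralizer (V : Set G) with hC
  -- the centraliser of the four-group has index at most two
  have hCi : C.relIndex E ≤ 2 := by
    set K := (T : Subgroup G) ⊓ centralizer (V : Set G) with hK
    suffices hKi : K.relIndex E ≤ 2 by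
      refine le_trans (le_of_eq ?_) hKi
      have e : C = K ⊓ E := by
        ext x
        simp only [hC, hK, mem_inf]
        exact ⟨fun h => ⟨⟨hET h.1, h.2⟩, h.1⟩, fun h => ⟨h.2, h.1.2⟩⟩
      rw [e, inf_relIndex_right]
    let φ : ↥E →* Equiv.Perm ↥V :=
      MonoidHom.mk' (fun e => (cjAut (hTV (hET e.2))).toEquiv) fun a b => Equiv.ext fun v =>
        Subtype.ext (by
          show (a : G) * b * v * ((a : G) * b)⁻¹ = a * (b * v * (b : G)⁻¹) * (a : G)⁻¹
          group)
    have hker : φ.ker = K.subgroupOf E := by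
      ext e
      rw [MonoidHom.mem_ker, mem_subgroupOf, hK, mem_inf, mem_centralizer_iff]
      constructor
      · intro h
        refine ⟨hET e.2, fun v hv => ?_⟩
        have h' : (e : G) * v * (e : G)⁻¹ = v :=
          congrArg (fun f : Equiv.Perm ↥V => ((f ⟨v, hv⟩ : ↥V) : G)) h
        exact (mul_inv_eq_iff_eq_mul.1 h').symm
      · rintro ⟨-, h⟩
        exact Equiv.ext fun v => Subtype.ext (by
          show (e : G) * v * (e : G)⁻¹ = v
          rw [← h v v.2, mul_inv_cancel_right])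
    -- a two-group of permutations of the three involutions
    have hle : Nat.card φ.range ≤ 2 := by
      have hd : Nat.card φ.range ∣ Nat.card (MulAction.stabilizer (Equiv.Perm ↥V) (1 : ↥V)) := by
        refine card_dvd_of_le ?_
        rintro _ ⟨e, rfl⟩
        exact MulAction.mem_stabilizer_iff.2 (map_one (cjAut (hTV (hET e.2))))
      have h6 : Nat.card (MulAction.stabilizer (Equiv.Perm ↥V) (1 : ↥V)) = 6 := by
        have h1 := (MulAction.stabilizer (Equiv.Perm ↥V) (1 : ↥V)).card_mul_index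
        rw [MulAction.index_stabilizer, MulAction.orbit_eq_univ, Set.ncard_univ, Nat.card_perm,
          hV4, show Nat.factorial 4 = 24 from rfl] at h1
        omega
      rw [h6] at hd
      obtain ⟨i, hi⟩ := IsPGroup.iff_card.1
        ((CfsgLib.Comp.isPGroup_of_elemAb hE).of_surjective φ.rangeRestrict
          φ.rangeRestrict_surjective)
      rw [hi] at hd ⊢
      rcases (by omega : i ≤ 1 ∨ 2 ≤ i) with h | h
      · exact Nat.pow_le_pow_right (by norm_num) h
      · exact absurd ((pow_dvd_pow 2 h).trans hd) (by norm_num)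
    rw [← index_ker, hker] at hle
    exact hle
  have hC4 : 4 ≤ Nat.card C := by
    have h := relIndex_mul_relIndex ⊥ C E bot_le inf_le_left
    simp only [relIndex_bot_left] at h
    nlinarith
  have hCe : Cfsg.IsElementaryAbelian 2 C := CfsgLib.Comp.elemAb_mono hE inf_le_left
  -- the join with the four-group
  have hcv : ∀ c ∈ C, ∀ v ∈ V, c * v = v * c := fun c hc v hv =>
    (mem_centralizer_iff.1 hc.2 v hv).symm
  have hcc : ∀ a ∈ (C : Set G) ∪ V, ∀ b ∈ (C : Set G) ∪ V, a * b = b * a := by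
    rintro a (ha | ha) b (hb | hb)
    · exact congrArg Subtype.val (hCe.1.is_comm.comm ⟨a, ha⟩ ⟨b, hb⟩)
    · exact hcv a ha b hb
    · exact (hcv b hb a ha).symm
    · exact congrArg Subtype.val (hV.1.is_comm.comm ⟨a, ha⟩ ⟨b, hb⟩)
  set U := closure ((C : Set G) ∪ V) with hU
  haveI hUc : IsMulCommutative U := Subgroup.isMulCommutative_closure hcc
  have hUe : Cfsg.IsElementaryAbelian 2 U := by
    refine ⟨hUc, fun x hx => ?_⟩
    induction hx using closure_induction with
    | mem a ha =>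
      rcases ha with ha | ha
      · exact hCe.2 a ha
      · exact hV.2 a ha
    | one => exact one_pow _
    | mul a b ha hb iha ihb =>
      rw [Commute.mul_pow (congrArg Subtype.val (mul_comm' (⟨a, ha⟩ : U) ⟨b, hb⟩)), iha, ihb,
        one_mul]
    | inv a ha iha => rw [inv_pow, iha, inv_one]
  have hCU : C ≤ U := fun c hc => subset_closure (Or.inl hc)
  have hVU : V ≤ U := fun c hc => subset_closure (Or.inr hc)
  rcases lt_or_ge (Nat.card U) 8 with hlt | hge
  · -- the four-group already lies in `E`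
    obtain ⟨m, hm⟩ := IsPGroup.iff_card.1 (CfsgLib.Comp.isPGroup_of_elemAb hUe)
    have hU4 : Nat.card U = 4 := by
      have := hV4 ▸ card_le_of_le hVU
      rw [hm] at this hlt ⊢
      have hm3 : m < 3 := by
        by_contra h
        have : 2 ^ 3 ≤ 2 ^ m := Nat.pow_le_pow_right (by norm_num) (by omega)
        omega
      interval_cases m <;> omega
    have hCeq : C = U := eq_of_le_of_card_ge hCU (hU4.trans_le hC4)
    have hVE : V ≤ E := fun v hv => (hCeq ▸ hVU hv : v ∈ C).1
    exact (sig_eq_of_le S hE hE8 hVE hV4.ge).symm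
  · rw [← sig_eq_of_le S hE hE8 inf_le_left hC4, sig_eq_of_le S hUe hge hCU hC4,
      sig_eq_of_le S hUe hge hVU hV4.ge]

end CfsgLib.InvChar.SecNineOpen
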