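import Cfsg.Agent.Lib.Comp.Signalizer
import Cfsg.Agent.Lib.Solvable.HallHigman
import Cfsg.Agent.Lib.InvChar.SecNineOpen.Action

/-!
# Inverted elements in solvable `{2, q}`-groups of automorphisms with trivial two-core

Every involution inverts an element of order `q`, and of two commuting involutions one can be
chosen to invert an element fixed by another one of their four-group.
-/

set_option autoImplicit false
set_option linter.unusedSectionVars false
set_option linter.style.haveILetI false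
set_option linter.unusedSimpArgs false

namespace CfsgLib.InvChar.SecNineOpen

open Subgroup

universe u

/-- A solvable `{2, q}`-group with trivial two-core. -/
structure Pair2q (R : Type u) [Group R] (q : ℕ) : Prop where
  prime : q.Prime
  five : 5 ≤ q
  solv : Group.IsSolvable R
  card : ∃ i j, Nat.card R = 2 ^ i * q ^ j
  core : Cfsg.pCore 2 R = ⊥

namespace Pair2q

variable {R : Type u} [Group R] [Finite R] {q : ℕ}

theorem centralizer_core_le (h : Pair2q R q) :
    centralizer (Cfsg.pCore q R : Set R) ≤ Cfsg.pCore q R := by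
  haveI := Fact.mk h.prime
  haveI := h.solv
  refine CfsgLib.Solvable.centralizer_pCore_le q (le_bot_iff.1 (sSup_le ?_))
  rintro N ⟨hN, hNc⟩
  rw [← h.core]
  refine le_sSup ⟨hN, ?_⟩
  obtain ⟨i, j, hij⟩ := h.card
  have hd := card_subgroup_dvd_card N
  rw [hij] at hd
  obtain ⟨m, -, hm⟩ := (Nat.dvd_prime_pow Nat.prime_two).1
    ((Nat.Coprime.pow_right j hNc).dvd_of_dvd_mul_right hd)
  exact IsPGroup.of_card hm

/-- A commutator with an involution gives an inverted element of order `q`. -/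
theorem exists_power (h : Pair2q R q) {a x : R} (ha : a * a = 1)
    (hx : x ∈ Cfsg.pCore q R) (hne : a * x * a ≠ x) :
    ∃ f : R, f ^ q = 1 ∧ f ≠ 1 ∧ a * f * a = f⁻¹ ∧
      ∀ c : R, Commute c a → Commute c x → Commute c f := by
  haveI := Fact.mk h.prime
  have hai : a⁻¹ = a := inv_eq_of_mul_eq_one_right ha
  haveI := Cfsg.pCore_normal q R
  set f₀ := x⁻¹ * (a * x * a) with hf₀
  have hmem : f₀ ∈ Cfsg.pCore q R := by
    refine mul_mem (inv_mem hx) ?_
    have := Normal.conj_mem (Cfsg.pCore_normal q R) x hx a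
    rwa [hai] at this
  have hinv : a * f₀ * a = f₀⁻¹ := by
    calc a * f₀ * a = a * x⁻¹ * a * x * (a * a) := by rw [hf₀]; group
      _ = a⁻¹ * x⁻¹ * a⁻¹ * x := by rw [ha, mul_one, hai]
      _ = f₀⁻¹ := by rw [hf₀]; group
  have hf1 : f₀ ≠ 1 := fun e => hne (inv_mul_eq_one.1 e).symm
  have hcomm : ∀ c : R, Commute c a → Commute c x → Commute c f₀ := fun c h1 h2 =>
    h2.inv_right.mul_right ((h1.mul_right h2).mul_right h1)
  obtain ⟨n, hn⟩ := IsPGroup.iff_orderOf.1 (CfsgLib.Comp.isPGroup_pCore q R) ⟨f₀, hmem⟩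
  rw [orderOf_mk] at hn
  obtain ⟨m, rfl⟩ : ∃ m, n = m + 1 := by
    rcases n with _ | m
    · exact absurd (orderOf_eq_one_iff.1 (hn.trans (pow_zero q))) hf1
    · exact ⟨m, rfl⟩
  refine ⟨f₀ ^ q ^ m, ?_, ?_, ?_, fun c h1 h2 => (hcomm c h1 h2).pow_right _⟩
  · rw [← pow_mul, ← pow_succ, ← hn, pow_orderOf_eq_one]
  · intro e
    have := Nat.le_of_dvd (pow_pos h.prime.pos m) (orderOf_dvd_of_pow_eq_one e)
    rw [hn, pow_succ] at this
    have h5 := h.five
    have hp := pow_pos h.prime.pos m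
    nlinarith
  · calc a * f₀ ^ q ^ m * a = a * f₀ ^ q ^ m * a⁻¹ := by rw [hai]
      _ = (a * f₀ * a⁻¹) ^ q ^ m := (conj_pow).symm
      _ = (f₀ ^ q ^ m)⁻¹ := by rw [hai, hinv, inv_pow]

theorem not_mem_core (h : Pair2q R q) {a : R} (ha : a * a = 1) (ha1 : a ≠ 1) :
    a ∉ Cfsg.pCore q R := by
  intro hm
  haveI := Fact.mk h.prime
  haveI := Fact.mk Nat.prime_two
  have h2 : orderOf a = 2 := orderOf_eq_prime (by rw [sq]; exact ha) ha1
  obtain ⟨n, hn⟩ := IsPGroup.iff_orderOf.1 (CfsgLib.Comp.isPGroup_pCore q R) ⟨a, hm⟩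
  rw [orderOf_mk, h2] at hn
  have := (Nat.prime_dvd_prime_iff_eq Nat.prime_two h.prime).1
    (Nat.prime_two.dvd_of_dvd_pow (n := n) (by rw [← hn]))
  have := h.five
  omega

theorem exists_inverted (h : Pair2q R q) {a : R} (ha : a * a = 1) (ha1 : a ≠ 1) :
    ∃ f : R, f ^ q = 1 ∧ f ≠ 1 ∧ a * f * a = f⁻¹ := by
  have hai : a⁻¹ = a := inv_eq_of_mul_eq_one_right ha
  obtain ⟨x, hx, hne⟩ : ∃ x ∈ Cfsg.pCore q R, a * x * a ≠ x := by
    by_contra hcon
    push Not at hcon
    refine h.not_mem_core ha ha1 (h.centralizer_core_le (mem_centralizer_iff.2 fun x hx => ?_))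
    calc x * a = a * x * a * a := by rw [hcon x hx]
      _ = a * x := by rw [mul_assoc (a * x), ha, mul_one]
  obtain ⟨f, h1, h2, h3, -⟩ := h.exists_power ha hx hne
  exact ⟨f, h1, h2, h3⟩

/-- Of a four-group, some involution inverts an element which another fixes. -/
theorem exists_inverted_fixed (h : Pair2q R q) {a b : R} (ha : a * a = 1) (hb : b * b = 1)
    (hab : Commute a b) (ha1 : a ≠ 1) (hb1 : b ≠ 1) (hne : a ≠ b) :
    ∃ c d f : R, (c = a ∨ c = b ∨ c = a * b) ∧ (d = a ∨ d = b ∨ d = a * b) ∧ c ≠ 1 ∧ d ≠ 1 ∧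
      c ≠ d ∧ f ^ q = 1 ∧ f ≠ 1 ∧ c * f * c = f⁻¹ ∧ Commute d f := by
  haveI := Fact.mk Nat.prime_two
  have hba : b * a = a * b := hab.eq.symm
  have haa : ∀ z, a * (a * z) = z := fun z => by rw [← mul_assoc, ha, one_mul]
  have hbb : ∀ z, b * (b * z) = z := fun z => by rw [← mul_assoc, hb, one_mul]
  have hbaz : ∀ z, b * (a * z) = a * (b * z) := fun z => by rw [← mul_assoc, hba, mul_assoc]
  let A : Subgroup R :=
    { carrier := {x | x = 1 ∨ x = a ∨ x = b ∨ x = a * b}
      one_mem' := Or.inl rfl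
      mul_mem' := by
        rintro x y (rfl | rfl | rfl | rfl) (rfl | rfl | rfl | rfl) <;>
          simp [mul_assoc, ha, hb, hba, haa, hbb, hbaz]
      inv_mem' := by
        rintro x (rfl | rfl | rfl | rfl) <;>
          simp [inv_eq_of_mul_eq_one_right ha, inv_eq_of_mul_eq_one_right hb, hba] }
  have hcomm : ∀ x ∈ A, ∀ y ∈ A, Commute x y := by
    rintro x (rfl | rfl | rfl | rfl) y (rfl | rfl | rfl | rfl) <;>
      simp [commute_iff_eq, mul_assoc, ha, hb, hba, haa, hbb, hbaz]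
  have hsq : ∀ x ∈ A, x * x = 1 := by
    rintro x (rfl | rfl | rfl | rfl) <;> simp [mul_assoc, ha, hb, haa, hbb, hbaz]
  have hA : Cfsg.IsElementaryAbelian 2 A :=
    ⟨⟨⟨fun x y => Subtype.ext (hcomm x x.2 y y.2).eq⟩⟩, fun x hx => by rw [sq]; exact hsq x hx⟩
  have haA : a ∈ A := Or.inr (Or.inl rfl)
  have hbA : b ∈ A := Or.inr (Or.inr (Or.inl rfl))
  haveI := Cfsg.pCore_normal q R
  haveI := Fact.mk h.prime
  by_contra hcon
  push Not at hcon
  have key : ∀ c ∈ A, c ≠ 1 → ∀ d ∈ A, ∀ x ∈ Cfsg.pCore q R, Commute c x → Commute d x := by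
    intro d hd hd1 c hc x hx hdx
    by_contra hcx
    have hc2 := hsq c hc
    have hne' : c * x * c ≠ x := fun e => hcx (by
      show c * x = x * c
      calc c * x = c * x * c * c := by rw [mul_assoc (c * x), hc2, mul_one]
        _ = x * c := by rw [e])
    obtain ⟨f, h1, h2, h3, h4⟩ := h.exists_power hc2 hx hne'
    have hc1 : c ≠ 1 := fun e => hcx (e ▸ Commute.one_left x)
    have hcd : c ≠ d := fun e => hcx (e ▸ hdx)
    exact hcon c d f (hc.resolve_left hc1) (hd.resolve_left hd1) hc1 hd1 hcd h1 h2 h3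
      (h4 d (hcomm d hd c hc) hdx)
  have hle : Cfsg.pCore q R ≤ centralizer ({a} : Set R) := by
    have hA1 : A ≠ ⊥ := fun e => ha1 (by rw [e] at haA; exact mem_bot.1 haA)
    have hq2 : ¬ 2 ∣ Nat.card (Cfsg.pCore q R) := by
      obtain ⟨n, hn⟩ := IsPGroup.iff_card.1 (CfsgLib.Comp.isPGroup_pCore q R)
      rw [hn]
      intro h2
      have := (Nat.prime_dvd_prime_iff_eq Nat.prime_two h.prime).1 (Nat.prime_two.dvd_of_dvd_pow h2)
      have := h.five
      omega
    rw [CfsgLib.Comp.eq_iSup_centralizer_hyperplane hA hA1 hq2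
      (le_top.trans (normalizer_eq_top_iff.2 (Cfsg.pCore_normal q R)).ge)]
    refine iSup_le fun B => ?_
    rintro x ⟨hx, hxB⟩
    obtain ⟨c, hc, hc1⟩ : ∃ c ∈ B.1, c ≠ 1 := by
      refine B.1.bot_or_exists_ne_one.resolve_left fun e => ?_
      have hi := B.2.2
      rw [e, relIndex_bot_left] at hi
      have : Nat.card A ≤ 2 := hi.le
      have h3 : ({1, a, b} : Set R).ncard = 3 :=
        Set.ncard_eq_three.2 ⟨1, a, b, Ne.symm ha1, Ne.symm hb1, hne, rfl⟩
      have h4 : ({1, a, b} : Set R).ncard ≤ (A : Set R).ncard :=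
        Set.ncard_le_ncard (by
          rintro z (rfl | rfl | rfl)
          exacts [one_mem A, haA, hbA]) (Set.toFinite _)
      rw [h3, ← Nat.card_coe_set_eq] at h4
      exact absurd (h4.trans this) (by norm_num)
    refine mem_centralizer_singleton_iff.2 (key c (B.2.1 hc) hc1 a haA x hx ?_).eq.symm
    exact mem_centralizer_iff.1 hxB c hc
  refine h.not_mem_core ha ha1 (h.centralizer_core_le (mem_centralizer_iff.2 fun x hx => ?_))
  exact mem_centralizer_singleton_iff.1 (hle hx)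

end Pair2q

end CfsgLib.InvChar.SecNineOpen
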