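import Cfsg.Agent.Lib.Char.Burnside
import Cfsg.Agent.Lib.InvChar.SecNineOpen.Faith

/-!
# Small movements on a normal elementary abelian two-subgroup of a `{2, q}`-group

The subgroup is the normal closure of an element centralised by a Sylow two-subgroup, so the group
it induces has trivial two-core.
-/

set_option autoImplicit false
set_option linter.unusedSectionVars false
set_option linter.style.haveILetI false

namespace CfsgLib.InvChar.SecNineOpen

open Subgroup

universe u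

/-- A normal elementary abelian subgroup generated by the conjugates of an element fixed by a
Sylow two-subgroup. -/
structure Elem {M : Type u} [Group M] (q : ℕ) (S N : Subgroup M) : Prop where
  prime : q.Prime
  five : 5 ≤ q
  card : ∃ i j, Nat.card M = 2 ^ i * q ^ j
  two : IsPGroup 2 S
  sylow : ¬ 2 ∣ S.index
  normal : N.Normal
  comm : ∀ a ∈ N, ∀ b ∈ N, a * b = b * a
  sq : ∀ a ∈ N, a * a = 1
  gen : ∃ z ∈ N, (∀ s ∈ S, Commute s z) ∧ N ≤ normalClosure {z}

namespace Elem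

variable {M : Type u} [Group M] [Finite M] {q : ℕ} {S N : Subgroup M}

/-- The abelian group structure. -/
@[instance_reducible] def cg (h : Elem q S N) : CommGroup N :=
  { (inferInstance : Group N) with mul_comm := fun a b => Subtype.ext (h.comm a a.2 b b.2) }

theorem isPGroup_core_le_of_sylow (hS : IsPGroup 2 S) (hS' : ¬ 2 ∣ S.index) {L : Subgroup M}
    (hL : IsPGroup 2 L) (hn : L.Normal) : L ≤ S := by
  haveI := Fact.mk Nat.prime_two
  exact hL.le_sylow_of_normal (hS.toSylow hS')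

theorem pair2q [N.Normal] (h : Elem q S N) :
    Pair2q (MulAut.conjNormal (G := M) (H := N)).range q := by
  haveI := Fact.mk h.prime
  haveI := Fact.mk Nat.prime_two
  set ρ := (MulAut.conjNormal (G := M) (H := N))
  obtain ⟨i, j, hij⟩ := h.card
  haveI : Group.IsSolvable M := CfsgLib.Char.burnside_pq 2 q Nat.prime_two h.prime i j M hij
  have hd : Nat.card ρ.range ∣ 2 ^ i * q ^ j := hij ▸ Subgroup.card_range_dvd ρ
  refine ⟨h.prime, h.five, Group.isSolvable_of_surjective ρ.rangeRestrict_surjective, ?_, ?_⟩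
  · obtain ⟨u, v, hu, hv, e⟩ := exists_dvd_and_dvd_of_dvd_mul hd
    obtain ⟨i', -, rfl⟩ := (Nat.dvd_prime_pow Nat.prime_two).1 hu
    obtain ⟨j', -, rfl⟩ := (Nat.dvd_prime_pow h.prime).1 hv
    exact ⟨i', j', e⟩
  obtain ⟨z, hzN, hzS, hgen⟩ := h.gen
  set L := (Cfsg.pCore 2 ρ.range).comap ρ.rangeRestrict with hL
  have hLn : L.Normal := Normal.comap (Cfsg.pCore_normal 2 ρ.range) _
  have hcore : Cfsg.pCore 2 ρ.range ≤ S.map ρ.rangeRestrict := by
    refine isPGroup_core_le_of_sylow (h.two.map _) ?_ (CfsgLib.Comp.isPGroup_pCore 2 _)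
      (Cfsg.pCore_normal 2 _)
    exact fun hh => h.sylow (hh.trans (index_map_dvd _ ρ.rangeRestrict_surjective))
  -- the conjugates of `z` are fixed
  let F : Subgroup M :=
    { carrier := {x | ∀ l ∈ L, ∀ m, Commute l (m * x * m⁻¹)}
      one_mem' := fun l _ m => by simp
      mul_mem' := fun {a b} ha hb l hl m => by
        have := (ha l hl m).mul_right (hb l hl m)
        rwa [show m * a * m⁻¹ * (m * b * m⁻¹) = m * (a * b) * m⁻¹ by group] at this
      inv_mem' := fun {a} ha l hl m => by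
        have := (ha l hl m).inv_right
        rwa [show (m * a * m⁻¹)⁻¹ = m * a⁻¹ * m⁻¹ by group] at this }
  have hFn : F.Normal := ⟨fun x hx g l hl m => by
    have := hx l hl (m * g)
    rwa [show m * g * x * (m * g)⁻¹ = m * (g * x * g⁻¹) * m⁻¹ by group] at this⟩
  have hzF : z ∈ F := by
    intro l hl m
    have hl' : m⁻¹ * l * m ∈ L := by simpa using hLn.conj_mem l hl m⁻¹
    obtain ⟨s, hs, hsl⟩ := hcore hl'
    have e : ρ s = ρ (m⁻¹ * l * m) := congrArg Subtype.val hsl
    have e' := congrArg Subtype.val (DFunLike.congr_fun e ⟨z, hzN⟩)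
    simp only [ρ, MulAut.conjNormal_apply] at e'
    rw [(hzS s hs).eq, mul_inv_cancel_right] at e'
    show l * (m * z * m⁻¹) = m * z * m⁻¹ * l
    calc l * (m * z * m⁻¹) = m * (m⁻¹ * l * m * z * (m⁻¹ * l * m)⁻¹) * m⁻¹ * l := by group
      _ = m * z * m⁻¹ * l := by rw [← e']
  rw [eq_bot_iff]
  rintro ⟨r, hr⟩ hrc
  obtain ⟨l, rfl⟩ := id hr
  rw [mem_bot]
  refine Subtype.ext (MulEquiv.ext fun x => Subtype.ext ?_)
  have hlL : l ∈ L := hrc
  have hxF : (x : M) ∈ F :=
    (normalClosure_le_normal (N := F) (Set.singleton_subset_iff.2 hzF)) (hgen x.2)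
  have := hxF l hlL 1
  rw [one_mul, inv_one, mul_one] at this
  show l * (x : M) * l⁻¹ = x
  rw [this.eq, mul_inv_cancel_right]

/-- The data produced by an element acting as an involution. -/
theorem exists_inverts [N.Normal] (h : Elem q S N) {g : M} {x₀ : M} (hx₀ : x₀ ∈ N)
    (hne : g * x₀ * g⁻¹ ≠ x₀) (hg2 : ∀ x ∈ N, g * g * x * (g * g)⁻¹ = x) :
    letI := h.cg
    ∃ f : MulAut N, Inverts q (MulAut.conjNormal g) f := by
  letI := h.cg
  set ρ := (MulAut.conjNormal (G := M) (H := N))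
  have ha : ρ.rangeRestrict g * ρ.rangeRestrict g = 1 := by
    refine Subtype.ext (MulEquiv.ext fun x => Subtype.ext ?_)
    show g * (g * (x : M) * g⁻¹) * g⁻¹ = x
    calc g * (g * (x : M) * g⁻¹) * g⁻¹ = g * g * x * (g * g)⁻¹ := by group
      _ = x := hg2 x x.2
  have ha1 : ρ.rangeRestrict g ≠ 1 := fun e => hne <| by
    have e' : ρ g = 1 := congrArg Subtype.val e
    have := congrArg Subtype.val (DFunLike.congr_fun e' ⟨x₀, hx₀⟩)
    simpa [ρ] using this
  obtain ⟨f, h1, h2, h3⟩ := h.pair2q.exists_inverted ha ha1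
  exact ⟨f, fun x => Subtype.ext (h.sq x x.2), h.prime, h.five, congrArg Subtype.val ha,
    congrArg Subtype.val h1, fun e => h2 (Subtype.ext e), congrArg Subtype.val h3⟩

theorem range_le [N.Normal] (h : Elem q S N) {g : M} {R : Subgroup M}
    (hR : ∀ x ∈ N, g * x * g⁻¹ * x⁻¹ ∈ R) :
    letI := h.cg
    (mv (MulAut.conjNormal g : MulAut N)).range ≤ R.subgroupOf N ∧
      Nat.card (mv (MulAut.conjNormal g : MulAut N)).range ≤ Nat.card R := by
  letI := h.cg
  have hle : (mv (MulAut.conjNormal g : MulAut N)).range ≤ R.subgroupOf N := by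
    rintro _ ⟨x, rfl⟩
    exact mem_subgroupOf.2 (hR x x.2)
  refine ⟨hle, (card_le_of_le hle).trans ?_⟩
  rw [← card_map_of_injective N.subtype_injective]
  exact card_le_of_le (subgroupOf_map_subtype R N ▸ inf_le_left)

/-- An element moving everything into a subgroup of order two fixes everything. -/
theorem commute_of_move_two (h : Elem q S N) {g : M} (hg2 : ∀ x ∈ N, g * g * x * (g * g)⁻¹ = x)
    {R : Subgroup M} (hR : ∀ x ∈ N, g * x * g⁻¹ * x⁻¹ ∈ R) (hc : Nat.card R ≤ 2) :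
    ∀ x ∈ N, g * x * g⁻¹ = x := by
  haveI := h.normal
  letI := h.cg
  intro x hx
  by_contra hne
  obtain ⟨f, hf⟩ := h.exists_inverts hx hne hg2
  exact hf.not_small ((h.range_le hR).2.trans hc)

/-- An element acting as an involution with at most four movements needs sixteen elements. -/
theorem sixteen_le (h : Elem q S N) {g : M} (hg2 : ∀ x ∈ N, g * g * x * (g * g)⁻¹ = x)
    {R : Subgroup M} (hR : ∀ x ∈ N, g * x * g⁻¹ * x⁻¹ ∈ R) (hc : Nat.card R ≤ 4) {x₀ : M}
    (hx₀ : x₀ ∈ N) (hne : g * x₀ * g⁻¹ ≠ x₀) : 16 ≤ Nat.card N := by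
  haveI := h.normal
  letI := h.cg
  obtain ⟨f, hf⟩ := h.exists_inverts hx₀ hne hg2
  have := (hf.dichotomy ((h.range_le hR).2.trans hc)).2.1
  exact this ▸ card_le_card_group _

/-- No four-group of elements each moving everything into at most four elements around a common
nontrivial one. -/
theorem no_four (h : Elem q S N) {g g' : M} (hg : ∀ x ∈ N, g * g * x * (g * g)⁻¹ = x)
    (hg' : ∀ x ∈ N, g' * g' * x * (g' * g')⁻¹ = x)
    (hgg : ∀ x ∈ N, g * g' * x * (g * g')⁻¹ = g' * g * x * (g' * g)⁻¹)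
    {R : M → Subgroup M} {v : M} (hv1 : v ≠ 1) (hvN : v ∈ N)
    (hmove : ∀ c ∈ ({g, g', g * g'} : Set M), (∀ x ∈ N, c * x * c⁻¹ * x⁻¹ ∈ R c) ∧
      Nat.card (R c) ≤ 4 ∧ v ∈ R c ∧ ∃ x ∈ N, c * x * c⁻¹ ≠ x) : False := by
  haveI := h.normal
  letI := h.cg
  set ρ := (MulAut.conjNormal (G := M) (H := N))
  have hsq : ∀ c : M, (∀ x ∈ N, c * c * x * (c * c)⁻¹ = x) →
      ρ.rangeRestrict c * ρ.rangeRestrict c = 1 := fun c hc => by
    refine Subtype.ext (MulEquiv.ext fun x => Subtype.ext ?_)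
    show c * (c * (x : M) * c⁻¹) * c⁻¹ = x
    calc c * (c * (x : M) * c⁻¹) * c⁻¹ = c * c * x * (c * c)⁻¹ := by group
      _ = x := hc x x.2
  have hne : ∀ c ∈ ({g, g', g * g'} : Set M), ρ.rangeRestrict c ≠ 1 := fun c hc e => by
    obtain ⟨x, hx, hxc⟩ := (hmove c hc).2.2.2
    refine hxc ?_
    have e' : ρ c = 1 := congrArg Subtype.val e
    have := congrArg Subtype.val (DFunLike.congr_fun e' ⟨x, hx⟩)
    simpa [ρ] using this
  have hcomm : Commute (ρ.rangeRestrict g) (ρ.rangeRestrict g') := by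
    refine Subtype.ext (MulEquiv.ext fun x => Subtype.ext ?_)
    show g * (g' * (x : M) * g'⁻¹) * g⁻¹ = g' * (g * (x : M) * g⁻¹) * g'⁻¹
    calc g * (g' * (x : M) * g'⁻¹) * g⁻¹ = g * g' * x * (g * g')⁻¹ := by group
      _ = g' * g * x * (g' * g)⁻¹ := hgg x x.2
      _ = g' * (g * (x : M) * g⁻¹) * g'⁻¹ := by group
  have hdiff : ρ.rangeRestrict g ≠ ρ.rangeRestrict g' := fun e =>
    hne (g * g') (by simp) (by rw [map_mul, ← e]; exact hsq g hg)
  obtain ⟨c, d, f, hc, hd, hc1, hd1, hcd, hf1, hf2, hf3, hf4⟩ := h.pair2q.exists_inverted_fixed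
    (hsq g hg) (hsq g' hg') hcomm (hne g (by simp)) (hne g' (by simp)) hdiff
  have lift : ∀ e, (e = ρ.rangeRestrict g ∨ e = ρ.rangeRestrict g' ∨
      e = ρ.rangeRestrict g * ρ.rangeRestrict g') →
      ∃ e₀ ∈ ({g, g', g * g'} : Set M), e = ρ.rangeRestrict e₀ := by
    rintro e (rfl | rfl | rfl)
    · exact ⟨g, by simp, rfl⟩
    · exact ⟨g', by simp, rfl⟩
    · exact ⟨g * g', by simp, (map_mul _ _ _).symm⟩
  have hsq' : ∀ e, (e = ρ.rangeRestrict g ∨ e = ρ.rangeRestrict g' ∨
      e = ρ.rangeRestrict g * ρ.rangeRestrict g') → e * e = 1 := by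
    rintro e (rfl | rfl | rfl)
    · exact hsq g hg
    · exact hsq g' hg'
    · exact (pow_two _).symm.trans (by rw [hcomm.mul_pow, pow_two, pow_two, hsq g hg, hsq g' hg', one_mul])
  have hmk : ∀ e e' : ρ.range, (e * e = 1) → e' ^ q = 1 → e' ≠ 1 → e * e' * e = e'⁻¹ →
      Inverts q (e : MulAut N) (e' : MulAut N) := fun e e' h1 h2 h3 h4 =>
    ⟨fun x => Subtype.ext (h.sq x x.2), h.prime, h.five, congrArg Subtype.val h1,
      congrArg Subtype.val h2, fun e0 => h3 (Subtype.ext e0), congrArg Subtype.val h4⟩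
  have hmem : ∀ e, (e = ρ.rangeRestrict g ∨ e = ρ.rangeRestrict g' ∨
      e = ρ.rangeRestrict g * ρ.rangeRestrict g') →
      Nat.card (mv ((e : ρ.range) : MulAut N)).range ≤ 4 ∧
        (⟨v, hvN⟩ : N) ∈ (mv ((e : ρ.range) : MulAut N)).range := by
    intro e he
    obtain ⟨e₀, he₀, rfl⟩ := lift e he
    obtain ⟨hR, h4, hvR, -⟩ := hmove e₀ he₀
    obtain ⟨hle, hcard⟩ := h.range_le hR
    have h4' := hcard.trans h4
    obtain ⟨f', hf', hf'', hf'''⟩ := h.pair2q.exists_inverted (hsq' _ he) (hne e₀ he₀)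
    have h44 := ((hmk _ _ (hsq' _ he) hf' hf'' hf''').dichotomy h4').2.2.1
    refine ⟨h4', ?_⟩
    show _ ∈ (mv (MulAut.conjNormal e₀ : MulAut N)).range
    rw [eq_of_le_of_card_ge hle]
    · exact mem_subgroupOf.2 hvR
    · refine le_trans ?_ h44.ge
      rw [← card_map_of_injective N.subtype_injective]
      exact (card_le_of_le (subgroupOf_map_subtype (R e₀) N ▸ inf_le_left)).trans h4
  have := (hmk c f (hsq' c hc) hf1 hf2 hf3).no_second (hmem c hc).1 (hmem d hd).1
    (congrArg Subtype.val hf4.eq) (hmem c hc).2 (hmem d hd).2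
  exact hv1 (congrArg Subtype.val this)

end Elem

end CfsgLib.InvChar.SecNineOpen
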