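import Cfsg.Agent.Lib.InvChar.SecNineOpen.Setting
import Cfsg.Agent.Lib.Invol.CIT.Main
import Cfsg.Agent.Lib.Classical.PSLTwoPerm
import Cfsg.Agent.Lib.Recog.CITGraph.Model
import Cfsg.Agent.Lib.Recog.LThreeFourPlane.Model
import Cfsg.Agent.S0497
import Cfsg.Agent.S1011
import Cfsg.Agent.S1020

/-!
# The CIT finish

The simple CIT-groups of order `9 · 2ᵃ · qᵇ` are `A₆`, `L₂(8)`, `L₂(17)`, so none has `b ≥ 2`.
-/

set_option autoImplicit false

namespace CfsgLib.InvChar.SecNineOpen

universe u

theorem not_three_dvd_suzuki (m : ℕ) :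
    ¬ 3 ∣ (2 ^ (2 * m + 1)) ^ 2 * ((2 ^ (2 * m + 1)) ^ 2 + 1) * (2 ^ (2 * m + 1) - 1) := by
  have h2 : 2 ^ (2 * m + 1) % 3 = 2 := by
    rw [pow_succ, pow_mul, Nat.mul_mod, Nat.pow_mod]
    norm_num
  generalize 2 ^ (2 * m + 1) = x at h2 ⊢
  have hx2 : x ^ 2 % 3 = 1 := by rw [Nat.pow_mod, h2]
  have h1 : (x ^ 2 + 1) % 3 = 2 := by rw [Nat.add_mod, hx2]
  have h3 : (x - 1) % 3 = 1 := by omega
  intro h
  have := Nat.dvd_iff_mod_eq_zero.1 h
  rw [Nat.mul_mod, Nat.mul_mod (x ^ 2), hx2, h1, h3] at this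
  norm_num at this

theorem eq_nine_of_two_pow_mul {x y k : ℕ} (h : 2 ^ x * k = 9 * 2 ^ y) (hk : k % 2 = 1) :
    k = 9 := by
  have h2 : Nat.Coprime k 2 := Nat.coprime_two_right.2 (Nat.odd_iff.2 hk)
  exact Nat.dvd_antisymm ((h2.pow_right y).dvd_of_dvd_mul_right (h ▸ dvd_mul_left _ _))
    (((show Nat.Coprime 9 2 by norm_num).pow_right x).dvd_of_dvd_mul_left (h ▸ dvd_mul_right _ _))

/-- The orders of the simple CIT-groups of order `9 · 2ᵃ · qᵇ`. -/
theorem cit_card {G : Type u} [Group G] [Finite G] [IsSimpleGroup G] (hnc : ¬ IsMulCommutative G)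
    {q a b : ℕ} (hq : q.Prime) (h5 : 5 ≤ q) (hcard : Nat.card G = 9 * 2 ^ a * q ^ b)
    (h : ∀ t : G, orderOf t = 2 → IsPGroup 2 (Subgroup.centralizer ({t} : Set G))) :
    Nat.card G = 360 ∨ Nat.card G = 504 ∨ Nat.card G = 2448 := by
  have hG : ∃ a b : G, a * b ≠ b * a := by
    by_contra hc
    push Not at hc
    exact hnc ⟨⟨hc⟩⟩
  have h9 : 9 ∣ Nat.card G := hcard ▸ Dvd.dvd.mul_right (dvd_mul_right 9 _) _
  rcases CfsgLib.Invol.CIT.classification hG h with ⟨F, hF1, hF2, hcase, ⟨e⟩⟩ | ⟨F, hF1, hF2, hF, ⟨e⟩⟩ |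
    ⟨⟨-, m, -, hSz⟩, -⟩
  · rw [Nat.card_congr e.toEquiv] at h9 hcard ⊢
    rcases hcase with hF | ⟨n, hF⟩ | ⟨hp, k, hk⟩
    · exact Or.inl (CfsgLib.Classical.card_psl_two_eq hF 360 (by norm_num))
    · -- fields of even order
      have hn : 1 ≤ n := by
        by_contra hn
        have h1 := Fintype.one_lt_card (α := F)
        rw [hF, show n = 0 by omega] at h1
        norm_num at h1
      have hc := CfsgLib.Recog.CITGraph.card_psl_even hn hF
      rw [hc] at h9 hcard ⊢
      right; left
      set M := 2 ^ n - 1 with hM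
      have hpos := Nat.one_le_two_pow (n := n)
      have hsq : 2 ^ (2 * n) - 1 = M * (M + 2) := by
        refine Nat.sub_eq_of_eq_add ?_
        rw [two_mul, pow_add, show 2 ^ n = M + 1 by omega]
        ring
      rw [hsq] at h9 hcard ⊢
      have hModd : M % 2 = 1 := by
        obtain ⟨c, hc⟩ := dvd_pow_self 2 (show n ≠ 0 by omega)
        omega
      have hcop : M.Coprime (M + 2) := by
        rw [Nat.coprime_self_add_right]
        exact (Nat.coprime_two_right).2 (Nat.odd_iff.2 hModd)
      have hqodd : q % 2 = 1 := hq.eq_two_or_odd.resolve_left (by omega)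
      have hprod : M * (M + 2) = 9 * q ^ b := by
        have hodd2 : ∀ {x y k l : ℕ}, 2 ^ x * k = 2 ^ y * l → k % 2 = 1 → l % 2 = 1 → k = l := by
          intro x y k l hkl hk hl
          exact Nat.dvd_antisymm
            (((Nat.coprime_two_right.2 (Nat.odd_iff.2 hk)).pow_right y).dvd_of_dvd_mul_left
              (hkl ▸ dvd_mul_left _ _))
            (((Nat.coprime_two_right.2 (Nat.odd_iff.2 hl)).pow_right x).dvd_of_dvd_mul_left
              (hkl ▸ dvd_mul_left _ _))
        refine hodd2 (x := n) (y := a) (by rw [hcard]; ring) ?_ ?_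
        · rw [Nat.mul_mod, Nat.add_mod, hModd]
        · rw [Nat.mul_mod, Nat.pow_mod, hqodd]; simp
      have split : ∀ {r i : ℕ}, r.Prime → r ^ i ∣ M * (M + 2) → r ^ i ∣ M ∨ r ^ i ∣ M + 2 := by
        intro r i hr hd
        by_cases hrM : r ∣ M
        · left
          refine (Nat.Coprime.pow_left i ?_).dvd_of_dvd_mul_right hd
          exact (hr.coprime_iff_not_dvd).2 fun hr2 =>
            hr.not_dvd_one (hcop ▸ Nat.dvd_gcd hrM hr2)
        · exact Or.inr ((Nat.Coprime.pow_left i (hr.coprime_iff_not_dvd.2 hrM)).dvd_of_dvd_mul_left hd)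
      have hqb : 1 ≤ q ^ b := Nat.one_le_pow _ _ (by omega)
      have hM1 : 0 < M := by omega
      have hc3 : Nat.Coprime (3 ^ 2) (q ^ b) :=
        Nat.Coprime.pow 2 b ((Nat.coprime_primes Nat.prime_three hq).2 (by omega))
      rcases split (r := 3) (i := 2) Nat.prime_three (hprod ▸ dvd_mul_right _ _) with h3 | h3 <;>
        rcases split hq (show q ^ b ∣ M * (M + 2) from hprod ▸ dvd_mul_left _ _) with hq3 | hq3
      · -- both divide `M`
        have := Nat.le_of_dvd hM1 (hc3.mul_dvd_of_dvd_of_dvd h3 hq3)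
        nlinarith
      · -- `M = 9`, impossible
        obtain ⟨c, hc⟩ := h3
        obtain ⟨d, hd⟩ := hq3
        have hcd : c * d = 1 := by
          refine Nat.eq_of_mul_eq_mul_left (show 0 < 9 * q ^ b by omega) ?_
          rw [mul_one]
          calc 9 * q ^ b * (c * d) = 9 * c * (q ^ b * d) := by ring
            _ = 3 ^ 2 * c * (q ^ b * d) := by norm_num
            _ = 9 * q ^ b := by rw [← hc, ← hd]; exact hprod
        have hc1 : c = 1 := Nat.eq_one_of_mul_eq_one_right hcd
        rw [hc1] at hc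
        exfalso
        have : 2 ^ n = 10 := by norm_num at hc; omega
        obtain ⟨i, -, hi⟩ := (Nat.dvd_prime_pow Nat.prime_two).1 (this ▸ (by norm_num : 5 ∣ 10) :
          5 ∣ 2 ^ n)
        rcases i with _ | _ | _ | i <;> norm_num at hi
        have := Nat.pow_le_pow_right (show 0 < 2 by norm_num) (show 3 ≤ i + 1 + 1 + 1 by omega)
        omega
      · -- `M + 2 = 9`
        obtain ⟨c, hc⟩ := h3
        obtain ⟨d, hd⟩ := hq3
        have hcd : c * d = 1 := by
          refine Nat.eq_of_mul_eq_mul_left (show 0 < 9 * q ^ b by omega) ?_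
          rw [mul_one]
          calc 9 * q ^ b * (c * d) = 9 * c * (q ^ b * d) := by ring
            _ = 3 ^ 2 * c * (q ^ b * d) := by norm_num
            _ = 9 * q ^ b := by rw [← hc, ← hd, mul_comm]; exact hprod
        have hc1 : c = 1 := Nat.eq_one_of_mul_eq_one_right hcd
        rw [hc1] at hc
        norm_num at hc
        have h8 : 2 ^ n = 8 := by omega
        rw [h8, show M = 7 by omega]
      · -- both divide `M + 2`
        have := Nat.le_of_dvd (by omega) (hc3.mul_dvd_of_dvd_of_dvd h3 hq3)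
        nlinarith
    · -- prime fields
      set p := Fintype.card F with hpdef
      have hmul := CfsgLib.Classical.card_psl_two_mul (F := F)
      rw [← hpdef] at hmul
      rcases eq_or_ne p 2 with hp2 | hp2
      · rw [hp2] at hmul
        norm_num at hmul
        rw [hmul] at h9
        norm_num at h9
      have hg : Nat.gcd 2 (p - 1) = 2 := by
        have := hp.eq_two_or_odd.resolve_left hp2
        exact Nat.gcd_eq_left (by omega)
      rw [hg] at hmul
      have hpd : p ∣ Nat.card (Matrix.ProjectiveSpecialLinearGroup (Fin 2) F) := by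
        have h0 : p ∣ 2 * Nat.card (Matrix.ProjectiveSpecialLinearGroup (Fin 2) F) := by
          rw [hmul]; exact dvd_mul_right _ _
        rcases hp.dvd_mul.1 h0 with h1 | h1
        · exact absurd ((Nat.prime_dvd_prime_iff_eq hp Nat.prime_two).1 h1) hp2
        · exact h1
      rw [hcard] at hpd
      rcases eq_of_dvd_two_q hq (dvd_refl _) hp hpd with e' | e' | e'
      · exact absurd e' hp2
      · exfalso
        rw [e'] at hmul
        rw [show Nat.card (Matrix.ProjectiveSpecialLinearGroup (Fin 2) F) = 12 by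
          norm_num at hmul; omega] at h9
        norm_num at h9
      rw [e'] at hk hmul
      rw [hcard] at hmul
      -- the exponent of `q` is one
      have hnd : ¬ q ∣ q ^ 2 - 1 := fun hd => by
        have := Nat.dvd_sub (dvd_pow_self q two_ne_zero) hd
        rw [Nat.sub_sub_self (Nat.one_le_pow _ _ (by omega))] at this
        exact hq.not_dvd_one this
      have hb1 : b = 1 := by
        rcases b with _ | _ | b
        · exfalso
          have hd : q ∣ 2 * (9 * 2 ^ a * q ^ 0) := hmul ▸ dvd_mul_right _ _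
          rw [pow_zero, mul_one, show 2 * (9 * 2 ^ a) = 3 ^ 2 * 2 ^ (a + 1) by ring] at hd
          rcases hq.dvd_mul.1 hd with h1 | h1
          · have := (Nat.prime_dvd_prime_iff_eq hq Nat.prime_three).1 (hq.dvd_of_dvd_pow h1)
            omega
          · have := (Nat.prime_dvd_prime_iff_eq hq Nat.prime_two).1 (hq.dvd_of_dvd_pow h1)
            omega
        · rfl
        · exfalso
          refine hnd ⟨2 * (9 * 2 ^ a * q ^ b), Nat.eq_of_mul_eq_mul_left (show 0 < q by omega) ?_⟩
          rw [← hmul]; ring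
      subst hb1
      rw [hcard]
      have hfac : (q + 1) * (q - 1) = 9 * 2 ^ (a + 1) := by
        rw [← Nat.sq_sub_sq, one_pow]
        refine Nat.eq_of_mul_eq_mul_left (show 0 < q by omega) ?_
        rw [← hmul]; ring
      obtain ⟨k', rfl⟩ : ∃ k', k = k' + 2 := ⟨k - 2, by
        rcases k with _ | _ | k <;> norm_num at hk <;> omega⟩
      have hpk : 2 ^ (k' + 2) = 2 * 2 ^ (k' + 1) := by rw [pow_succ]; ring
      have hev : 2 ^ (k' + 1) % 2 = 0 := by rw [pow_succ]; omega
      rcases hk with hk | hk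
      · right; right
        have h9' := eq_nine_of_two_pow_mul (x := k' + 3) (y := a + 1) (k := 2 ^ (k' + 1) + 1) (by
          rw [← hfac, hk, Nat.add_sub_cancel, pow_succ 2 (k' + 2), hpk]; ring) (by omega)
        have hq17 : q = 17 := by omega
        subst hq17
        norm_num at hfac
        have : 2 ^ (a + 1) = 32 := by omega
        rw [show a = 4 from Nat.succ_injective
          (Nat.pow_right_injective le_rfl (this.trans (by norm_num : (32 : ℕ) = 2 ^ (4 + 1))))]
        norm_num
      · exfalso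
        have h9' := eq_nine_of_two_pow_mul (x := k' + 3) (y := a + 1) (k := 2 ^ (k' + 1) - 1) (by
          rw [← hfac, hk, pow_succ 2 (k' + 2)]
          obtain ⟨r, hr⟩ : ∃ r, 2 ^ (k' + 1) = r + 1 := ⟨2 ^ (k' + 1) - 1, by
            have := Nat.one_le_two_pow (n := k' + 1); omega⟩
          rw [show q - 1 = 2 * r by omega, hpk, hr, Nat.add_sub_cancel]; ring) (by omega)
        have h10 : 2 ^ (k' + 1) = 10 := by omega
        obtain ⟨i, -, hi⟩ := (Nat.dvd_prime_pow Nat.prime_two).1 (h10 ▸ (by norm_num : 5 ∣ 10) :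
          5 ∣ 2 ^ (k' + 1))
        rcases i with _ | _ | _ | i <;> norm_num at hi
        have := Nat.pow_le_pow_right (show 0 < 2 by norm_num) (show 3 ≤ i + 1 + 1 + 1 by omega)
        omega
  · -- `PSL₃(4)`
    exfalso
    rw [Nat.card_congr e.toEquiv, CfsgLib.Recog.LThreeFour.card_psl_three_four hF] at hcard
    have d5 : 5 ∣ 9 * 2 ^ a * q ^ b := hcard ▸ (by norm_num)
    have d7 : 7 ∣ 9 * 2 ^ a * q ^ b := hcard ▸ (by norm_num)
    have e5 := eq_of_dvd_two_q hq (dvd_refl _) (by norm_num : Nat.Prime 5) d5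
    have e7 := eq_of_dvd_two_q hq (dvd_refl _) (by norm_num : Nat.Prime 7) d7
    omega
  · exact absurd (hSz ▸ ((by norm_num : 3 ∣ 9).trans h9)) (not_three_dvd_suzuki m)

/-- **The CIT finish.** -/
theorem cit_cases {G : Type u} [Group G] [Finite G] [IsSimpleGroup G] (hnc : ¬ IsMulCommutative G)
    {q a b : ℕ} (hq : q.Prime) (h5 : 5 ≤ q) (hcard : Nat.card G = 9 * 2 ^ a * q ^ b)
    (h : ∀ t : G, orderOf t = 2 → IsPGroup 2 (Subgroup.centralizer ({t} : Set G))) :
    Nonempty (G ≃* ↥(alternatingGroup (Fin 6))) ∨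
      (∃ (F : Type) (_ : Field F) (_ : Fintype F), Fintype.card F = 8 ∧
        Nonempty (G ≃* Matrix.ProjectiveSpecialLinearGroup (Fin 2) F)) ∨
      Nonempty (G ≃* Matrix.ProjectiveSpecialLinearGroup (Fin 2) (ZMod 17)) := by
  haveI := Fintype.ofFinite G
  rcases cit_card hnc hq h5 hcard h with h' | h' | h'
  · exact Or.inl (Cfsg.Agent.S0497.result h')
  · right; left
    letI : Fintype (GaloisField 2 3) := Fintype.ofFinite _
    have h8 : Fintype.card (GaloisField 2 3) = 8 := by
      rw [← Nat.card_eq_fintype_card, GaloisField.card 2 3 (by norm_num)]; rfl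
    exact ⟨GaloisField 2 3, inferInstance, inferInstance, h8,
      Cfsg.Agent.S1011.result h' (F := GaloisField 2 3) h8⟩
  · right; right
    haveI : Fact (Nat.Prime 17) := ⟨by norm_num⟩
    exact Cfsg.Agent.S1020.result h' (F := ZMod 17) (ZMod.card 17)

theorem false_of_centralizers_two {G : Type u} [Group G] [Finite G] {q : ℕ} (S : Setup G q)
    (h : ∀ t : G, orderOf t = 2 → IsPGroup 2 (Subgroup.centralizer ({t} : Set G))) : False := by
  haveI := S.simple
  obtain ⟨a, b, hb, hcard⟩ := S.ord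
  have hq2 : q ^ 2 ∣ Nat.card G := hcard ▸ dvd_mul_of_dvd_right (pow_dvd_pow q hb) _
  have h5 := S.five
  have hp := S.prime
  rcases cit_card S.nc hp h5 hcard h with h' | h' | h' <;> rw [h'] at hq2
  all_goals
    have hle := Nat.le_of_dvd (by norm_num) hq2
    have hq50 : q ≤ 49 := by nlinarith
    interval_cases q <;> first | (norm_num at hq2; done) | (norm_num at hp; done)

end CfsgLib.InvChar.SecNineOpen
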