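import Cfsg.Agent.Lib.InvChar.SecNineOpen.Member

/-!
# The exceptional local shape has no commuting involution and element of order five

In `E.A₅` the fixed points of the element of order five in `E` would be stable under the whole
group, against the elements of order three acting without fixed points.
-/

set_option autoImplicit false
set_option linter.unusedSectionVars false
set_option linter.style.haveILetI false

namespace CfsgLib.InvChar.SecNineOpen

open Subgroup CfsgLib.Recog.SelfCentThree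

universe u

variable {G : Type u} [Group G] [Finite G] {q : ℕ}

/-- Two elements of order three in one coset of `⟨ȳ⟩`. -/
theorem exists_two_in_coset {Q : Type*} [Group Q] [Finite Q] {y x : Q} (hc : Nat.card Q = 60)
    (hx : Hyp x) (hy : orderOf y = 5) :
    ∃ a b : Q, orderOf a = 3 ∧ orderOf b = 3 ∧ a ≠ b ∧ b * a⁻¹ ∈ zpowers y := by
  classical
  set C := centralizer ({x} : Set Q) with hC
  have hC3 : Nat.card C = 3 := by rw [hC, hx.cent, Nat.card_zpowers, hx.ord]
  let cj : Q ⧸ C → Q := fun c => c.out * x * c.out⁻¹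
  have hcj : Function.Injective cj := fun a b e => by
    rw [← QuotientGroup.out_eq' a, ← QuotientGroup.out_eq' b, QuotientGroup.eq]
    refine mem_centralizer_singleton_iff.2 ?_
    have e' : a.out * x * a.out⁻¹ = b.out * x * b.out⁻¹ := e
    calc a.out⁻¹ * b.out * x = a.out⁻¹ * (b.out * x * b.out⁻¹) * b.out := by group
      _ = x * (a.out⁻¹ * b.out) := by rw [← e']; group
  haveI := Fintype.ofFinite (Q ⧸ C)
  haveI := Fintype.ofFinite (Q ⧸ zpowers y)
  have h20 : Fintype.card (Q ⧸ C) = 20 := by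
    have h1 := card_eq_card_quotient_mul_card_subgroup C
    rw [hc, hC3, Nat.card_eq_fintype_card] at h1
    omega
  have h12 : Fintype.card (Q ⧸ zpowers y) = 12 := by
    have h1 := card_eq_card_quotient_mul_card_subgroup (zpowers y)
    rw [hc, Nat.card_zpowers, hy, Nat.card_eq_fintype_card] at h1
    omega
  obtain ⟨c, d, hcd, he⟩ := Fintype.exists_ne_map_eq_of_card_lt
    (fun c : Q ⧸ C => (QuotientGroup.mk (cj c)⁻¹ : Q ⧸ zpowers y)) (by omega)
  have ho : ∀ c, orderOf (cj c) = 3 := fun c =>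
    (orderOf_injective (MulAut.conj c.out).toMonoidHom (MulAut.conj c.out).injective x).trans hx.ord
  refine ⟨cj c, cj d, ho c, ho d, fun e => hcd (hcj e), ?_⟩
  have h1 := QuotientGroup.eq.1 he
  rw [inv_inv] at h1
  have h2 := inv_mem h1
  rwa [mul_inv_rev, inv_inv] at h2

namespace Alt

variable {H : Subgroup G}

theorem false_of_commute (hA : Alt q H) (S : Setup G q) {k : G} (hk : orderOf k = 3) (hkH : k ∈ H)
    {y u : G} (hy : y ∈ H) (hu : u ∈ H) (hyo : orderOf y = q) (huo : orderOf u = 2)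
    (hc : Commute y u) : False := by
  have hq5 : q = 5 := hA.five
  obtain ⟨E, hE, hsq, hsimp, hi, huE⟩ := hA.not_commute_five hy hu hyo huo hc
  haveI := hE
  haveI := Fact.mk (by norm_num : Nat.Prime 5)
  haveI := Fact.mk Nat.prime_three
  have hE2 := isPGroup_two_of_sq hsq
  have hE3 : ¬ 3 ∣ Nat.card E := by
    haveI := Fact.mk Nat.prime_two
    obtain ⟨n, hn'⟩ := IsPGroup.iff_card.1 hE2
    rw [hn']
    exact fun h => absurd (Nat.prime_three.dvd_of_dvd_pow h) (by norm_num)
  have hc60 : Nat.card (H ⧸ E) = 60 := hi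
  set π := QuotientGroup.mk' E with hπ
  set y' : H := ⟨y, hy⟩ with hy'
  have hy'5 : y' ^ 5 = 1 := Subtype.ext (by
    show y ^ 5 = 1
    rw [← hq5, ← hyo, pow_orderOf_eq_one])
  have hyb : orderOf (π y') = 5 := by
    refine orderOf_eq_prime (by rw [← map_pow, hy'5, map_one]) ?_
    intro e
    have := hsq _ ((QuotientGroup.eq_one_iff _).1 e)
    have h2 : orderOf y' ∣ 2 := orderOf_dvd_of_pow_eq_one (by rw [pow_two]; exact this)
    rw [hy', orderOf_mk, hyo, hq5] at h2
    norm_num at h2
  obtain ⟨a, b, ha, hb, hab, hba⟩ := exists_two_in_coset hc60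
    ((hyp_of_alt S hk hkH hsq hi).quotient E hE3) hyb
  have hcomm : ∀ e ∈ E, ∀ e' ∈ E, Commute e e' := by
    intro e he e' he'
    have h1 := hsq _ (mul_mem he he')
    have i1 : e⁻¹ = e := inv_eq_of_mul_eq_one_right (hsq e he)
    have i2 : e'⁻¹ = e' := inv_eq_of_mul_eq_one_right (hsq e' he')
    have := inv_eq_of_mul_eq_one_right h1
    rw [mul_inv_rev, i1, i2] at this
    exact this.symm
  -- lifts of order three and their norm relation on `E`
  have lift : ∀ c : H ⧸ E, orderOf c = 3 → ∃ c' : H, π c' = c ∧ orderOf c' = 3 := by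
    intro c hc'
    obtain ⟨w, rfl⟩ := QuotientGroup.mk'_surjective E c
    obtain ⟨n, m, hm, hwo⟩ := Nat.exists_eq_pow_mul_and_not_dvd (orderOf_pos w).ne' 2 (by norm_num)
    refine ⟨w ^ 2 ^ (2 * n), ?_, ?_⟩
    · rw [map_pow, ← pow_mod_orderOf, hc',
        show 2 ^ (2 * n) % 3 = 1 by rw [pow_mul, Nat.pow_mod]; norm_num, pow_one]
    · refine orderOf_eq_prime ?_ ?_
      · have hwE : w ^ 3 ∈ E := by
          rw [← QuotientGroup.eq_one_iff (N := E), ← QuotientGroup.mk'_apply, map_pow, ← hc',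
            pow_orderOf_eq_one]
        have h6 : w ^ 6 = 1 := by rw [show 6 = 3 + 3 by rfl, pow_add]; exact hsq _ hwE
        rw [← pow_mul]
        rcases n with _ | n
        · have h1 : orderOf w ∣ 6 := orderOf_dvd_of_pow_eq_one h6
          rw [pow_zero, one_mul] at hwo
          rw [hwo] at h1
          refine orderOf_dvd_iff_pow_eq_one.1 (hwo ▸ ?_)
          simpa using (Nat.Coprime.dvd_of_dvd_mul_left (k := m) (m := 2) (n := 3)
            ((Nat.prime_two.coprime_iff_not_dvd.2 hm).symm) h1)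
        · refine orderOf_dvd_iff_pow_eq_one.1 ((orderOf_dvd_of_pow_eq_one h6).trans ?_)
          rw [show (6 : ℕ) = 2 * 3 by rfl]
          exact Nat.mul_dvd_mul_right (dvd_pow_self 2 (by omega)) 3
      · intro e
        have e' := congrArg π e
        rw [map_pow, map_one, ← pow_mod_orderOf, hc',
          show 2 ^ (2 * n) % 3 = 1 by rw [pow_mul, Nat.pow_mod]; norm_num, pow_one] at e'
        rw [e', orderOf_one] at hc'
        norm_num at hc'
  obtain ⟨a', ha', hao⟩ := lift a ha
  obtain ⟨b', hb', hbo⟩ := lift b hb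
  have hnorm : ∀ c : H, orderOf c = 3 → ∀ e ∈ E,
      e * (c * e * c⁻¹) * (c * (c * e * c⁻¹) * c⁻¹) = 1 := by
    intro c hc' e he
    set n := e * (c * e * c⁻¹) * (c * (c * e * c⁻¹) * c⁻¹) with hn
    have he1 := hE.conj_mem e he c
    have he2 := hE.conj_mem _ he1 c
    have hnE : n ∈ E := mul_mem (mul_mem he he1) he2
    have hcube : c * c * c = 1 := by rw [← pow_three', ← hc', pow_orderOf_eq_one]
    have hfix : c * n * c⁻¹ = n := by
      have e3 : c * (c * (c * e * c⁻¹) * c⁻¹) * c⁻¹ = e := by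
        calc c * (c * (c * e * c⁻¹) * c⁻¹) * c⁻¹ = c * c * c * e * (c * c * c)⁻¹ := by group
          _ = e := by rw [hcube, one_mul, inv_one, mul_one]
      calc c * n * c⁻¹ = c * e * c⁻¹ * (c * (c * e * c⁻¹) * c⁻¹) *
            (c * (c * (c * e * c⁻¹) * c⁻¹) * c⁻¹) := by rw [hn]; group
        _ = e * (c * e * c⁻¹ * (c * (c * e * c⁻¹) * c⁻¹)) := by
            rw [e3]; exact (hcomm _ (mul_mem he1 he2) _ he).eq
        _ = n := by rw [hn]; simp [mul_assoc]
    refine Subtype.ext (S.fpf (k := (c : G)) (by rw [orderOf_coe, hc']) (M := E.map H.subtype) ?_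
      (mem_map_of_mem _ hnE) (congrArg Subtype.val hfix))
    rwa [card_map_of_injective H.subtype_injective]
  obtain ⟨i, hi'⟩ := mem_zpowers_iff.1 hba
  obtain ⟨w, hw, hbw⟩ : ∃ w ∈ E, b' = y' ^ i * a' * w := by
    refine ⟨(y' ^ i * a')⁻¹ * b', ?_, by group⟩
    rw [← QuotientGroup.eq_one_iff (N := E), ← QuotientGroup.mk'_apply, map_mul, map_inv, map_mul,
      map_zpow, ← hπ, ha', hb', hi', inv_mul_cancel_right, inv_mul_cancel]
  -- the fixed points of `y`
  set Cy := E ⊓ centralizer ({y'} : Set H) with hCy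
  have hmemC : ∀ e, e ∈ Cy ↔ e ∈ E ∧ Commute y' e := fun e => by
    rw [hCy, mem_inf, mem_centralizer_singleton_iff]
    exact ⟨fun h => ⟨h.1, h.2.symm⟩, fun h => ⟨h.1, h.2.eq.symm⟩⟩
  have hstep : ∀ e ∈ Cy, a' * e * a'⁻¹ ∈ Cy := by
    intro e he
    obtain ⟨heE, hye⟩ := (hmemC e).1 he
    set f := a'⁻¹ * e * a' with hf
    have hfE : f ∈ E := by simpa [hf] using hE.conj_mem e heE a'⁻¹
    have hb1 : ∀ x ∈ E, b' * x * b'⁻¹ = y' ^ i * (a' * x * a'⁻¹) * (y' ^ i)⁻¹ := by
      intro x hx
      rw [hbw]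
      calc y' ^ i * a' * w * x * (y' ^ i * a' * w)⁻¹
          = y' ^ i * a' * (w * x * w⁻¹) * a'⁻¹ * (y' ^ i)⁻¹ := by group
        _ = y' ^ i * (a' * x * a'⁻¹) * (y' ^ i)⁻¹ := by
            rw [(hcomm _ hw _ hx).eq, mul_inv_cancel_right]; group
    have haf : a' * f * a'⁻¹ = e := by rw [hf]; group
    have hbf : b' * f * b'⁻¹ = e := by
      rw [hb1 f hfE, haf, ((hye.zpow_left i)).eq, mul_inv_cancel_right]
    have h1 := hnorm a' hao f hfE
    have h2 := hnorm b' hbo f hfE
    rw [haf] at h1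
    rw [hbf, hb1 e heE] at h2
    have heq : y' ^ i * (a' * e * a'⁻¹) * (y' ^ i)⁻¹ = a' * e * a'⁻¹ :=
      mul_left_cancel (h2.trans h1.symm)
    refine (hmemC _).2 ⟨hE.conj_mem e heE a', ?_⟩
    have hci : Commute (y' ^ i) (a' * e * a'⁻¹) := mul_inv_eq_iff_eq_mul.1 heq
    -- `i` is prime to five, as `a` and `b` differ
    have hi5 : ¬ (5 : ℤ) ∣ i := by
      rintro ⟨j, hj⟩
      refine hab ?_
      rw [hj, zpow_mul, ← map_zpow π, ← map_zpow π, show y' ^ (5 : ℤ) = y' ^ (5 : ℕ) from zpow_natCast y' 5,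
        hy'5, one_zpow, map_one] at hi'
      exact (mul_inv_eq_one.1 hi'.symm).symm
    have hcop : IsCoprime i (5 : ℤ) := by
      rw [isCoprime_comm]
      exact (Int.prime_ofNat_iff.2 (by norm_num : Nat.Prime 5)).coprime_iff_not_dvd.2 hi5
    obtain ⟨r, s, hrs⟩ := hcop
    have hy1 : y' = (y' ^ i) ^ r := by
      conv_lhs => rw [← zpow_one y', ← hrs, zpow_add, zpow_mul', zpow_mul' y' s,
        show y' ^ (5 : ℤ) = y' ^ (5 : ℕ) from zpow_natCast y' 5, hy'5, one_zpow, mul_one]
    rw [hy1]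
    exact hci.zpow_left r
  -- everything normalises the fixed points, hence centralises them
  have hN : normalizer (Cy : Set H) = ⊤ := by
    set N := normalizer (Cy : Set H)
    have hEN : E ≤ N := fun x hx => mem_normalizer_of_conj_mem fun e he => by
      rw [(hcomm x hx e ((hmemC e).1 he).1).eq, mul_inv_cancel_right]; exact he
    have hyN : y' ∈ N := mem_normalizer_of_conj_mem fun e he => by
      rw [((hmemC e).1 he).2.eq, mul_inv_cancel_right]; exact he
    have haN : a' ∈ N := mem_normalizer_of_conj_mem hstep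
    by_contra hne
    have hNb : N.map π ≠ ⊤ := fun e => hne (by
      have := congrArg (Subgroup.comap π) e
      rwa [comap_map_eq, comap_top, hπ, QuotientGroup.ker_mk', sup_eq_left.2 hEN] at this)
    have h5 := five_le_index (simple_sixty_not_comm hc60) (by rw [hc60]; norm_num) hNb
    have hm5 : 5 ∣ Nat.card (N.map π) := by
      rw [← hyb, ← orderOf_mk (π y') (mem_map_of_mem π hyN)]
      exact orderOf_dvd_natCard _
    have hm3 : 3 ∣ Nat.card (N.map π) := by
      rw [← ha, ← ha', ← orderOf_mk (π a') (mem_map_of_mem π haN)]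
      exact orderOf_dvd_natCard _
    obtain ⟨c, hcm⟩ := Nat.Coprime.mul_dvd_of_dvd_of_dvd (by norm_num) hm3 hm5
    have := card_mul_index (N.map π)
    rw [hc60, hcm] at this
    have hc0 : c ≠ 0 := fun e => by simp [e] at this
    nlinarith [Nat.one_le_iff_ne_zero.2 hc0]
  haveI hCn : Cy.Normal := normalizer_eq_top_iff.1 hN
  set Kc := centralizer (Cy : Set H) with hKc
  have hEK : E ≤ Kc := fun x hx => mem_centralizer_iff.2 fun e he =>
    (hcomm e ((hmemC e).1 he).1 x hx).eq
  have hyK : y' ∈ Kc := mem_centralizer_iff.2 fun e he => ((hmemC e).1 he).2.eq.symm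
  haveI : Kc.Normal := by rw [hKc]; infer_instance
  have hKb : (Kc.map π).Normal := Normal.map inferInstance π (QuotientGroup.mk'_surjective E)
  rcases hsimp.eq_bot_or_eq_top_of_normal _ hKb with e | e
  · have := mem_map_of_mem π hyK
    rw [e, mem_bot] at this
    rw [this, orderOf_one] at hyb
    norm_num at hyb
  · have htop : Kc = ⊤ := by
      have := congrArg (Subgroup.comap π) e
      rwa [comap_map_eq, comap_top, hπ, QuotientGroup.ker_mk', sup_eq_left.2 hEK] at this
    have huC : (⟨u, hu⟩ : H) ∈ Cy := (hmemC _).2 ⟨huE, Subtype.ext hc.eq⟩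
    have := mem_centralizer_iff.1 (htop ▸ mem_top (⟨k, hkH⟩ : H)) _ huC
    have h1 : u = 1 := S.fpf hk (M := E.map H.subtype)
      (by rwa [card_map_of_injective H.subtype_injective]) ⟨_, huE, rfl⟩ (by
        have e' : u * k = k * u := congrArg Subtype.val this
        rw [← e', mul_inv_cancel_right])
    rw [h1, orderOf_one] at huo
    norm_num at huo

end Alt

end CfsgLib.InvChar.SecNineOpen
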