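import Cfsg.Agent.Lib.InvChar.SecNineOpen.Member
import Cfsg.Agent.Lib.StructB.TowerSolvable
import Cfsg.Agent.Lib.Transfer.MaxClassTwo
import Cfsg.Agent.Lib.Transfer.Thompson

/-!
# A maximal invariant two-subgroup of order four

A Sylow two-subgroup around it has a cyclic subgroup of index two, is a maximal subgroup of order
prime to three, and there is one class of involutions, so all centralisers of involutions are
two-groups.
-/

set_option autoImplicit false
set_option linter.unusedSectionVars false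
set_option linter.style.haveILetI false

namespace CfsgLib.InvChar.SecNineOpen

open Subgroup
open scoped Pointwise

universe u

variable {G : Type u} [Group G] [Finite G] {q : ℕ}

theorem cubic_card_four (S : Setup G q) {k : G} (hk : orderOf k = 3) {X : Subgroup G}
    (hX : IsPGroup 2 X) (hkX : k ∈ normalizer (X : Set G)) (hX1 : X ≠ ⊥) (h4 : Nat.card X ≤ 4) :
    Nat.card X = 4 := by
  haveI := Fact.mk Nat.prime_two
  have h3 := (S.cubic hk hX hkX).card_mod
  obtain ⟨n, hn⟩ := IsPGroup.iff_card.1 hX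
  have hne : Nat.card X ≠ 1 := fun e => hX1 (card_eq_one.1 e)
  rw [hn] at h3 h4 hne ⊢
  rcases n with _ | _ | _ | n
  · exact absurd (pow_zero 2) hne
  · norm_num at h3
  · norm_num
  · have := Nat.pow_le_pow_right (show 0 < 2 by norm_num) (show 3 ≤ n + 1 + 1 + 1 by omega)
    omega

/-- The Sylow subgroup around a maximal invariant four-group has a cyclic subgroup of index two. -/
theorem exists_cyclic_index_two_of_four (S : Setup G q) {k : G} (hk : orderOf k = 3)
    {P : Subgroup G} (hP : MaxTwo k P) (h4 : Nat.card P ≤ 4) :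
    ∃ T : Sylow 2 G, 4 ≤ Nat.card (T : Subgroup G) ∧
      ∃ a : (T : Subgroup G), (zpowers a).index = 2 := by
  haveI := Fact.mk Nat.prime_two
  have hP4 := cubic_card_four S hk hP.two hP.norm hP.ne h4
  obtain ⟨K, hK, hPK, hmax⟩ := hP.exists_core S hk
  obtain ⟨T, hT⟩ := hP.two.exists_le_sylow
  obtain ⟨n, hn⟩ := IsPGroup.iff_card.1 T.isPGroup'
  have hT4 : 4 ≤ Nat.card (T : Subgroup G) := hP4 ▸ card_le_of_le hT
  set A := P.subgroupOf (T : Subgroup G) with hA
  have hA4 : Nat.card A = 2 ^ 2 := by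
    rw [hA, Nat.card_congr (subgroupOfEquivOfLe hT).toEquiv, hP4]
    norm_num
  haveI hPc : IsMulCommutative P :=
    IsPGroup.isMulCommutative_of_card_eq_prime_sq (p := 2) (by rw [hP4]; norm_num)
  have hC3 : ¬ 3 ∣ Nat.card ↥(centralizer (P : Set G)) := by
    intro h
    haveI := Fact.mk Nat.prime_three
    obtain ⟨r, hr⟩ := exists_prime_orderOf_dvd_card' (G := ↥(centralizer (P : Set G))) 3 h
    refine hP.ne ((eq_bot_iff_forall _).2 fun p hp => S.fpf (k := (r : G))
      (by rw [orderOf_coe, hr]) (not_three_dvd_two hP.two) hp ?_)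
    exact mul_inv_eq_iff_eq_mul.2 (mem_centralizer_iff.1 r.2 p hp).symm
  have hkC : k ∈ normalizer ((centralizer (P : Set G) : Subgroup G) : Set G) := by
    refine mem_normalizer_of_conj_mem fun c hc => mem_centralizer_iff.2 fun p hp => ?_
    have := mem_centralizer_iff.1 hc (k⁻¹ * p * k) (by simpa using conj_mem (inv_mem hP.norm) hp)
    calc p * (k * c * k⁻¹) = k * (k⁻¹ * p * k * c) * k⁻¹ := by group
      _ = k * (c * (k⁻¹ * p * k)) * k⁻¹ := by rw [this]
      _ = k * c * k⁻¹ * p := by group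
  have hCK : centralizer (P : Set G) ≤ K :=
    hK.inv_le S hk hP.norm (centralizer_le_normalizer _) hC3 hkC
  have hAC : centralizer (A : Set (T : Subgroup G)) = A := by
    apply le_antisymm
    swap
    · intro x hx
      refine mem_centralizer_iff.2 fun y hy => ?_
      have h := congrArg Subtype.val (mul_comm' (⟨(y : G), mem_subgroupOf.1 hy⟩ : P)
          ⟨(x : G), mem_subgroupOf.1 hx⟩)
      exact Subtype.ext h
    intro x hx
    have hxC : (x : G) ∈ centralizer (P : Set G) := mem_centralizer_iff.2 fun p hp =>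
      congrArg Subtype.val (mem_centralizer_iff.1 hx ⟨p, hT hp⟩ (mem_subgroupOf.2 hp))
    exact mem_subgroupOf.2 (hmax _ (zpowers_le.2 (hCK hxC))
      (T.isPGroup'.to_le (zpowers_le.2 x.2)) (mem_zpowers _))
  refine ⟨T, hT4, ?_⟩
  by_cases h3 : 3 ≤ n
  · obtain ⟨C, hC, hi⟩ := CfsgLib.Transfer.exists_cyclic_index_two h3 hn
      (CfsgLib.Transfer.maxClass_of_self_centralizing hn A hA4 hAC)
    obtain ⟨a, rfl⟩ := (Subgroup.isCyclic_iff_exists_zpowers_eq_top _).1 hC
    exact ⟨a, hi⟩
  · have hn2 : n = 2 := by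
      rw [hn] at hT4
      by_contra hne
      have := Nat.pow_le_pow_right (show 0 < 2 by norm_num) (show n ≤ 1 by omega)
      omega
    subst hn2
    obtain ⟨x, hx⟩ := exists_prime_orderOf_dvd_card' (G := (T : Subgroup G)) 2
      (hn ▸ dvd_pow_self 2 two_ne_zero)
    refine ⟨x, ?_⟩
    have := card_mul_index (zpowers x)
    rw [Nat.card_zpowers, hx, hn] at this
    omega

/-- A subgroup of a group with a cyclic subgroup of index two has one of index at most two. -/
theorem exists_zpowers_index_le {X : Type*} [Group X] [Finite X] {A U : Subgroup X} (hA : IsCyclic A)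
    {V : Subgroup X} (hUV : U ≤ V) (hi : A.relIndex V ≤ 2) : ∃ a : U, (zpowers a).index ≤ 2 := by
  haveI : IsCyclic ↥(A.subgroupOf U) := isCyclic_of_injective
    (({ toFun := fun x => ⟨((x : U) : X), x.2⟩, map_one' := rfl, map_mul' := fun _ _ => rfl } :
      ↥(A.subgroupOf U) →* A))
    fun x y e => Subtype.ext (Subtype.ext (congrArg (fun z : A => (z : X)) e))
  obtain ⟨a, ha⟩ := (Subgroup.isCyclic_iff_exists_zpowers_eq_top _).1 ‹IsCyclic ↥(A.subgroupOf U)›
  refine ⟨a, ?_⟩
  rw [ha]
  exact le_trans (relIndex_le_of_le_right hUV index_ne_zero_of_finite) hi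

section Sylow

variable {T : Sylow 2 G} (hT : 4 ≤ Nat.card (T : Subgroup G)) {a : (T : Subgroup G)}
  (ha : (zpowers a).index = 2)
include hT ha

/-- Modulo a normal `q`-subgroup only `T` remains. -/
theorem quotient_two_of_cyclic (S : Setup G q) {M : Subgroup G} (hTM : (T : Subgroup G) ≤ M)
    (hM3 : ¬ 3 ∣ Nat.card M) :
    ∃ W, W ≤ M ∧ IsPGroup q W ∧ M ≤ normalizer (W : Set G) ∧ M ≤ W ⊔ (T : Subgroup G) := by
  haveI := Fact.mk Nat.prime_two
  haveI := Fact.mk S.prime
  haveI : Group.IsSolvable M := S.solvable hM3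
  set O := Cfsg.pPrimeCore 2 M with hOdef
  haveI hOn : O.Normal := CfsgLib.Solvable.pPrimeCore_normal 2 M
  have hOc : (Nat.card O).Coprime 2 := CfsgLib.Comp.coprime_card_pPrimeCore 2 M
  have hOq : IsPGroup q O := by
    obtain ⟨i, j, hij⟩ := S.card_two_q hM3
    have hd := card_subgroup_dvd_card O
    rw [hij] at hd
    obtain ⟨m, -, hm⟩ := (Nat.dvd_prime_pow S.prime).1
      ((Nat.Coprime.pow_right i hOc).dvd_of_dvd_mul_left hd)
    exact IsPGroup.of_card hm
  refine ⟨O.map M.subtype, map_subtype_le O, hOq.map _, ?_, ?_⟩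
  · intro m hm
    refine mem_normalizer_of_conj_mem ?_
    rintro _ ⟨x, hx, rfl⟩
    exact ⟨⟨m, hm⟩ * x * (⟨m, hm⟩ : M)⁻¹, hOn.conj_mem x hx _, rfl⟩
  set π := QuotientGroup.mk' O with hπ
  set T₀ := (T : Subgroup G).subgroupOf M with hT₀
  suffices htop : (⊤ : Subgroup (M ⧸ O)) ≤ T₀.map π by
    intro m hm
    obtain ⟨t, ht, hte⟩ := htop (mem_top (π ⟨m, hm⟩))
    have h1 : (⟨m, hm⟩ : M) * t⁻¹ ∈ O := by
      rw [← QuotientGroup.eq_one_iff (N := O), ← QuotientGroup.mk'_apply, map_mul, map_inv, ← hπ,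
        hte, mul_inv_cancel]
    have := mul_mem (mem_sup_left (T := (T : Subgroup G)) (mem_map_of_mem M.subtype h1))
      (mem_sup_right (S := O.map M.subtype) (show (t : G) ∈ (T : Subgroup G) from ht))
    simpa using this
  haveI : Group.IsSolvable (M ⧸ O) :=
    Group.isSolvable_of_surjective (QuotientGroup.mk'_surjective O)
  have hchar : centralizer (Cfsg.pCore 2 (M ⧸ O) : Set (M ⧸ O)) ≤ Cfsg.pCore 2 (M ⧸ O) :=
    CfsgLib.Solvable.centralizer_pCore_le 2 (CfsgLib.Comp.pPrimeCore_quotient_eq_bot 2 M)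
  set S₁ : Sylow 2 M := T.subtype hTM
  set S₂ : Sylow 2 (M ⧸ O) := S₁.mapSurjective (f := π) (QuotientGroup.mk'_surjective O)
  have hS₂ : (S₂ : Subgroup (M ⧸ O)) = T₀.map π := rfl
  -- the two-core has a cyclic subgroup of index at most two
  set U := Cfsg.pCore 2 (M ⧸ O) with hU
  have hU2 : IsPGroup 2 U := CfsgLib.Comp.isPGroup_pCore 2 (M ⧸ O)
  have hUle : U ≤ T₀.map π := by
    rw [← hS₂]
    exact CfsgLib.Solvable.pCore_le_sylow S₂
  obtain ⟨u, hu⟩ : ∃ u : U, (zpowers u).index ≤ 2 := by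
    refine exists_zpowers_index_le (A := zpowers (π ⟨(a : G), hTM a.2⟩)) inferInstance hUle ?_
    have e : zpowers (π ⟨(a : G), hTM a.2⟩) = (zpowers (⟨(a : G), hTM a.2⟩ : M)).map π :=
      (π.map_zpowers _).symm
    rw [e]
    have hle : zpowers (⟨(a : G), hTM a.2⟩ : M) ≤ T₀ := zpowers_le.2 (mem_subgroupOf.2 a.2)
    refine le_trans (Nat.le_of_dvd ?_ (?_ : _ ∣ (zpowers (⟨(a : G), hTM a.2⟩ : M)).relIndex T₀)) ?_
    · exact Nat.pos_of_ne_zero index_ne_zero_of_finite
    · rw [← relIndex_comap]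
      exact relIndex_dvd_of_le_left T₀ (le_comap_map π _)
    · have e1 : (zpowers (⟨(a : G), hTM a.2⟩ : M)).relIndex T₀ = (zpowers a).index := by
        rw [← relIndex_map_map_of_injective _ _ M.subtype_injective, MonoidHom.map_zpowers,
          hT₀, map_subgroupOf_eq_of_le hTM, relIndex, subgroupOf]
        congr 1
        refine le_antisymm ?_ (zpowers_le.2 (mem_zpowers _))
        rintro x hx
        obtain ⟨i, hi⟩ := mem_zpowers_iff.1 (mem_comap.1 hx)
        exact mem_zpowers_iff.2 ⟨i, Subtype.ext hi⟩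
      rw [e1, ha]
  -- so no element of order `q`
  have hq : ¬ q ∣ Nat.card (M ⧸ O) := by
    intro h
    obtain ⟨y, hy⟩ := exists_prime_orderOf_dvd_card' q h
    have hn : y ∈ normalizer (U : Set (M ⧸ O)) := by
      haveI : U.Normal := CfsgLib.Solvable.pCore_normal 2 (M ⧸ O)
      rw [normalizer_eq_top]
      exact mem_top y
    have hφ : cjAut hn ^ q ^ 1 = 1 := by
      have hp : ∀ (n : ℕ) (p : U), (((cjAut hn) ^ n) p : M ⧸ O) = y ^ n * p * (y ^ n)⁻¹ := by
        intro n
        induction n with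
        | zero => intro p; simp
        | succ n ih =>
          intro p
          rw [pow_succ', MulAut.mul_apply, cjAut_apply, ih, pow_succ']
          group
      refine MulEquiv.ext fun p => Subtype.ext ?_
      rw [hp, pow_one, ← hy, pow_orderOf_eq_one]
      simp
    have h1 := CfsgLib.StructB.mulAut_eq_one_of_cyclic_index_two hU2 u hu S.five (cjAut hn) hφ
    have hyU : y ∈ U := hchar (mem_centralizer_iff.2 fun p hp => by
      have := congrArg (fun f : MulAut U => ((f ⟨p, hp⟩ : U) : M ⧸ O)) h1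
      simp only [MulAut.one_apply, cjAut_apply] at this
      exact (mul_inv_eq_iff_eq_mul.1 this).symm)
    obtain ⟨m, hm⟩ := IsPGroup.iff_orderOf.1 hU2 ⟨y, hyU⟩
    rw [orderOf_mk, hy] at hm
    exact S.q_ne_two ((Nat.prime_dvd_prime_iff_eq S.prime Nat.prime_two).1
      (S.prime.dvd_of_dvd_pow hm.dvd))
  have h2 : IsPGroup 2 (⊤ : Subgroup (M ⧸ O)) := by
    obtain ⟨i, j, hij⟩ := S.card_two_q hM3
    have hd : Nat.card (M ⧸ O) ∣ 2 ^ i * q ^ j := hij ▸ card_quotient_dvd_card O
    have hc : (Nat.card (M ⧸ O)).Coprime (q ^ j) :=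
      Nat.Coprime.pow_right j ((S.prime.coprime_iff_not_dvd.2 hq).symm)
    obtain ⟨i', -, hi'⟩ := (Nat.dvd_prime_pow Nat.prime_two).1 (hc.dvd_of_dvd_mul_right hd)
    exact IsPGroup.of_card (n := i') (by rw [card_top, hi'])
  rw [← hS₂]
  exact (S₂.is_maximal' h2 le_top).le

/-- **A subgroup of order prime to three containing `T` is `T`.** -/
theorem eq_sylow_of_cyclic (S : Setup G q) {M : Subgroup G} (hTM : (T : Subgroup G) ≤ M)
    (hM3 : ¬ 3 ∣ Nat.card M) : M = T := by
  haveI := Fact.mk Nat.prime_two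
  haveI := Fact.mk S.prime
  obtain ⟨L, hML, hL, hmax⟩ := Set.Finite.exists_le_maximal
    (Set.toFinite {L : Subgroup G | (T : Subgroup G) ≤ L ∧ ¬ 3 ∣ Nat.card L}) ⟨hTM, hM3⟩
  obtain ⟨hTL, hL3⟩ := hL
  suffices hLT : L = (T : Subgroup G) from le_antisymm (hML.trans hLT.le) hTM
  obtain ⟨W, hWL, hW, hLW, hLsup⟩ := quotient_two_of_cyclic hT ha S hTL hL3
  by_cases hW1 : W = ⊥
  · exact le_antisymm (by simpa [hW1] using hLsup) hTL
  exfalso
  have hW3 : ¬ 3 ∣ Nat.card W := Setup.not_three_dvd_pgroup S.q_ne_three hW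
  have hTN : (T : Subgroup G) ≤ normalizer (W : Set G) := hTL.trans hLW
  set H := normalizer (W : Set G) with hH
  by_cases h3 : 3 ∣ Nat.card H
  · haveI := Fact.mk Nat.prime_three
    obtain ⟨⟨k', hk'H⟩, hk'⟩ := exists_prime_orderOf_dvd_card' (G := H) 3 h3
    rw [orderOf_mk] at hk'
    obtain ⟨⟨y, hyW⟩, hy⟩ := exists_prime_orderOf_dvd_card' (G := W) q (by
      haveI := (nontrivial_iff_ne_bot W).2 hW1
      obtain ⟨m, hm, hc⟩ := hW.nontrivial_iff_card.1 inferInstance
      exact hc ▸ dvd_pow_self q hm.ne')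
    rw [orderOf_mk] at hy
    rcases local_cases S hW1 hW3 Subgroup.le_normalizer le_rfl hk' hk'H with ⟨K, hK⟩ | hA
    · obtain ⟨P₂, hP₂K, hP₂, hP₂n, hP₂max, -⟩ := hK.exists_part 2
      have hWK : W ≤ K := hK.inv_le S hk' hk'H Subgroup.le_normalizer hW3 hk'H
      have hTK : (T : Subgroup G) ⊓ K ≠ ⊥ := by
        intro e
        have h1 : K.relIndex (T : Subgroup G) ∣ 6 := by
          haveI : (K.subgroupOf H).Normal := normal_subgroupOf_of_le_normalizer hK.norm
          refine Dvd.dvd.trans ?_ (show K.relIndex H ∣ 6 from ?_)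
          · rw [← (Subgroup.relIndex_subgroupOf hTN :
              (K.subgroupOf H).relIndex ((T : Subgroup G).subgroupOf H) =
                K.relIndex (T : Subgroup G))]
            exact relIndex_dvd_index_of_normal (H := K.subgroupOf H)
              (K := (T : Subgroup G).subgroupOf H)
          · have := relIndex_mul_relIndex ⊥ K H bot_le hK.le
            simp only [relIndex_bot_left] at this
            have hp := Nat.card_pos (α := K)
            rcases hK.card with e | e <;> rw [e] at this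
            · rw [mul_comm 3 (Nat.card K)] at this
              rw [Nat.eq_of_mul_eq_mul_left hp this]; norm_num
            · rw [mul_comm 6 (Nat.card K)] at this
              rw [Nat.eq_of_mul_eq_mul_left hp this]
        have h2 := relIndex_mul_relIndex ⊥ ((T : Subgroup G) ⊓ K) (T : Subgroup G) bot_le inf_le_left
        rw [relIndex_bot_left, relIndex_bot_left, inf_relIndex_left, e, card_bot, one_mul] at h2
        obtain ⟨i, hi⟩ := IsPGroup.iff_card.1 T.isPGroup'
        rw [h2, hi] at h1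
        have h4' : 2 ^ 2 ∣ 2 ^ i := pow_dvd_pow 2 (by
          by_contra hlt
          rw [hi] at hT
          interval_cases i <;> norm_num at hT)
        exact absurd (h4'.trans h1) (by norm_num)
      obtain ⟨x, ⟨hxT, hxK⟩, hx1⟩ := ((T : Subgroup G) ⊓ K).bot_or_exists_ne_one.resolve_left hTK
      have hxP₂ : x ∈ P₂ :=
        hP₂max _ (zpowers_le.2 hxK) (T.isPGroup'.to_le (zpowers_le.2 hxT)) (mem_zpowers x)
      have hne : P₂ ≠ ⊥ := fun e => hx1 (mem_bot.1 (e ▸ hxP₂))
      obtain ⟨Q, hQ, hP₂Q, hno⟩ := exists_maxTwo_of_centralized S hk' hP₂ (hP₂n hk'H) hne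
        (y := y) (mem_centralizer_iff.2 fun z hz => by
          refine (hK.commute_of_coprime (hP₂K hz) (hWK hyW) ?_).eq
          obtain ⟨n, hn⟩ := IsPGroup.iff_orderOf.1 hP₂ ⟨z, hz⟩
          rw [orderOf_mk] at hn
          rw [hn, hy]
          exact Nat.Coprime.pow_left n
            ((Nat.coprime_primes Nat.prime_two S.prime).2 (Ne.symm S.q_ne_two))) hy
      rcases hQ.shape S hk' with ⟨T', hT'⟩ | ⟨T', τ, hQT', hi, -⟩ | h4
      · exact hno T' (hT'.le.trans Subgroup.le_normalizer)
      · haveI : (Q.subgroupOf (T' : Subgroup G)).Normal := normal_of_index_eq_two hi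
        exact hno T' (normal_subgroupOf_iff_le_normalizer hQT' |>.1 inferInstance)
      · have e : P₂ = Q := eq_of_le_of_card_ge hP₂Q (by
          rw [cubic_card_four S hk' hQ.two hQ.norm hQ.ne h4, cubic_card_four S hk' hP₂
            (hP₂n hk'H) hne ((card_le_of_le hP₂Q).trans h4)])
        exact hno T (e ▸ hTN.trans hP₂n)
    · refine Alt.not_five_dvd hA hLW hL3 ?_ ?_
      · intro h
        refine T.not_dvd_index (h.trans ⟨(T : Subgroup G).relIndex L * H.index, ?_⟩)
        rw [← relIndex_mul_index (hTL.trans hLW), ← relIndex_mul_relIndex _ _ _ hTL hLW]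
        ring
      · rw [← hy, ← orderOf_mk y (hWL hyW)]
        exact orderOf_dvd_natCard _
  · -- `W` is a Sylow subgroup
    have hHL : H = L := le_antisymm (hmax ⟨hTN, h3⟩ hLW) hLW
    obtain ⟨Q, hQ⟩ := hW.exists_le_sylow
    have hWQ : W = (Q : Subgroup G) := by
      by_contra hne
      have hlt : W < (Q : Subgroup G) := lt_of_le_of_ne hQ hne
      have hnc : NormalizerCondition ↥(Q : Subgroup G) :=
        @Group.normalizerCondition_of_isNilpotent _ _ Q.isPGroup'.isNilpotent
      obtain ⟨y, hy, hyW⟩ := SetLike.exists_of_lt (hnc _ (lt_top_iff_ne_top.2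
        fun h => hlt.not_ge (subgroupOf_eq_top.1 h) : W.subgroupOf (Q : Subgroup G) < ⊤))
      refine hyW (mem_subgroupOf.2 ?_)
      have hyH : (y : G) ∈ H := mem_normalizer_of_conj_mem fun x hx =>
        (mem_normalizer_iff.1 hy ⟨x, hQ hx⟩).1 (mem_subgroupOf.2 hx)
      have hyL : (y : G) ∈ L := hHL ▸ hyH
      haveI : (W.subgroupOf L).Normal := normal_subgroupOf_of_le_normalizer hLW
      have hidx : W.relIndex L ∣ Nat.card (T : Subgroup G) := by
        have h1 := CfsgLib.Comp.card_sup_dvd_mul (H := W) (K := (T : Subgroup G)) hTN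
        have h2 := relIndex_mul_relIndex ⊥ W L bot_le hWL
        rw [relIndex_bot_left, relIndex_bot_left] at h2
        refine Nat.dvd_of_mul_dvd_mul_left Nat.card_pos (k := Nat.card W) ?_
        rw [h2]
        exact (card_dvd_of_le hLsup).trans h1
      obtain ⟨n, hn⟩ := IsPGroup.iff_card.1 T.isPGroup'
      obtain ⟨m, hm⟩ := IsPGroup.iff_orderOf.1 Q.isPGroup' y
      rw [hn] at hidx
      have hpow : (y : G) ^ W.relIndex L ∈ W := pow_index_mem (W.subgroupOf L) (⟨y, hyL⟩ : L)
      have hcop : (orderOf (y : G)).Coprime (W.relIndex L) := by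
        rw [orderOf_coe, hm]
        refine Nat.Coprime.coprime_dvd_right hidx (Nat.Coprime.pow _ _ ?_)
        exact (Nat.coprime_primes S.prime Nat.prime_two).2 S.q_ne_two
      obtain ⟨r, hr⟩ := exists_pow_eq_self_of_coprime hcop.symm
      rw [← hr]
      exact pow_mem hpow r
    refine S.index_nine (S.ne_top_of_not_three hL3) ?_ ?_
    · exact fun h => T.not_dvd_index (h.trans (index_dvd_of_le hTL))
    · exact fun h => Q.not_dvd_index (h.trans (index_dvd_of_le (hWQ ▸ hWL)))

/-- All centralisers of involutions are two-groups. -/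
theorem isPGroup_centralizer_of_cyclic (S : Setup G q) (t : G) (ht : orderOf t = 2) :
    IsPGroup 2 (centralizer ({t} : Set G)) := by
  haveI := Fact.mk Nat.prime_two
  set C := zpowers (a : G) with hC
  have hCT : C ≤ (T : Subgroup G) := zpowers_le.2 a.2
  have hCi : C.relIndex (T : Subgroup G) = 2 := by
    refine Eq.trans ?_ ha
    rw [relIndex, subgroupOf]
    congr 1
    refine le_antisymm ?_ (zpowers_le.2 (mem_zpowers _))
    intro x hx
    obtain ⟨i, hi⟩ := mem_zpowers_iff.1 (mem_comap.1 hx)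
    exact mem_zpowers_iff.2 ⟨i, Subtype.ext hi⟩
  haveI hCn : (C.subgroupOf (T : Subgroup G)).Normal := normal_of_index_eq_two hCi
  -- the only involution of `C`
  have huniq : ∀ x ∈ C, ∀ y ∈ C, orderOf x = 2 → orderOf y = 2 → x = y := by
    classical
    intro x hx y hy hx2 hy2
    haveI : Fintype C := Fintype.ofFinite C
    by_contra hne
    have hsub : ({1, ⟨x, hx⟩, ⟨y, hy⟩} : Finset C) ⊆ Finset.univ.filter fun z : C => z ^ 2 = 1 := by
      intro z hz
      simp only [Finset.mem_insert, Finset.mem_singleton] at hz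
      refine Finset.mem_filter.2 ⟨Finset.mem_univ _, ?_⟩
      rcases hz with rfl | rfl | rfl
      · exact one_pow 2
      · exact Subtype.ext (show x ^ 2 = 1 by rw [← hx2, pow_orderOf_eq_one])
      · exact Subtype.ext (show y ^ 2 = 1 by rw [← hy2, pow_orderOf_eq_one])
    have := (Finset.card_le_card hsub).trans (IsCyclic.card_pow_eq_one_le (by norm_num))
    rw [Finset.card_insert_of_notMem, Finset.card_pair] at this
    · omega
    · exact fun e => hne (congrArg Subtype.val e)
    · simp only [Finset.mem_insert, Finset.mem_singleton, not_or]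
      exact ⟨fun e => by
          rw [show x = 1 from (congrArg Subtype.val e).symm, orderOf_one] at hx2
          norm_num at hx2,
        fun e => by
          rw [show y = 1 from (congrArg Subtype.val e).symm, orderOf_one] at hy2
          norm_num at hy2⟩
  -- conjugate into `T`, then into `C`
  have hclass : ∀ x : G, orderOf x = 2 → ∃ g : G, g * x * g⁻¹ ∈ C := by
    intro x hx
    obtain ⟨T', hT'⟩ := (IsPGroup.of_card (n := 1) (by rw [Nat.card_zpowers, hx, pow_one]) :
      IsPGroup 2 (zpowers x)).exists_le_sylow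
    obtain ⟨g, rfl⟩ := MulAction.exists_smul_eq G T T'
    have hxT : g⁻¹ * x * g ∈ (T : Subgroup G) := by
      have h1 : x ∈ MulAut.conj g • (T : Subgroup G) := hT' (mem_zpowers x)
      rw [Subgroup.mem_pointwise_smul_iff_inv_smul_mem] at h1
      simpa [MulAut.smul_def] using h1
    have hx2 : (g⁻¹ * x * g) ^ 2 = 1 := by
      rw [sq, show g⁻¹ * x * g * (g⁻¹ * x * g) = g⁻¹ * (x * x) * g by group, ← sq,
        ← hx, pow_orderOf_eq_one]
      group
    rcases CfsgLib.Transfer.thompson_transfer_involution T hCT hCi hx2 hxT with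
      ⟨M, hM, hMi, -⟩ | ⟨h, hh⟩
    · exfalso
      haveI := S.simple
      rcases IsSimpleGroup.eq_bot_or_eq_top_of_normal M hM with rfl | rfl
      · obtain ⟨i, j, -, hG⟩ := S.ord
        rw [index_bot] at hMi
        have := S.three_dvd
        rw [hMi] at this
        norm_num at this
      · rw [index_top] at hMi
        norm_num at hMi
    · exact ⟨h * g⁻¹, by rw [show h * g⁻¹ * x * (h * g⁻¹)⁻¹ = h * (g⁻¹ * x * g) * h⁻¹ by group]; exact hh⟩
  obtain ⟨g, hg⟩ := hclass t ht
  set z := g * t * g⁻¹ with hz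
  have hzo : orderOf z = 2 := by
    rw [hz, ← MulAut.conj_apply, MulEquiv.orderOf_eq, ht]
  -- it is central in `T`
  have hzT : (T : Subgroup G) ≤ centralizer ({z} : Set G) := by
    intro s hs
    refine mem_centralizer_singleton_iff.2 ?_
    have h1 : s * z * s⁻¹ ∈ C :=
      mem_subgroupOf.1 (hCn.conj_mem ⟨z, hCT hg⟩ (mem_subgroupOf.2 hg) ⟨s, hs⟩)
    have h2 : orderOf (s * z * s⁻¹) = 2 := by
      rw [← MulAut.conj_apply, MulEquiv.orderOf_eq, hzo]
    exact mul_inv_eq_iff_eq_mul.1 (huniq _ h1 z hg h2 hzo)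
  have hzC := eq_sylow_of_cyclic hT ha S hzT (S.not_three_dvd_centralizer hzo)
  have hle : (centralizer ({t} : Set G)).map (MulAut.conj g).toMonoidHom ≤ (T : Subgroup G) := by
    rw [← hzC]
    rintro _ ⟨c, hc, rfl⟩
    refine mem_centralizer_singleton_iff.2 ?_
    simp only [MulEquiv.coe_toMonoidHom, MulAut.conj_apply, hz]
    have := mem_centralizer_singleton_iff.1 hc
    calc g * c * g⁻¹ * (g * t * g⁻¹) = g * (c * t) * g⁻¹ := by group
      _ = g * (t * c) * g⁻¹ := by rw [this]
      _ = g * t * g⁻¹ * (g * c * g⁻¹) := by group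
  exact (T.isPGroup'.to_le hle).of_equiv
    ((centralizer ({t} : Set G)).equivMapOfInjective _ (MulAut.conj g).injective).symm

end Sylow

/-- **Case four.** -/
theorem case_four (S : Setup G q) {k : G} (hk : orderOf k = 3) {P : Subgroup G} (hP : MaxTwo k P)
    (h4 : Nat.card P ≤ 4) :
    ∀ t : G, orderOf t = 2 → IsPGroup 2 (centralizer ({t} : Set G)) := by
  obtain ⟨T, hT, a, ha⟩ := exists_cyclic_index_two_of_four S hk hP h4
  exact fun t ht => isPGroup_centralizer_of_cyclic hT ha S t ht

end CfsgLib.InvChar.SecNineOpen
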