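import Mathlib

/-!
# The elements of square one in the centre of a subgroup
-/

set_option autoImplicit false

namespace CfsgLib.InvChar.SecNineOpen

open Subgroup

universe u

variable {G : Type u} [Group G]

/-- The elements of square one in the centre of `P`. -/
def omegaCentre (P : Subgroup G) : Subgroup G where
  carrier := {z | z ∈ P ⊓ centralizer (P : Set G) ∧ z * z = 1}
  one_mem' := ⟨one_mem _, one_mul 1⟩
  mul_mem' := fun {a b} ha hb => by
    have hc : Commute b a := (mem_centralizer_iff.1 ha.1.2 b hb.1.1)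
    exact ⟨mul_mem ha.1 hb.1, by rw [hc.mul_mul_mul_comm, ha.2, hb.2, one_mul]⟩
  inv_mem' := fun {a} ha => by
    show a⁻¹ ∈ {z | z ∈ P ⊓ centralizer (P : Set G) ∧ z * z = 1}
    rw [inv_eq_of_mul_eq_one_right ha.2]; exact ha

theorem omegaCentre_le (P : Subgroup G) : omegaCentre P ≤ P ⊓ centralizer (P : Set G) := fun _ h => h.1

theorem commute_omegaCentre {P : Subgroup G} {z p : G} (hz : z ∈ omegaCentre P) (hp : p ∈ P) :
    Commute z p :=
  (mem_centralizer_iff.1 hz.1.2 p hp).symm

end CfsgLib.InvChar.SecNineOpen
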