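import Cfsg.Agent.Lib.InvChar.SecNineOpen.Big
import Cfsg.Agent.Lib.InvChar.SecNineOpen.Omega
import Cfsg.Agent.Lib.PLocal.SFourJHat

/-!
# Outer elements, and the two Thompson subgroups lying in `P`

With `Ω₁(Z(P))` of order at least sixteen both `J(T)` and `Ĵ(T)` lie in `P` and so are stable
under the element of order three.
-/

set_option autoImplicit false
set_option linter.unusedSectionVars false
set_option linter.style.haveILetI false

namespace CfsgLib.InvChar.SecNineOpen

open Subgroup CfsgLib.PLocal CfsgLib.PLocal.SFourW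
open scoped commutatorElement

universe u

variable {G : Type u} [Group G] [Finite G] {q : ℕ}

theorem omegaCentre_elemAb (P : Subgroup G) : Cfsg.IsElementaryAbelian 2 (omegaCentre P) :=
  ⟨⟨⟨fun a b => Subtype.ext (commute_omegaCentre a.2 b.2.1.1).eq⟩⟩, fun a ha => by
    rw [pow_two]; exact ha.2⟩

theorem normalizer_le_omegaCentre (P : Subgroup G) :
    normalizer (P : Set G) ≤ normalizer (omegaCentre P : Set G) := by
  intro g hg
  refine mem_normalizer_of_conj_mem fun z hz => ⟨⟨conj_mem hg hz.1.1, ?_⟩, ?_⟩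
  · refine mem_centralizer_iff.2 fun p hp => ?_
    have hp' : g⁻¹ * p * g ∈ P := by simpa using conj_mem (inv_mem hg) hp
    calc p * (g * z * g⁻¹) = g * (g⁻¹ * p * g * z) * g⁻¹ := by group
      _ = g * (z * (g⁻¹ * p * g)) * g⁻¹ := by rw [(commute_omegaCentre hz hp').eq]
      _ = g * z * g⁻¹ * p := by group
  · rw [show g * z * g⁻¹ * (g * z * g⁻¹) = g * (z * z) * g⁻¹ by group, hz.2]; group

theorem omegaCentre_ne_bot {P : Subgroup G} (hP : IsPGroup 2 P) (hne : P ≠ ⊥) :
    omegaCentre P ≠ ⊥ := by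
  haveI := Fact.mk Nat.prime_two
  haveI : Nontrivial P := (nontrivial_iff_ne_bot P).2 hne
  haveI := hP.center_nontrivial
  obtain ⟨n, hn, hc⟩ := (hP.to_subgroup (center P)).nontrivial_iff_card.1 inferInstance
  obtain ⟨z, hz⟩ := exists_prime_orderOf_dvd_card' (G := center P) 2 (hc ▸ dvd_pow_self 2 hn.ne')
  intro e
  have hmem : ((z : P) : G) ∈ omegaCentre P := ⟨⟨(z : P).2, mem_centralizer_iff.2 fun p hp =>
    congrArg Subtype.val (mem_center_iff.1 z.2 ⟨p, hp⟩)⟩, by
    have := pow_orderOf_eq_one z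
    rw [hz, pow_two] at this
    exact congrArg (fun w : center P => ((w : P) : G)) this⟩
  rw [e, mem_bot] at hmem
  have : z = 1 := Subtype.ext (Subtype.ext hmem)
  rw [this, orderOf_one] at hz
  norm_num at hz

namespace Big

variable {k : G} {T : Sylow 2 G} {P : Subgroup G}

theorem k_norm_omegaCentre (B : Big q k T P) : k ∈ normalizer (omegaCentre P : Set G) :=
  normalizer_le_omegaCentre P B.max.norm

theorem T_norm_omegaCentre (B : Big q k T P) :
    (T : Subgroup G) ≤ normalizer (omegaCentre P : Set G) :=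
  B.le_normalizer.trans (normalizer_le_omegaCentre P)

/-- An outer element is a product of the inverting involution and an element of `P`. -/
theorem exists_tau (B : Big q k T P) {t : G} (ht : t ∈ (T : Subgroup G)) (htP : t ∉ P) :
    ∃ τ p, p ∈ P ∧ t = τ * p ∧ τ * k * τ⁻¹ = k⁻¹ ∧ P.relIndex (T : Subgroup G) = 2 := by
  rcases B.shape with e | ⟨hi, τ, hτ, hτP, -, hτk⟩
  · exact absurd (e ▸ ht) htP
  refine ⟨τ, τ⁻¹ * t, ?_, by group, hτk, hi⟩
  rw [mem_iff_of_relIndex_two hi (inv_mem hτ) ht, inv_mem_iff]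
  tauto

/-- An outer element fixes at most a square root of any invariant part of the centre. -/
theorem card_fixed_sq (B : Big q k T P) {t : G} (ht : t ∈ (T : Subgroup G)) (htP : t ∉ P)
    {V D : Subgroup G} (hV : V ≤ P ⊓ centralizer (P : Set G)) (hkV : k ∈ normalizer (V : Set G))
    (hD : D ≤ V) (hc : ∀ d ∈ D, Commute t d) : Nat.card D * Nat.card D ≤ Nat.card V := by
  obtain ⟨τ, p, hp, rfl, hτk, -⟩ := B.exists_tau ht htP
  have hτ : ∀ d ∈ D, d⁻¹ * (τ * d * τ⁻¹) ∈ (⊥ : Subgroup G) := by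
    intro d hd
    have h1 : Commute p d := (mem_centralizer_iff.1 (hV (hD hd)).2 p hp : p * d = d * p)
    have h2 : Commute τ d := by
      have := (hc d hd).mul_left h1.inv_left
      rwa [mul_inv_cancel_right] at this
    rw [mem_bot, h2.eq, mul_inv_cancel_right, inv_mul_cancel]
  have hd := B.cubic.inf_conj_le hτk (Z := ⊥)
    (mem_normalizer_of_conj_mem fun x hx => by simp [mem_bot.1 hx]) hτ
    (fun d hd => (hV (hD hd)).1)
  let φ : D.map (MulAut.conj k).toMonoidHom × D → V := fun x =>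
    ⟨(x.1 : G) * x.2, mul_mem (by
      obtain ⟨w, hw, e⟩ := x.1.2
      rw [← e]
      exact conj_mem hkV (hD hw)) (hD x.2.2)⟩
  have hinj : Function.Injective φ := by
    rintro ⟨a, b⟩ ⟨a', b'⟩ e
    have e' : (a : G) * b = a' * b' := congrArg Subtype.val e
    have h6 : (a' : G)⁻¹ * a = b' * (b : G)⁻¹ := by
      rw [eq_mul_inv_iff_mul_eq, mul_assoc, e', inv_mul_cancel_left]
    have h7 : (a' : G)⁻¹ * a ∈ D ⊓ D.map (MulAut.conj k).toMonoidHom :=
      mem_inf.2 ⟨h6 ▸ mul_mem b'.2 (inv_mem b.2), mul_mem (inv_mem a'.2) a.2⟩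
    have h8 : a = a' := Subtype.ext (inv_mul_eq_one.1 (mem_bot.1 (hd h7))).symm
    subst h8
    exact Prod.ext rfl (Subtype.ext (mul_left_cancel e'))
  have := Nat.card_le_card_of_injective φ hinj
  rwa [Nat.card_prod, card_map_of_injective (MulAut.conj k).injective] at this

/-- An outer element moves the centre of `P` much. -/
theorem spread (B : Big q k T P) {t : G} (ht : t ∈ (T : Subgroup G)) (htP : t ∉ P)
    {D : Subgroup G} (hD : D ≤ P) (hi : D.relIndex P ≤ 2)
    (hm : ∀ d ∈ D, d⁻¹ * (t * d * t⁻¹) ∈ P ⊓ centralizer (P : Set G)) :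
    (D = P → Nat.card P ≤ Nat.card ↥(P ⊓ centralizer (P : Set G))) ∧
      Nat.card P ≤ 4 * Nat.card ↥(P ⊓ centralizer (P : Set G)) := by
  obtain ⟨τ, p, hp, rfl, hτk, hi2⟩ := B.exists_tau ht htP
  set Z := P ⊓ centralizer (P : Set G) with hZ
  have hcent : ∀ z ∈ Z, ∀ x ∈ P, Commute z x := fun z hz x hx =>
    (mem_centralizer_iff.1 hz.2 x hx).symm
  have hτN : τ ∈ normalizer (P : Set G) := by
    have h1 := B.le_normalizer ht
    have := mul_mem h1 (inv_mem (Subgroup.le_normalizer hp : p ∈ normalizer (P : Set G)))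
    rwa [mul_inv_cancel_right] at this
  have hτ : ∀ d ∈ D, d⁻¹ * (τ * d * τ⁻¹) ∈ Z := by
    intro d hd
    -- the commutator of `p` and `d` is central
    set c := p * d * p⁻¹ * d⁻¹ with hc
    have hcZ : c ∈ Z := by
      refine ⟨(mul_mem (mul_mem (mul_mem hp (hD hd)) (inv_mem hp)) (inv_mem (hD hd)) :
        p * d * p⁻¹ * d⁻¹ ∈ P), mem_centralizer_iff.2 fun x hx => ?_⟩
      have := (B.cubic.class_two hp (hD hd) hx).eq
      rw [commutatorElement_def] at this
      exact this.symm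
    have hcτ : τ * c * τ⁻¹ ∈ Z := by
      refine ⟨conj_mem hτN hcZ.1, mem_centralizer_iff.2 fun x hx => ?_⟩
      have hx' : τ⁻¹ * x * τ ∈ P := by simpa using conj_mem (inv_mem hτN) hx
      calc x * (τ * c * τ⁻¹) = τ * (τ⁻¹ * x * τ * c) * τ⁻¹ := by group
        _ = τ * (c * (τ⁻¹ * x * τ)) * τ⁻¹ := by rw [(hcent c hcZ _ hx').eq]
        _ = τ * c * τ⁻¹ * x := by group
    have key : d⁻¹ * (τ * p * d * (τ * p)⁻¹) =
        (d⁻¹ * (τ * c * τ⁻¹) * d) * (d⁻¹ * (τ * d * τ⁻¹)) := by rw [hc]; group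
    have h1 := hm d hd
    rw [key, (hcent _ hcτ d (hD hd)).symm.inv_left.eq, inv_mul_cancel_right] at h1
    exact (Subgroup.mul_mem_cancel_left Z hcτ).1 h1
  have hkZ := B.cubic.center_norm
  refine ⟨fun e => ?_, B.cubic.card_le_four_mul hτk hkZ hτ hD hi⟩
  subst e
  have hh := B.cubic.inf_conj_le hτk hkZ hτ le_rfl
  refine card_le_of_le (le_trans (le_inf le_rfl ?_) hh)
  intro x hx
  refine ⟨k⁻¹ * x * k, ?_, by simp [mul_assoc]⟩
  simpa using conj_mem (inv_mem B.max.norm) hx

/-- A group with centre of index at most four is abelian. -/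
theorem abelian_of_card_le {k : G} {P : Subgroup G} (hC : Cubic k P)
    (h4 : Nat.card P ≤ 4 * Nat.card ↥(P ⊓ centralizer (P : Set G))) {a : G} (ha : a ∈ P) :
    a ∈ centralizer (P : Set G) := by
  by_contra hcon
  set C := P ⊓ centralizer ({a} : Set G) with hCdef
  have hmem : ∀ x, x ∈ C ↔ x ∈ P ∧ Commute a x := fun x => by
    rw [hCdef, mem_inf, mem_centralizer_singleton_iff]
    exact ⟨fun h => ⟨h.1, h.2.symm⟩, fun h => ⟨h.1, h.2.eq.symm⟩⟩
  have hnC : k ∈ normalizer (C : Set G) := mem_normalizer_of_conj_mem fun x hx =>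
    (hmem _).2 ⟨conj_mem hC.norm ((hmem x).1 hx).1,
      (hC.commute_image ha ((hmem x).1 hx).1 ((hmem x).1 hx).2).1⟩
  have hlt : P ⊓ centralizer (P : Set G) < C := lt_of_le_of_ne
    (fun z hz => (hmem z).2 ⟨hz.1, mem_centralizer_iff.1 hz.2 a ha⟩)
    fun e => hcon ((e.ge ((hmem a).2 ⟨ha, Commute.refl a⟩)).2)
  have h5 := (hC.mono inf_le_left hnC).four_mul_le hC.center_norm hlt
  have hCP : C = P := eq_of_le_of_card_ge inf_le_left (h4.trans h5)
  exact hcon (mem_centralizer_iff.2 fun x hx => ((hmem x).1 (hCP.symm ▸ hx)).2.eq.symm)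

/-- With four central elements of square one an outer element moves `P` much. -/
theorem spread_omega (B : Big q k T P) (h4 : Nat.card (omegaCentre P) = 4) {t : G}
    (ht : t ∈ (T : Subgroup G)) (htP : t ∉ P) {D : Subgroup G} (hD : D ≤ P)
    (hi : D.relIndex P ≤ 2) (hm : ∀ d ∈ D, d⁻¹ * (t * d * t⁻¹) ∈ omegaCentre P) :
    D ≠ P ∧ Nat.card P ≤ 16 := by
  have hab := fun a ha => abelian_of_card_le B.cubic
    (B.spread ht htP hD hi fun d hd => omegaCentre_le P (hm d hd)).2 (a := a) ha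
  obtain ⟨τ, p, hp, rfl, hτk, -⟩ := B.exists_tau ht htP
  have hτ : ∀ d ∈ D, d⁻¹ * (τ * d * τ⁻¹) ∈ omegaCentre P := fun d hd => by
    have h1 := hm d hd
    rwa [show τ * p * d * (τ * p)⁻¹ = τ * (p * d * p⁻¹) * τ⁻¹ by group,
      (mem_centralizer_iff.1 (hab d (hD hd)) p hp), mul_inv_cancel_right] at h1
  refine ⟨fun e => ?_, ?_⟩
  · subst e
    have hh := B.cubic.inf_conj_le hτk B.k_norm_omegaCentre hτ le_rfl
    have hconj : D ≤ D.map (MulAut.conj k).toMonoidHom := fun x hx => ⟨k⁻¹ * x * k,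
      by simpa using conj_mem (inv_mem B.max.norm) hx, by simp [mul_assoc]⟩
    have := card_le_of_le (le_trans (le_inf le_rfl hconj) hh)
    have := B.sixteen_le
    omega
  · have := B.cubic.card_le_four_mul hτk B.k_norm_omegaCentre hτ hD hi
    omega

/-- With a large centre the maximal elementary subgroups lie in `P`. -/
theorem thompson_le (B : Big q k T P) (h16 : 16 ≤ Nat.card (omegaCentre P)) :
    Cfsg.thompsonSubgroupOf 2 (T : Subgroup G) ≤ P := by
  rw [thompsonOf_eq]
  refine sSup_le fun A hA => ?_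
  by_contra hAP
  obtain ⟨a, ha, haP⟩ := SetLike.not_le_iff_exists.1 hAP
  obtain ⟨hAT, hAel, hmax⟩ := hA
  set E := A ⊓ P with hE
  set Z := omegaCentre P with hZ
  have hZn : Z ≤ normalizer (E : Set G) := fun z hz => centralizer_le_normalizer _
    (mem_centralizer_iff.2 fun e he => (commute_omegaCentre hz he.2).symm.eq)
  have hsup : Cfsg.IsElementaryAbelian 2 (E ⊔ Z) := by
    refine elemAb_sup ?_ (omegaCentre_elemAb P) fun e he => ?_
    · exact ⟨⟨⟨fun x y => Subtype.ext (congrArg Subtype.val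
        (hAel.1.is_comm.comm ⟨x, x.2.1⟩ ⟨y, y.2.1⟩) :)⟩⟩, fun x hx => hAel.2 x hx.1⟩
    · exact mem_centralizer_iff.2 fun z hz => (commute_omegaCentre hz he.2).eq
  have hle : E ⊔ Z ≤ (T : Subgroup G) :=
    sup_le (inf_le_right.trans B.le) ((omegaCentre_le P).trans (inf_le_left.trans B.le))
  have h1 := hmax _ hle hsup
  have h2 := CfsgLib.Coprime.InvMax.card_sup_mul_inf_of_le_normalizer hZn
  have hA2 : Nat.card A ≤ 2 * Nat.card E := by
    have h3 := relIndex_mul_relIndex ⊥ E A bot_le inf_le_left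
    rw [relIndex_bot_left, relIndex_bot_left] at h3
    have h4 : E.relIndex A ≤ 2 := by
      rw [hE, inf_relIndex_left]
      exact (relIndex_le_of_le_right hAT (rne P T)).trans B.relIndex_le
    rw [← h3]
    nlinarith
  have hfix := B.card_fixed_sq (hAT ha) haP (omegaCentre_le P) B.k_norm_omegaCentre
    (inf_le_right : E ⊓ Z ≤ Z) fun d hd => congrArg Subtype.val
      (hAel.1.is_comm.comm ⟨a, ha⟩ ⟨d, hd.1.1⟩)
  have hEp := Nat.card_pos (α := E)
  have hcp := Nat.card_pos (α := ↥(E ⊓ Z))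
  rw [← hZ] at hfix
  -- `|E| |Z| ≤ |A| |E ∩ Z| ≤ 2 |E| |E ∩ Z|`
  have h5 : Nat.card Z * Nat.card E ≤ 2 * Nat.card E * Nat.card ↥(E ⊓ Z) :=
    h2 ▸ Nat.mul_le_mul_right _ (h1.trans hA2)
  have h6 : Nat.card Z ≤ 2 * Nat.card ↥(E ⊓ Z) := by
    refine Nat.le_of_mul_le_mul_right ?_ hEp
    linarith
  rcases Nat.lt_or_ge (Nat.card ↥(E ⊓ Z)) 3 with h | h
  · omega
  · nlinarith

/-- With a large centre `Ĵ(T)` lies in `P`. -/
theorem jH_le_P (B : Big q k T P) (h16 : 16 ≤ Nat.card (omegaCentre P)) :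
    jH (T : Subgroup G) ≤ P := by
  rw [jH_eq]
  refine sSup_le ?_
  rintro U ⟨hUT, hE, hJ⟩
  by_contra hUP
  obtain ⟨u, hu, huP⟩ := SetLike.not_le_iff_exists.1 hUP
  set Z := omegaCentre P with hZ
  have hZP : Z ≤ P := (omegaCentre_le P).trans inf_le_left
  have hJP := B.thompson_le h16
  have hZU : Z ≤ U := by
    intro z hz
    obtain ⟨A, hA⟩ := exists_maxElemIn 2 (T : Subgroup G)
    refine hJ (le_thompsonOf hA (mem_maxElemIn_of_centralizes hA (B.le (hZP hz))
      ((omegaCentre_elemAb P).2 z hz) (mem_centralizer_iff.2 fun a ha => ?_)))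
    exact (commute_omegaCentre hz (hJP (le_thompsonOf hA ha))).symm.eq
  set V := Z.subgroupOf U with hV
  have hVn : V.Normal := normal_subgroupOf_of_le_normalizer (hUT.trans B.T_norm_omegaCentre)
  have hVel : Cfsg.IsElementaryAbelian 2 V := ⟨⟨⟨fun a b => Subtype.ext (Subtype.ext
    (commute_omegaCentre a.2 (hZP b.2)).eq)⟩⟩, fun a ha => Subtype.ext
    ((omegaCentre_elemAb P).2 _ ha)⟩
  have hVc : Nat.card V = Nat.card Z := Nat.card_congr (subgroupOfEquivOfLe hZU).toEquiv
  -- fixed points of an outer element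
  have hfix : ∀ r : U, (r : G) ∉ P → ∀ D : Subgroup U, D ≤ V → (∀ d ∈ D, Commute r d) →
      Nat.card D * Nat.card D ≤ Nat.card Z := by
    intro r hr D hDV hD
    rw [← card_map_of_injective U.subtype_injective (K := D)]
    refine B.card_fixed_sq (hUT r.2) hr (omegaCentre_le P) B.k_norm_omegaCentre ?_ ?_
    · rintro _ ⟨d, hd, rfl⟩; exact hDV hd
    · rintro _ ⟨d, hd, rfl⟩; exact congrArg Subtype.val (hD d hd).eq
  have hCV : ∀ r : U, r ∈ centralizer (V : Set U) ↔ (r : G) ∈ P := by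
    refine fun r => ⟨fun hr => by_contra fun hrP => ?_, fun hr => mem_centralizer_iff.2 fun v hv =>
      Subtype.ext (commute_omegaCentre hv hr).eq⟩
    have := hfix r hrP V le_rfl fun d hd => (mem_centralizer_iff.1 hr d hd).symm
    rw [hVc] at this
    nlinarith
  have hcentre := hE V hVn hVel ?_
  · have := hfix ⟨u, hu⟩ huP V le_rfl fun d hd => mem_center_iff.1 (hcentre hd) ⟨u, hu⟩
    rw [hVc] at this
    nlinarith
  intro R _ _ hR
  obtain ⟨r, hr, hrV⟩ := SetLike.not_le_iff_exists.1 hR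
  have hrP : (r : G) ∉ P := fun h => hrV ((hCV r).2 h)
  -- the centralising part has index two
  set C := R ⊓ centralizer (V : Set U) with hC
  have hCc : Nat.card R = 2 * Nat.card C := by
    have h3 := relIndex_mul_relIndex ⊥ C R bot_le inf_le_left
    rw [relIndex_bot_left, relIndex_bot_left] at h3
    have h4 : C.relIndex R ≤ 2 := by
      have e : centralizer (V : Set U) = P.subgroupOf U := by
        ext x; rw [hCV, mem_subgroupOf]
      rw [hC, inf_relIndex_left, e]
      calc (P.subgroupOf U).relIndex R ≤ (P.subgroupOf U).relIndex ⊤ :=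
            relIndex_le_of_le_right le_top (rne _ _)
        _ = P.relIndex U := relIndex_top_right _
        _ ≤ P.relIndex (T : Subgroup G) := relIndex_le_of_le_right hUT (rne P T)
        _ ≤ 2 := B.relIndex_le
    have h5 : C.relIndex R ≠ 1 := fun e => hrV ((relIndex_eq_one.1 e) hr).2
    have h6 : C.relIndex R ≠ 0 := rne _ _
    rw [← h3, show C.relIndex R = 2 by omega, mul_comm]
  set F := V ⊓ centralizer (R : Set U) with hF
  have hF2 := hfix r hrP F inf_le_left fun d hd => mem_centralizer_iff.1 hd.2 r hr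
  -- commutators with `r`
  let φ : V →* U :=
    { toFun := fun v => ⁅(v : U), r⁆
      map_one' := by simp [commutatorElement_def]
      map_mul' := fun a b => by
        have hb : ⁅(b : U), r⁆ ∈ V := by
          rw [commutatorElement_def, show (b : U) * r * (b : U)⁻¹ * r⁻¹ =
            (b : U) * (r * (b : U)⁻¹ * r⁻¹) by group]
          exact mul_mem b.2 (hVn.conj_mem _ (inv_mem b.2) r)
        have ha : ⁅(a : U), r⁆ ∈ V := by
          rw [commutatorElement_def, show (a : U) * r * (a : U)⁻¹ * r⁻¹ =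
            (a : U) * (r * (a : U)⁻¹ * r⁻¹) by group]
          exact mul_mem a.2 (hVn.conj_mem _ (inv_mem a.2) r)
        have hcomm : ∀ x ∈ V, ∀ y ∈ V, x * y = y * x := fun x hx y hy =>
          congrArg Subtype.val (hVel.1.is_comm.comm ⟨x, hx⟩ ⟨y, hy⟩)
        calc ⁅((a : U) * b), r⁆ = (a : U) * ⁅(b : U), r⁆ * (a : U)⁻¹ * ⁅(a : U), r⁆ := by
              simp only [commutatorElement_def]; group
          _ = ⁅(a : U), r⁆ * ⁅(b : U), r⁆ := by
              rw [hcomm _ a.2 _ hb, mul_inv_cancel_right, hcomm _ hb _ ha] }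
  have hker : Nat.card φ.ker * Nat.card φ.ker ≤ Nat.card Z := by
    rw [← card_map_of_injective V.subtype_injective (K := φ.ker)]
    refine hfix r hrP _ (map_subtype_le _) ?_
    rintro _ ⟨d, hd, rfl⟩
    exact (commutatorElement_eq_one_iff_mul_comm.1 (hd : ⁅(d : U), r⁆ = 1)).symm
  have hran : Nat.card φ.range ≤ Nat.card ↥⁅V, R⁆ := card_le_of_le (by
    rintro _ ⟨v, rfl⟩
    exact commutator_mem_commutator v.2 hr)
  have hmul : Nat.card φ.ker * Nat.card φ.range = Nat.card Z := by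
    rw [← Nat.card_congr (QuotientGroup.quotientKerEquivRange φ).toEquiv, mul_comm, ← hVc]
    exact (card_eq_card_quotient_mul_card_subgroup _).symm
  have hCp := Nat.card_pos (α := C)
  constructor
  · rw [hCc, hVc, show (2 * Nat.card C) ^ 3 = 8 * Nat.card C ^ 3 by ring]
    have h8 : 8 * Nat.card F ^ 2 < Nat.card Z ^ 2 := by nlinarith
    calc 8 * Nat.card C ^ 3 * Nat.card F ^ 2 = 8 * Nat.card F ^ 2 * Nat.card C ^ 3 := by ring
      _ < Nat.card Z ^ 2 * Nat.card C ^ 3 := Nat.mul_lt_mul_of_pos_right h8 (pow_pos hCp 3)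
  · rw [hCc]
    refine Nat.mul_lt_mul_of_pos_right ?_ hCp
    by_contra hlt
    push Not at hlt
    have : Nat.card Z ≤ Nat.card φ.ker * 2 := hmul ▸ Nat.mul_le_mul_left _ (hran.trans hlt)
    nlinarith

/-- With a large centre both Thompson subgroups are normalised by `k`. -/
theorem norm_thompson (B : Big q k T P) (h16 : 16 ≤ Nat.card (omegaCentre P)) :
    k ∈ normalizer (Cfsg.thompsonSubgroupOf 2 (T : Subgroup G) : Set G) ∧
      k ∈ normalizer (zHat (T : Subgroup G) : Set G) := by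
  have hJ := B.thompson_le h16
  have e := thompsonOf_eq_of_le hJ B.le
  refine ⟨e ▸ normalizer_le_normalizer_thompsonOf P B.max.norm, ?_⟩
  have ej : jH (T : Subgroup G) = jH P := by
    refine le_antisymm ?_ (jH_mono hJ B.le)
    rw [jH_eq, jH_eq]
    refine sSup_le_sSup fun U hU => ⟨?_, hU.2.1, e.le.trans hU.2.2⟩
    exact le_trans (le_trans (le_sSup hU) (jH_eq _).ge) (B.jH_le_P h16)
  have hkj := mem_normalizer_iff_map_conj_eq.1
    (normalizer_le_normalizer_jH P B.max.norm)
  refine mem_normalizer_iff_map_conj_eq.2 ?_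
  unfold zHat
  rw [omegaOne_map_injective (MulAut.conj k).injective,
    center_map_of_injOn _ (MulAut.conj k).injective.injOn, ej, hkj]

end Big

end CfsgLib.InvChar.SecNineOpen
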