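import Cfsg.Agent.Lib.Char.Burnside
import Cfsg.Agent.Lib.InvChar.SecNineOpen.Faith

/-!
# An involution centralising half of the two-core of a constrained `{2, q}`-group lies in it
-/

set_option autoImplicit false
set_option linter.unusedSectionVars false
set_option linter.style.haveILetI false

namespace CfsgLib.InvChar.SecNineOpen

open Subgroup

universe u

variable {M : Type u} [Group M] [Finite M] {q : ℕ}

theorem mem_core_of_half (hq : q.Prime) (h5 : 5 ≤ q) (hcard : ∃ i j, Nat.card M = 2 ^ i * q ^ j)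
    (hchar : centralizer (Cfsg.pCore 2 M : Set M) ≤ Cfsg.pCore 2 M) {t : M} (ht : t * t = 1)
    {D : Subgroup M} (hD : D ≤ Cfsg.pCore 2 M) (hi : D.relIndex (Cfsg.pCore 2 M) ≤ 2)
    (hc : ∀ d ∈ D, Commute t d) : t ∈ Cfsg.pCore 2 M := by
  haveI := Fact.mk hq
  haveI := Fact.mk Nat.prime_two
  obtain ⟨i, j, hij⟩ := hcard
  haveI : Group.IsSolvable M := CfsgLib.Char.burnside_pq 2 q Nat.prime_two hq i j M hij
  set U := Cfsg.pCore 2 M with hU
  have hU2 : IsPGroup 2 U := CfsgLib.Comp.isPGroup_pCore 2 M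
  haveI hUn : U.Normal := Cfsg.pCore_normal 2 M
  by_contra htU
  set π := QuotientGroup.mk' U with hπ
  have hker : π.ker = U := QuotientGroup.ker_mk' U
  have hR : Pair2q (M ⧸ U) q := by
    have hd : Nat.card (M ⧸ U) ∣ 2 ^ i * q ^ j := hij ▸ card_quotient_dvd_card U
    refine ⟨hq, h5, Group.isSolvable_of_surjective (QuotientGroup.mk'_surjective U), ?_, ?_⟩
    · obtain ⟨u, v, hu, hv, e⟩ := exists_dvd_and_dvd_of_dvd_mul hd
      obtain ⟨i', -, rfl⟩ := (Nat.dvd_prime_pow Nat.prime_two).1 hu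
      obtain ⟨j', -, rfl⟩ := (Nat.dvd_prime_pow hq).1 hv
      exact ⟨i', j', e⟩
    · have h1 : (Cfsg.pCore 2 (M ⧸ U)).comap π ≤ U := le_sSup
        ⟨Normal.comap (Cfsg.pCore_normal 2 _) _, (CfsgLib.Comp.isPGroup_pCore 2 (M ⧸ U)).comap_of_ker_isPGroup
          π (by rwa [hker])⟩
      rw [← map_comap_eq_self_of_surjective (QuotientGroup.mk'_surjective U) (Cfsg.pCore 2 (M ⧸ U)),
        Subgroup.map_eq_bot_iff, hker]
      exact h1
  have hti : t⁻¹ = t := inv_eq_of_mul_eq_one_right ht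
  have hπt : π t * π t = 1 := by rw [← map_mul, ht, map_one]
  have hπt1 : π t ≠ 1 := fun e => htU ((QuotientGroup.eq_one_iff t).1 e)
  obtain ⟨xb, hxb, hne⟩ : ∃ x ∈ Cfsg.pCore q (M ⧸ U), π t * x * π t ≠ x := by
    by_contra hcon
    push Not at hcon
    refine hR.not_mem_core hπt hπt1 (hR.centralizer_core_le (mem_centralizer_iff.2 fun x hx => ?_))
    calc x * π t = π t * x * π t * π t := by rw [hcon x hx]
      _ = π t * x := by rw [mul_assoc (π t * x), hπt, mul_one]
  obtain ⟨x, rfl⟩ := QuotientGroup.mk'_surjective U xb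
  set d := t * (x * t * x⁻¹) with hd
  have hdF : π d ∈ Cfsg.pCore q (M ⧸ U) := by
    rw [hd, map_mul, map_mul, map_mul, map_inv, ← mul_assoc, ← mul_assoc]
    refine mul_mem ?_ (inv_mem hxb)
    have h1 := Normal.conj_mem (Cfsg.pCore_normal q (M ⧸ U)) (π x) hxb (π t)
    rwa [inv_eq_of_mul_eq_one_right hπt] at h1
  have hd1 : π d ≠ 1 := by
    rw [hd, map_mul, map_mul, map_mul, map_inv, ← mul_assoc, ← mul_assoc]
    exact fun e => hne (mul_inv_eq_one.1 e)
  have hqd : q ∣ orderOf d := by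
    obtain ⟨n, hn⟩ := IsPGroup.iff_orderOf.1 (CfsgLib.Comp.isPGroup_pCore q (M ⧸ U)) ⟨π d, hdF⟩
    rw [orderOf_mk] at hn
    rcases n with _ | n
    · exact absurd (orderOf_eq_one_iff.1 (hn.trans (pow_zero q))) hd1
    · exact (dvd_pow_self q (by omega : n + 1 ≠ 0)).trans (hn ▸ orderOf_map_dvd π d)
  obtain ⟨r, hr⟩ := hqd
  set f := d ^ r with hf
  have hfq : f ^ q = 1 := by rw [hf, ← pow_mul, mul_comm, ← hr, pow_orderOf_eq_one]
  have hr0 : 0 < r := Nat.pos_of_ne_zero fun e => by
    have := orderOf_pos d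
    rw [hr, e, mul_zero] at this
    exact lt_irrefl _ this
  have hf1 : f ≠ 1 := fun e => by
    have h1 := Nat.le_of_dvd hr0 (orderOf_dvd_of_pow_eq_one e)
    rw [hr] at h1
    nlinarith
  -- `f` centralises a subgroup of index at most four
  set D' := D ⊓ D.map (MulAut.conj x).toMonoidHom with hD'
  have hfD : ∀ e ∈ D', Commute f e := by
    intro e he
    obtain ⟨he1, w, hw, hwe⟩ := he
    refine Commute.pow_left ((hc e he1).mul_left ?_) r
    rw [← hwe]
    exact (hc w hw).map (MulAut.conj x).toMonoidHom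
  have hDx : D.map (MulAut.conj x).toMonoidHom ≤ U := by
    rintro _ ⟨w, hw, rfl⟩
    exact hUn.conj_mem w (hD hw) x
  have hUx : U.map (MulAut.conj x).toMonoidHom = U := by
    refine eq_of_le_of_card_ge ?_ (card_map_of_injective (MulAut.conj x).injective).ge
    rintro _ ⟨w, hw, rfl⟩
    exact hUn.conj_mem w hw x
  set C := U ⊓ centralizer ({f} : Set M) with hC
  have hDC : D' ≤ C := fun e he => ⟨hD he.1, mem_centralizer_singleton_iff.2 (hfD e he).eq.symm⟩
  have hCi : C.relIndex U ≤ 4 := by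
    have hi2 : (D.map (MulAut.conj x).toMonoidHom).relIndex U ≤ 2 := by
      rw [← hUx, relIndex_map_map_of_injective _ _ (MulAut.conj x).injective]
      exact hi
    have h1 : D'.relIndex U ≤ 4 := relIndex_inf_le.trans (Nat.mul_le_mul hi hi2)
    refine (Nat.le_of_dvd (Nat.pos_of_ne_zero ?_) (relIndex_dvd_of_le_left U hDC)).trans h1
    exact index_ne_zero_of_finite
  have hfU : ∀ u ∈ U, Commute f u := by
    intro u hu
    classical
    haveI := Fintype.ofFinite (U ⧸ C.subgroupOf U)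
    let φ : Fin q → U ⧸ C.subgroupOf U := fun n =>
      QuotientGroup.mk ⟨f ^ (n : ℕ) * u * (f ^ (n : ℕ))⁻¹, hUn.conj_mem u hu _⟩
    obtain ⟨a, b, hab, habe⟩ := Fintype.exists_ne_map_eq_of_card_lt φ (by
      rw [Fintype.card_fin, ← Nat.card_eq_fintype_card]
      exact lt_of_le_of_lt hCi (by omega))
    have key : ∀ a b : Fin q, (a : ℕ) < (b : ℕ) → φ a = φ b → Commute f u := by
      intro a b hlt he
      obtain ⟨n, hn⟩ : ∃ n, (b : ℕ) = a + n := ⟨b - a, by omega⟩
      set g := f ^ n with hg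
      set w := f ^ (a : ℕ) * u * (f ^ (a : ℕ))⁻¹ with hw
      have hmem : w⁻¹ * (g * w * g⁻¹) ∈ C := by
        have h1 : (f ^ (a : ℕ) * u * (f ^ (a : ℕ))⁻¹)⁻¹ * (f ^ (b : ℕ) * u * (f ^ (b : ℕ))⁻¹) ∈ C :=
          mem_subgroupOf.1 (QuotientGroup.eq.1 he)
        rw [hn, add_comm, pow_add, ← hg] at h1
        convert h1 using 1
        rw [hw]; group
      set c := w⁻¹ * (g * w * g⁻¹) with hcdef
      have hcf : Commute g c :=
        (show Commute f c from (mem_centralizer_singleton_iff.1 hmem.2).symm).pow_left n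
      have hpow : ∀ m : ℕ, g ^ m * w * (g ^ m)⁻¹ = w * c ^ m := by
        intro m
        induction m with
        | zero => simp
        | succ m ih =>
          calc g ^ (m + 1) * w * (g ^ (m + 1))⁻¹
              = g * (g ^ m * w * (g ^ m)⁻¹) * g⁻¹ := by rw [pow_succ']; group
            _ = g * w * g⁻¹ * (g * c ^ m * g⁻¹) := by rw [ih]; group
            _ = w * c * c ^ m := by
                rw [(hcf.pow_right m).eq, mul_inv_cancel_right, hcdef, mul_inv_cancel_left]
            _ = w * c ^ (m + 1) := by rw [pow_succ', mul_assoc]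
      have hgq : g ^ q = 1 := by rw [hg, ← pow_mul, mul_comm, pow_mul, hfq, one_pow]
      have hc1 : c = 1 := by
        have h1 := hpow q
        rw [hgq, one_mul, inv_one, mul_one] at h1
        have h2 : c ^ q = 1 := mul_eq_left.1 h1.symm
        obtain ⟨m, hm⟩ := IsPGroup.iff_orderOf.1 hU2 ⟨c, hmem.1⟩
        rw [orderOf_mk] at hm
        rw [← orderOf_eq_one_iff]
        refine Nat.eq_one_of_dvd_coprimes (Nat.Coprime.pow_left m
          ((Nat.coprime_primes Nat.prime_two hq).2 (by omega))) (hm ▸ dvd_refl _)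
          (orderOf_dvd_of_pow_eq_one h2)
      have hgw : Commute g w := by
        rw [hcdef, inv_mul_eq_one] at hc1
        exact mul_inv_eq_iff_eq_mul.1 hc1.symm
      have hfw : Commute f w := by
        have hnq : (orderOf f).Coprime n := by
          refine Nat.Coprime.coprime_dvd_left (orderOf_dvd_of_pow_eq_one hfq)
            (hq.coprime_iff_not_dvd.2 fun h => ?_)
          have := Nat.le_of_dvd (by omega) h
          omega
        obtain ⟨m, hm⟩ := exists_pow_eq_self_of_coprime hnq.symm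
        rw [← hm]
        exact hgw.pow_left m
      have h1 : Commute f (f ^ (a : ℕ)) := Commute.self_pow f a
      have h2 := (h1.inv_right.mul_right hfw).mul_right h1
      rw [show u = (f ^ (a : ℕ))⁻¹ * w * f ^ (a : ℕ) by rw [hw]; group]
      exact h2
    rcases lt_trichotomy (a : ℕ) (b : ℕ) with h | h | h
    · exact key a b h habe
    · exact absurd (Fin.ext h) hab
    · exact key b a h habe.symm
  have hfmem : f ∈ U := hchar (mem_centralizer_iff.2 fun u hu => (hfU u hu).eq.symm)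
  obtain ⟨m, hm⟩ := IsPGroup.iff_orderOf.1 hU2 ⟨f, hfmem⟩
  rw [orderOf_mk] at hm
  refine hf1 (orderOf_eq_one_iff.1 (Nat.eq_one_of_dvd_coprimes (Nat.Coprime.pow_left m
    ((Nat.coprime_primes Nat.prime_two hq).2 (by omega))) (hm ▸ dvd_refl _)
    (orderOf_dvd_of_pow_eq_one hfq)))

end CfsgLib.InvChar.SecNineOpen
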