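import Cfsg.Agent.Lib.InvChar.SecNineOpen.Conj
import Cfsg.Agent.Lib.InvChar.SecNineOpen.Lift
import Cfsg.Agent.Lib.InvChar.SecNineOpen.Omega

/-!
# A constrained `{2, q}`-group around a two-group whose index two subgroup has a small centre

If the index two subgroup `P` has centre with only four elements `V` of square one, is of class
two with no element of centraliser index two outside the centre, and is moved enough by the outer
elements, then `V` is normal.
-/

set_option autoImplicit false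
set_option linter.unusedSectionVars false
set_option linter.style.haveILetI false

namespace CfsgLib.InvChar.SecNineOpen

open Subgroup
open scoped commutatorElement

universe u

variable {M : Type u} [Group M] [Finite M] {q : ℕ}

/-- The hypotheses on `S` and its subgroup `P` of index two. -/
structure ModHyp (q : ℕ) (S P : Subgroup M) : Prop where
  prime : q.Prime
  five : 5 ≤ q
  card : ∃ i j, Nat.card M = 2 ^ i * q ^ j
  char2 : centralizer (Cfsg.pCore 2 M : Set M) ≤ Cfsg.pCore 2 M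
  two : IsPGroup 2 S
  sylow : ¬ 2 ∣ S.index
  le : P ≤ S
  index : P.relIndex S = 2
  four : Nat.card ↥(omegaCentre P) = 4
  cls : ∀ a ∈ P, ∀ b ∈ P, ⁅a, b⁆ ∈ centralizer (P : Set M)
  central : ∀ u ∈ P, ∀ D : Subgroup M, D ≤ P → D.relIndex P ≤ 2 → (∀ d ∈ D, Commute u d) →
    u ∈ centralizer (P : Set M)
  outer : ∀ t ∈ S, t ∉ P → ∃ z ∈ omegaCentre P, t * z * t⁻¹ ≠ z
  spread : ∀ t ∈ S, t ∉ P → ∀ D : Subgroup M, D ≤ P → D.relIndex P ≤ 2 →
    (∀ d ∈ D, d⁻¹ * (t * d * t⁻¹) ∈ omegaCentre P) → D ≠ P ∧ Nat.card P ≤ 16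

theorem le_two_of_dvd_four {n : ℕ} (h : n ∣ 4) (h4 : n ≠ 4) : n ≤ 2 := by
  have h1 := Nat.le_of_dvd (by norm_num) h
  by_contra h2
  obtain rfl : n = 3 := by omega
  norm_num at h

/-- Commutation with `w` into a subgroup of order at most two centralised by `P` has small kernel. -/
theorem exists_kernel_le {P Z : Subgroup M} {w : M}
    (hwZ : ∀ p ∈ P, w * p * w⁻¹ * p⁻¹ ∈ Z) (hZ : ∀ z ∈ Z, ∀ p ∈ P, Commute z p)
    (hc : Nat.card Z ≤ 2) :
    ∃ D : Subgroup M, D ≤ P ∧ D.relIndex P ≤ 2 ∧ ∀ d ∈ D, Commute w d := by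
  let φ : P →* Z :=
    { toFun := fun p => ⟨w * p * w⁻¹ * (p : M)⁻¹, hwZ p p.2⟩
      map_one' := Subtype.ext (by simp)
      map_mul' := fun a b => Subtype.ext (by
        show w * ((a : M) * b) * w⁻¹ * ((a : M) * b)⁻¹ =
          w * a * w⁻¹ * (a : M)⁻¹ * (w * b * w⁻¹ * (b : M)⁻¹)
        have := (hZ _ (hwZ b b.2) a a.2).eq
        calc w * ((a : M) * b) * w⁻¹ * ((a : M) * b)⁻¹
            = w * a * w⁻¹ * ((w * b * w⁻¹ * (b : M)⁻¹) * (a : M)⁻¹) := by group
          _ = w * a * w⁻¹ * ((a : M)⁻¹ * (w * b * w⁻¹ * (b : M)⁻¹)) := by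
              rw [((hZ _ (hwZ b b.2) a a.2).inv_right).eq]
          _ = _ := by group) }
  refine ⟨φ.ker.map P.subtype, map_subtype_le _, ?_, ?_⟩
  · rw [relIndex, subgroupOf, comap_map_eq_self_of_injective P.subtype_injective, index_ker]
    exact (card_le_card_group _).trans hc
  · rintro _ ⟨d, hd, rfl⟩
    have h1 : w * (d : M) * w⁻¹ * (d : M)⁻¹ = 1 := congrArg Subtype.val hd
    rw [mul_inv_eq_one, mul_inv_eq_iff_eq_mul] at h1
    exact h1

/-- Two elements outside a subgroup of index above two, their product outside as well. -/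
theorem exists_pair_outside {P K : Subgroup M} (hi : 2 < K.relIndex P) :
    ∃ g ∈ P, ∃ g' ∈ P, g ∉ K ∧ g' ∉ K ∧ g * g' ∉ K := by
  obtain ⟨g, hg, hgK⟩ : ∃ g ∈ P, g ∉ K := by
    by_contra hcon
    push Not at hcon
    rw [relIndex_eq_one.2 hcon] at hi
    norm_num at hi
  by_contra hcon
  push Not at hcon
  have h2 : (K.subgroupOf P).index ≤ 2 := by
    rw [index_eq_card]
    classical
    haveI := Fintype.ofFinite (P ⧸ K.subgroupOf P)
    rw [Nat.card_eq_fintype_card]
    refine le_trans (Finset.card_le_card (s := Finset.univ)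
      (t := {QuotientGroup.mk (1 : P), QuotientGroup.mk (⟨g, hg⟩⁻¹ : P)}) ?_) Finset.card_le_two
    intro c _
    obtain ⟨x, rfl⟩ := QuotientGroup.mk_surjective c
    rw [Finset.mem_insert, Finset.mem_singleton, QuotientGroup.eq, QuotientGroup.eq,
      mem_subgroupOf, mem_subgroupOf]
    by_cases hx : (x : M) ∈ K
    · exact Or.inl (by simpa using inv_mem hx)
    refine Or.inr ?_
    have := inv_mem (hcon g hg x x.2 hgK hx)
    simpa [mul_inv_rev] using this
  exact absurd h2 (not_le.2 hi)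

namespace ModHyp

variable {S P : Subgroup M}

theorem mem_mul (h : ModHyp q S P) {a b : M} (ha : a ∈ S) (hb : b ∈ S) :
    a * b ∈ P ↔ (a ∈ P ↔ b ∈ P) := by
  have := mul_mem_iff_of_index_two (H := P.subgroupOf S) h.index (a := ⟨a, ha⟩) (b := ⟨b, hb⟩)
  simpa [mem_subgroupOf] using this

theorem conj_mem_P (h : ModHyp q S P) {s p : M} (hs : s ∈ S) (hp : p ∈ P) : s * p * s⁻¹ ∈ P := by
  rw [h.mem_mul (mul_mem hs (h.le hp)) (inv_mem hs), h.mem_mul hs (h.le hp), inv_mem_iff]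
  tauto

theorem sq_mem (h : ModHyp q S P) {s : M} (hs : s ∈ S) : s * s ∈ P := by
  rw [h.mem_mul hs hs]

/-- The centre of `P`. -/
abbrev V (_h : ModHyp q S P) : Subgroup M := omegaCentre P

theorem commute_V (h : ModHyp q S P) {v p : M} (hv : v ∈ h.V) (hp : p ∈ P) : Commute v p :=
  commute_omegaCentre hv hp

theorem sq (h : ModHyp q S P) : ∀ z ∈ h.V, z * z = 1 := fun _ hz => hz.2

/-- A commutator with an element whose square is central has square one. -/
theorem commutator_mem_V (h : ModHyp q S P) {w p : M} (hw : w ∈ P) (hp : p ∈ P)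
    (hsq : Commute (w * w) p) : p * w * p⁻¹ * w⁻¹ ∈ h.V := by
  set c := p * w * p⁻¹ * w⁻¹ with hc
  have hmem : c ∈ P ⊓ centralizer (P : Set M) :=
    ⟨(mul_mem (mul_mem (mul_mem hp hw) (inv_mem hp)) (inv_mem hw) : p * w * p⁻¹ * w⁻¹ ∈ P), by
      have := h.cls p hp w hw
      rwa [commutatorElement_def] at this⟩
  refine ⟨hmem, ?_⟩
  have hcw : Commute c w := (mem_centralizer_iff.1 hmem.2 w hw).symm
  have e : p * (w * w) * p⁻¹ = c * c * (w * w) := by
    calc p * (w * w) * p⁻¹ = (c * w) * (c * w) := by rw [hc]; group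
      _ = c * c * (w * w) := hcw.symm.mul_mul_mul_comm _ _
  rw [hsq.symm.eq, mul_inv_cancel_right] at e
  exact mul_eq_right.1 e.symm

theorem conj_mem_V (h : ModHyp q S P) {s v : M} (hs : s ∈ S) (hv : v ∈ h.V) :
    s * v * s⁻¹ ∈ h.V := by
  refine ⟨⟨h.conj_mem_P hs hv.1.1, mem_centralizer_iff.2 fun p hp => ?_⟩, by
    rw [show s * v * s⁻¹ * (s * v * s⁻¹) = s * (v * v) * s⁻¹ by group, hv.2]; group⟩
  have hp' : s⁻¹ * p * s ∈ P := by simpa using h.conj_mem_P (inv_mem hs) hp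
  calc p * (s * v * s⁻¹) = s * (s⁻¹ * p * s * v) * s⁻¹ := by group
    _ = s * (v * (s⁻¹ * p * s)) * s⁻¹ := by rw [(h.commute_V hv hp').eq]
    _ = s * v * s⁻¹ * p := by group

/-- The centre of `S` inside `V`. -/
abbrev Z0 (h : ModHyp q S P) : Subgroup M := h.V ⊓ centralizer (S : Set M)

theorem mem_Z0_of_fixed (h : ModHyp q S P) {t v : M} (ht : t ∈ S) (htP : t ∉ P) (hv : v ∈ h.V)
    (hc : Commute t v) : v ∈ h.Z0 := by
  refine ⟨hv, mem_centralizer_iff.2 fun s hs => ?_⟩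
  by_cases hsP : s ∈ P
  · exact (h.commute_V hv hsP).symm.eq
  · have hp : t⁻¹ * s ∈ P := by
      rw [h.mem_mul (inv_mem ht) hs, inv_mem_iff]; tauto
    have := (hc.mul_left (h.commute_V hv hp).symm)
    rw [mul_inv_cancel_left] at this
    exact this.eq

theorem commutator_V (h : ModHyp q S P) {s v : M} (hs : s ∈ S) (hv : v ∈ h.V) :
    s * v * s⁻¹ * v⁻¹ ∈ h.Z0 := by
  by_cases hsP : s ∈ P
  · rw [(h.commute_V hv hsP).symm.eq, mul_inv_cancel_right, mul_inv_cancel]
    exact one_mem _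
  · have hmem : s * v * s⁻¹ * v⁻¹ ∈ h.V := mul_mem (h.conj_mem_V hs hv) (inv_mem hv)
    refine h.mem_Z0_of_fixed hs hsP hmem ?_
    set c := s * v * s⁻¹ * v⁻¹ with hc
    have hi : c⁻¹ = c := inv_eq_of_mul_eq_one_right (h.sq c hmem)
    have h2 : s * s * v * (s * s)⁻¹ = v := by
      rw [(h.commute_V hv (h.sq_mem hs)).symm.eq, mul_inv_cancel_right]
    have : s * c * s⁻¹ = c⁻¹ := by
      calc s * c * s⁻¹ = s * s * v * (s * s)⁻¹ * (s * v⁻¹ * s⁻¹) := by rw [hc]; group
        _ = v * (s * v⁻¹ * s⁻¹) := by rw [h2]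
        _ = c⁻¹ := by rw [hc]; group
    rw [hi] at this
    exact mul_inv_eq_iff_eq_mul.1 this

theorem exists_outer (h : ModHyp q S P) : ∃ t ∈ S, t ∉ P := by
  by_contra hcon
  push Not at hcon
  have := h.index
  rw [relIndex_eq_one.2 hcon] at this
  norm_num at this

theorem card_Z0 (h : ModHyp q S P) : Nat.card h.Z0 = 2 := by
  obtain ⟨t, ht, htP⟩ := h.exists_outer
  obtain ⟨z, hz, hne⟩ := h.outer t ht htP
  have hlt : h.Z0 < h.V := lt_of_le_of_ne inf_le_left fun e => hne (by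
    have : z ∈ h.Z0 := e.symm ▸ hz
    rw [(show Commute t z from (mem_centralizer_iff.1 this.2 t ht)).eq, mul_inv_cancel_right])
  have hd := card_dvd_of_le hlt.le
  have hlt' : Nat.card h.Z0 ≠ 4 := fun e => hlt.ne (eq_of_le_of_card_ge hlt.le (by rw [h.four, e]))
  rw [h.four] at hd
  have hne1 : Nat.card h.Z0 ≠ 1 := fun e => by
    have := h.commutator_V ht hz
    rw [card_eq_one.1 e, mem_bot, mul_inv_eq_one] at this
    exact hne this
  have := le_two_of_dvd_four hd hlt'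
  have := Nat.card_pos (α := h.Z0)
  omega

theorem core_le (h : ModHyp q S P) : Cfsg.pCore 2 M ≤ S := by
  haveI := Fact.mk Nat.prime_two
  haveI := Cfsg.pCore_normal 2 M
  exact (CfsgLib.Comp.isPGroup_pCore 2 M).le_sylow_of_normal (h.two.toSylow h.sylow)

theorem V_le_core (h : ModHyp q S P) : h.V ≤ Cfsg.pCore 2 M := fun v hv => by
  refine mem_core_of_half h.prime h.five h.card h.char2 (h.sq v hv) (D := Cfsg.pCore 2 M ⊓ P)
    inf_le_left ?_ fun d hd => h.commute_V hv hd.2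
  rw [inf_relIndex_left]
  refine le_trans (relIndex_le_of_le_right h.core_le ?_) h.index.le
  exact index_ne_zero_of_finite

set_option maxHeartbeats 1000000 in
/-- The case of a central involution. -/
theorem normal_of_central (h : ModHyp q S P) [h.Z0.Normal] : h.V.Normal := by
  haveI := Fact.mk Nat.prime_two
  have hZn : h.Z0.Normal := inferInstance
  set U := Cfsg.pCore 2 M with hU
  haveI hUn : U.Normal := Cfsg.pCore_normal 2 M
  obtain ⟨v, hv, hv0⟩ : ∃ v ∈ h.V, v ∉ h.Z0 := by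
    by_contra hcon
    push Not at hcon
    have := card_le_of_le (show h.V ≤ h.Z0 from hcon)
    rw [h.card_Z0, h.four] at this
    norm_num at this
  let N1 : Subgroup M :=
    { carrier := {y | y ∈ U ∧ y * y ∈ h.Z0 ∧ ∀ u ∈ U, u * y * u⁻¹ * y⁻¹ ∈ h.Z0}
      one_mem' := ⟨one_mem _, by simp, fun u _ => by simp⟩
      mul_mem' := fun {a b} ha hb => by
        refine ⟨mul_mem ha.1 hb.1, ?_, fun u hu => ?_⟩
        · rw [show a * b * (a * b) = (a * a) * (a⁻¹ * (b * a * b⁻¹ * a⁻¹) * a) * (b * b) by group]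
          refine mul_mem (mul_mem ha.2.1 ?_) hb.2.1
          simpa using hZn.conj_mem _ (ha.2.2 b hb.1) a⁻¹
        · rw [show u * (a * b) * u⁻¹ * (a * b)⁻¹ =
            (u * a * u⁻¹ * a⁻¹) * (a * (u * b * u⁻¹ * b⁻¹) * a⁻¹) by group]
          exact mul_mem (ha.2.2 u hu) (hZn.conj_mem _ (hb.2.2 u hu) a)
      inv_mem' := fun {a} ha => by
        refine ⟨inv_mem ha.1, ?_, fun u hu => ?_⟩
        · rw [show a⁻¹ * a⁻¹ = (a * a)⁻¹ by group]; exact inv_mem ha.2.1
        · rw [show u * a⁻¹ * u⁻¹ * a⁻¹⁻¹ = a⁻¹ * (u * a * u⁻¹ * a⁻¹)⁻¹ * a⁻¹⁻¹ by group]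
          exact hZn.conj_mem _ (inv_mem (ha.2.2 u hu)) a⁻¹ }
  haveI hN1 : N1.Normal := ⟨fun y hy g => ⟨hUn.conj_mem y hy.1 g, by
    rw [show g * y * g⁻¹ * (g * y * g⁻¹) = g * (y * y) * g⁻¹ by group]
    exact hZn.conj_mem _ hy.2.1 g, fun u hu => by
    have hu' : g⁻¹ * u * g ∈ U := by simpa using hUn.conj_mem u hu g⁻¹
    rw [show u * (g * y * g⁻¹) * u⁻¹ * (g * y * g⁻¹)⁻¹ =
      g * (g⁻¹ * u * g * y * (g⁻¹ * u * g)⁻¹ * y⁻¹) * g⁻¹ by group]
    exact hZn.conj_mem _ (hy.2.2 _ hu') g⟩⟩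
  set Y := normalClosure (h.V : Set M) with hY
  haveI hYn : Y.Normal := normalClosure_normal
  have hVY : h.V ≤ Y := subset_normalClosure
  have hYN : Y ≤ N1 := normalClosure_le_normal (N := N1) fun x hx => ⟨h.V_le_core hx, by
    rw [h.sq x hx]; exact one_mem _, fun u hu => h.commutator_V (h.core_le hu) hx⟩
  have hYS : Y ≤ S := fun y hy => h.core_le (hYN hy).1
  -- the image modulo the central involution
  set π := QuotientGroup.mk' h.Z0 with hπ
  have hπS : Function.Surjective π := QuotientGroup.mk'_surjective _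
  have hπ1 : ∀ x, π x = 1 ↔ x ∈ h.Z0 := fun x => QuotientGroup.eq_one_iff x
  have hE : Elem q (S.map π) (Y.map π) := by
    refine ⟨h.prime, h.five, ?_, h.two.map _, ?_, Normal.map hYn π hπS, ?_, ?_, π v,
      mem_map_of_mem _ (hVY hv), ?_, ?_⟩
    · obtain ⟨i, j, hij⟩ := h.card
      have hd : Nat.card (M ⧸ h.Z0) ∣ 2 ^ i * q ^ j := hij ▸ card_quotient_dvd_card _
      obtain ⟨a, b, ha, hb, e⟩ := exists_dvd_and_dvd_of_dvd_mul hd
      obtain ⟨i', -, rfl⟩ := (Nat.dvd_prime_pow Nat.prime_two).1 ha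
      obtain ⟨j', -, rfl⟩ := (Nat.dvd_prime_pow h.prime).1 hb
      exact ⟨i', j', e⟩
    · exact fun hh => h.sylow (hh.trans (index_map_dvd _ hπS))
    · rintro _ ⟨a, ha, rfl⟩ _ ⟨b, hb, rfl⟩
      rw [← mul_inv_eq_one, ← map_mul, ← map_mul, ← map_inv, ← map_mul, hπ1,
        show a * b * (b * a)⁻¹ = a * b * a⁻¹ * b⁻¹ by group]
      exact (hYN hb).2.2 a (hYN ha).1
    · rintro _ ⟨a, ha, rfl⟩
      rw [← map_mul, hπ1]
      exact (hYN ha).2.1
    · rintro _ ⟨s, hs, rfl⟩
      show π s * π v = π v * π s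
      rw [← mul_inv_eq_one, ← map_mul, ← map_mul, ← map_inv, ← map_mul, hπ1,
        show s * v * (v * s)⁻¹ = s * v * s⁻¹ * v⁻¹ by group]
      exact h.commutator_V hs hv
    · rw [map_le_iff_le_comap]
      haveI : (normalClosure ({π v} : Set (M ⧸ h.Z0))).Normal := normalClosure_normal
      refine normalClosure_le_normal fun x hx => mem_comap.2 ?_
      by_cases hx0 : x ∈ h.Z0
      · rw [(hπ1 x).2 hx0]; exact one_mem _
      have hle : h.Z0 ⊔ zpowers v ≤ h.V := sup_le inf_le_left (zpowers_le.2 hv)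
      have hVeq : h.Z0 ⊔ zpowers v = h.V := by
        refine eq_of_le_of_card_ge hle ?_
        have hd := card_dvd_of_le hle
        have hlt : h.Z0 < h.Z0 ⊔ zpowers v :=
          lt_of_le_of_ne le_sup_left fun e => hv0 (e.ge (mem_sup_right (mem_zpowers v)))
        have hne2 : Nat.card ↥(h.Z0 ⊔ zpowers v) ≠ 2 := fun e =>
          hlt.ne (eq_of_le_of_card_ge le_sup_left (by rw [h.card_Z0, e]))
        rw [h.four] at hd ⊢
        by_contra hcon
        have h3 := le_two_of_dvd_four hd fun e => hcon e.ge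
        have h4 := card_le_of_le hlt.le
        rw [h.card_Z0] at h4
        exact hne2 (le_antisymm h3 h4)
      have hxV : x ∈ h.Z0 ⊔ zpowers v := hVeq.ge hx
      have : π x ∈ (h.Z0 ⊔ zpowers v).map π := mem_map_of_mem _ hxV
      rw [Subgroup.map_sup, MonoidHom.map_zpowers, (Subgroup.map_eq_bot_iff (f := π) _).2
        (QuotientGroup.ker_mk' _).ge, bot_sup_eq] at this
      exact (zpowers_le.2 (subset_normalClosure (Set.mem_singleton (π v)))) this
  have hπeq : ∀ a b : M, π a = π b ↔ a * b⁻¹ ∈ h.Z0 := fun a b => by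
    rw [← hπ1, map_mul, map_inv, mul_inv_eq_one]
  have hVcard : Nat.card ↥(h.V.map π) ≤ 2 := by
    have h1 := relIndex_mul_relIndex ⊥ h.Z0 h.V bot_le inf_le_left
    rw [relIndex_bot_left, relIndex_bot_left, h.card_Z0, h.four] at h1
    have h2 : Nat.card ↥(h.V.map π) = h.Z0.relIndex h.V := by
      rw [← relIndex_bot_left (h.V.map π), ← relIndex_comap, MonoidHom.comap_bot, hπ,
        QuotientGroup.ker_mk']
    omega
  have hcls : ∀ w ∈ P, w ∈ Y → ∀ p ∈ P, p * w * p⁻¹ * w⁻¹ ∈ h.V := fun w hw hwY p hp =>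
    h.commutator_mem_V hw hp (h.commute_V (hYN hwY).2.1.1 hp)
  have hsqV : ∀ g, (∀ x ∈ Y, g * x * g⁻¹ * x⁻¹ ∈ h.V) → g ∈ S →
      ∀ x ∈ Y.map π, π g * π g * x * (π g * π g)⁻¹ = x := by
    rintro g hg hgS _ ⟨x, hx, rfl⟩
    rw [← map_mul, ← map_mul, ← map_inv, ← map_mul, hπeq]
    set c := g * x * g⁻¹ * x⁻¹ with hc
    rw [show g * g * x * (g * g)⁻¹ * x⁻¹ = (g * c * g⁻¹ * c⁻¹) * (c * c) by rw [hc]; group,
      h.sq c (hg x hx), mul_one]
    exact h.commutator_V hgS (hg x hx)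
  by_cases hYP : Y ≤ P
  · -- then `Y` is central in `P`
    have hYc : ∀ y ∈ Y, y ∈ centralizer (P : Set M) := fun y hy => by
      have hw : ∀ p ∈ P, y * p * y⁻¹ * p⁻¹ ∈ h.Z0 := fun p hp => by
        have hc := hE.commute_of_move_two (g := π p)
          (hsqV p (fun x hx => hcls x (hYP hx) hx p hp) (h.le hp)) (R := h.V.map π)
          (by
            rintro _ ⟨x, hx, rfl⟩
            exact ⟨_, hcls x (hYP hx) hx p hp, by simp⟩) hVcard _ (mem_map_of_mem _ hy)
        rw [← map_inv, ← map_mul, ← map_mul, hπeq] at hc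
        have := inv_mem hc
        rwa [show (p * y * p⁻¹ * y⁻¹)⁻¹ = y * p * y⁻¹ * p⁻¹ by group] at this
      obtain ⟨D, hDP, hDi, hDc⟩ := exists_kernel_le hw
        (fun c hc p hp => h.commute_V hc.1 hp) h.card_Z0.le
      exact h.central y (hYP hy) D hDP hDi hDc
    refine ⟨fun x hx g => ?_⟩
    have hxY := hYn.conj_mem x (hVY hx) g
    exact ⟨⟨hYP hxY, hYc _ hxY⟩, by
      rw [show g * x * g⁻¹ * (g * x * g⁻¹) = g * (x * x) * g⁻¹ by group, h.sq x hx]; group⟩
  exfalso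
  obtain ⟨y₀, hy₀, hy₀P⟩ := SetLike.not_le_iff_exists.1 hYP
  have hcY : ∀ p : M, p * y₀ * p⁻¹ * y₀⁻¹ ∈ Y := fun p =>
    mul_mem (hYn.conj_mem _ hy₀ p) (inv_mem hy₀)
  have hcP : ∀ p ∈ P, p * y₀ * p⁻¹ * y₀⁻¹ ∈ P := fun p hp => by
    rw [show p * y₀ * p⁻¹ * y₀⁻¹ = p * (y₀ * p⁻¹ * y₀⁻¹) by group]
    exact mul_mem hp (h.conj_mem_P (hYS hy₀) (inv_mem hp))
  -- movements modulo the central involution
  let R : M → Subgroup (M ⧸ h.Z0) := fun g => h.V.map π ⊔ zpowers (π (g * y₀ * g⁻¹ * y₀⁻¹))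
  have hVmapn : ∀ g : M, zpowers (π (g * y₀ * g⁻¹ * y₀⁻¹)) ≤
      normalizer ((h.V.map π : Subgroup (M ⧸ h.Z0)) : Set (M ⧸ h.Z0)) := fun g => by
    refine zpowers_le.2 (centralizer_le_normalizer _ (mem_centralizer_iff.2 ?_))
    rintro _ ⟨w, hw, rfl⟩
    exact hE.comm _ (mem_map_of_mem _ (hVY hw)) _ (mem_map_of_mem _ (hcY g))
  have hR4 : ∀ g : M, Nat.card (R g) ≤ 4 := fun g => by
    refine (Nat.le_of_dvd (Nat.mul_pos Nat.card_pos Nat.card_pos)
      (CfsgLib.Comp.card_sup_dvd_mul (hVmapn g))).trans ?_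
    refine le_trans (Nat.mul_le_mul hVcard ?_) (show 2 * 2 ≤ 4 by norm_num)
    rw [Nat.card_zpowers]
    exact Nat.le_of_dvd (by norm_num) (orderOf_dvd_of_pow_eq_one
      ((pow_two _).trans (hE.sq _ (mem_map_of_mem _ (hcY g)))))
  have hmove : ∀ g ∈ P, ∀ x ∈ Y, ∃ e : ℕ, ∃ w ∈ h.V, π (g * x * g⁻¹ * x⁻¹) =
      π w * π (g * y₀ * g⁻¹ * y₀⁻¹) ^ e := by
    intro g hg x hx
    by_cases hxP : x ∈ P
    · exact ⟨0, _, hcls x hxP hx g hg, by rw [pow_zero, mul_one]⟩
    · have hw : x * y₀⁻¹ ∈ P := by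
        rw [h.mem_mul (hYS hx) (inv_mem (hYS hy₀)), inv_mem_iff]
        tauto
      refine ⟨1, _, hcls _ hw (mul_mem hx (inv_mem hy₀)) g hg, ?_⟩
      set w := x * y₀⁻¹ with hwdef
      have e : x = w * y₀ := by rw [hwdef, inv_mul_cancel_right]
      rw [pow_one, ← map_mul, hπeq, e]
      set c := g * y₀ * g⁻¹ * y₀⁻¹ with hc
      rw [show g * (w * y₀) * g⁻¹ * (w * y₀)⁻¹ * (g * w * g⁻¹ * w⁻¹ * c)⁻¹ =
        (g * w * g⁻¹ * w⁻¹) * (w * c * w⁻¹ * c⁻¹) * (g * w * g⁻¹ * w⁻¹)⁻¹ by rw [hc]; group]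
      exact hZn.conj_mem _ ((hYN (hcY g)).2.2 w (hYN (mul_mem hx (inv_mem hy₀))).1) _
  have hR : ∀ g ∈ P, ∀ x ∈ Y.map π, π g * x * (π g)⁻¹ * x⁻¹ ∈ R g := by
    rintro g hg _ ⟨x, hx, rfl⟩
    obtain ⟨e, w, hw, he⟩ := hmove g hg x hx
    rw [← map_inv, ← map_inv, ← map_mul, ← map_mul, ← map_mul, he]
    exact mul_mem (mem_sup_left (mem_map_of_mem _ hw)) (mem_sup_right (pow_mem (mem_zpowers _) _))
  have hinvol : ∀ g ∈ P, ∀ x ∈ Y.map π, π g * π g * x * (π g * π g)⁻¹ = x := by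
    intro g hg
    have h2 : ∀ x ∈ Y, g * g * x * (g * g)⁻¹ * x⁻¹ ∈ h.V := by
      intro x hx
      by_cases hxP : x ∈ P
      · exact hcls x hxP hx _ (mul_mem hg hg)
      have hw : x * y₀⁻¹ ∈ P := by
        rw [h.mem_mul (hYS hx) (inv_mem (hYS hy₀)), inv_mem_iff]; tauto
      set w := x * y₀⁻¹ with hwdef
      set c := g * y₀ * g⁻¹ * y₀⁻¹ with hc
      have hgg : g * g * y₀ * (g * g)⁻¹ * y₀⁻¹ = (g * c * g⁻¹ * c⁻¹) * (c * c) := by rw [hc]; group
      have hmem : g * g * y₀ * (g * g)⁻¹ * y₀⁻¹ ∈ h.V := by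
        rw [hgg]
        exact mul_mem (hcls c (hcP g hg) (hcY g) g hg) ((inf_le_left : h.Z0 ≤ h.V) (hYN (hcY g)).2.1)
      rw [show g * g * x * (g * g)⁻¹ * x⁻¹ = (g * g * w * (g * g)⁻¹ * w⁻¹) *
        (w * (g * g * y₀ * (g * g)⁻¹ * y₀⁻¹) * w⁻¹) by rw [hwdef]; group]
      refine mul_mem (hcls w hw (mul_mem hx (inv_mem hy₀)) _ (mul_mem hg hg)) ?_
      rw [(h.commute_V hmem hw).symm.eq, mul_inv_cancel_right]
      exact hmem
    intro x hx
    have := hE.commute_of_move_two (g := π (g * g)) (hsqV _ h2 (h.le (mul_mem hg hg)))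
      (R := h.V.map π) (by
        rintro _ ⟨w, hw, rfl⟩
        exact ⟨_, h2 w hw, by simp⟩) hVcard x hx
    rwa [map_mul] at this
  set K := P ⊓ (centralizer ((Y.map π : Subgroup (M ⧸ h.Z0)) : Set (M ⧸ h.Z0))).comap π with hK
  have hmv : ∀ g ∈ P, g ∉ K → ∃ x ∈ Y.map π, π g * x * (π g)⁻¹ ≠ x := fun g hg hgK => by
    by_contra hcon
    push Not at hcon
    exact hgK ⟨hg, mem_centralizer_iff.2 fun x hx => (mul_inv_eq_iff_eq_mul.1 (hcon x hx)).symm⟩
  rcases lt_or_ge 2 (K.relIndex P) with hK3 | hK2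
  · obtain ⟨g, hg, g', hg', hgK, hg'K, hggK⟩ := exists_pair_outside (P := P) (K := K) hK3
    have hv1 : π v ≠ 1 := fun e => hv0 ((hπ1 v).1 e)
    -- `g` and `g'` commute on the module
    have hcomm : ∀ x ∈ Y.map π,
        π g * π g' * x * (π g * π g')⁻¹ = π g' * π g * x * (π g' * π g)⁻¹ := by
      intro x hx
      set c := g * g' * g⁻¹ * g'⁻¹ with hc
      have hcc : c ∈ P ⊓ centralizer (P : Set M) :=
        ⟨(mul_mem (mul_mem (mul_mem hg hg') (inv_mem hg)) (inv_mem hg') : g * g' * g⁻¹ * g'⁻¹ ∈ P),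
          by have := h.cls g hg g' hg'; rwa [commutatorElement_def] at this⟩
      have hcp : ∀ p ∈ P, Commute c p := fun p hp => (mem_centralizer_iff.1 hcc.2 p hp).symm
      -- a central element moves everything into one class
      have hmove1 : ∀ w ∈ Y.map π, π c * w * (π c)⁻¹ * w⁻¹ ∈
          zpowers (π (c * y₀ * c⁻¹ * y₀⁻¹)) := by
        rintro _ ⟨w, hw, rfl⟩
        rw [← map_inv, ← map_inv, ← map_mul, ← map_mul, ← map_mul]
        by_cases hwP : w ∈ P
        · rw [(hcp w hwP).eq, mul_inv_cancel_right, mul_inv_cancel, map_one]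
          exact one_mem _
        have hwy : w * y₀⁻¹ ∈ P := by
          rw [h.mem_mul (hYS hw) (inv_mem (hYS hy₀)), inv_mem_iff]; tauto
        set w' := w * y₀⁻¹ with hw'
        set e := c * y₀ * c⁻¹ * y₀⁻¹ with he
        have h1 : y₀⁻¹ * w' * y₀ ∈ P := by simpa using h.conj_mem_P (inv_mem (hYS hy₀)) hwy
        have hew : Commute e w' := by
          have h2 : Commute (y₀ * c⁻¹ * y₀⁻¹) w' := by
            have := (hcp _ h1).inv_left.map (MulAut.conj y₀).toMonoidHom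
            simpa [mul_assoc] using this
          rw [he, show c * y₀ * c⁻¹ * y₀⁻¹ = c * (y₀ * c⁻¹ * y₀⁻¹) by group]
          exact (hcp w' hwy).mul_left h2
        have e1 : c * w * c⁻¹ * w⁻¹ = e := by
          calc c * w * c⁻¹ * w⁻¹ = c * w' * c⁻¹ * e * w'⁻¹ := by rw [hw', he]; group
            _ = e := by
                rw [(hcp w' hwy).eq, mul_inv_cancel_right, ← hew.eq, mul_inv_cancel_right]
        rw [e1]
        exact mem_zpowers _
      have hc2 : Nat.card ↥(zpowers (π (c * y₀ * c⁻¹ * y₀⁻¹))) ≤ 2 := by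
        rw [Nat.card_zpowers]
        exact Nat.le_of_dvd (by norm_num) (orderOf_dvd_of_pow_eq_one
          ((pow_two _).trans (hE.sq _ (mem_map_of_mem _ (hcY c)))))
      have hx' : π g' * π g * x * (π g' * π g)⁻¹ ∈ Y.map π := hE.normal.conj_mem x hx _
      calc π g * π g' * x * (π g * π g')⁻¹
          = π c * (π g' * π g * x * (π g' * π g)⁻¹) * (π c)⁻¹ := by
            rw [hc]; simp only [map_mul, map_inv]; group
        _ = π g' * π g * x * (π g' * π g)⁻¹ :=
            hE.commute_of_move_two (hinvol c hcc.1) hmove1 hc2 _ hx'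
    classical
    let R' : M ⧸ h.Z0 → Subgroup (M ⧸ h.Z0) := fun c =>
      if c = π g then R g else if c = π g' then R g' else R (g * g')
    refine hE.no_four (hinvol g hg) (hinvol g' hg') hcomm (R := R') hv1 (mem_map_of_mem _ (hVY hv))
      fun c hc => ?_
    obtain ⟨e, he, heK, hce, hRe⟩ : ∃ e, e ∈ P ∧ e ∉ K ∧ c = π e ∧ R' c = R e := by
      by_cases h1 : c = π g
      · exact ⟨g, hg, hgK, h1, if_pos h1⟩
      by_cases h2 : c = π g'
      · exact ⟨g', hg', hg'K, h2, (if_neg h1).trans (if_pos h2)⟩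
      refine ⟨g * g', mul_mem hg hg', hggK, ?_, (if_neg h1).trans (if_neg h2)⟩
      rcases hc with rfl | rfl | rfl
      exacts [absurd rfl h1, absurd rfl h2, (map_mul _ _ _).symm]
    subst hce
    rw [hRe]
    exact ⟨hR e he, hR4 e, mem_sup_left (mem_map_of_mem _ hv), hmv e he heK⟩
  obtain ⟨hne, h16⟩ := h.spread y₀ (hYS hy₀) hy₀P K inf_le_left hK2 fun d hd => by
    have h1 := mem_centralizer_iff.1 (mem_comap.1 hd.2) _ (mem_map_of_mem π (inv_mem hy₀))
    rw [← map_mul, ← map_mul, hπeq] at h1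
    have hmem : d⁻¹ * (y₀ * d * y₀⁻¹) = d⁻¹ * (y₀ * (d * y₀⁻¹ * (y₀⁻¹ * d)⁻¹) * y₀⁻¹) * d := by
      group
    rw [hmem]
    refine (inf_le_left : h.Z0 ≤ h.V) ?_
    have h2 := hZn.conj_mem _ (hZn.conj_mem _ (inv_mem h1) y₀) d⁻¹
    rw [inv_inv] at h2
    convert h2 using 1
    group
  obtain ⟨g, hg, hgK⟩ : ∃ g ∈ P, g ∉ K := SetLike.not_le_iff_exists.1 fun hle =>
    hne (le_antisymm inf_le_left hle)
  obtain ⟨x₀, hx₀, hx₀g⟩ := hmv g hg hgK
  have hN16 : 16 ≤ Nat.card ↥(Y.map π) := hE.sixteen_le (hinvol g hg) (hR g hg) (hR4 g) hx₀ hx₀g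
  -- so `Y` is all of `S`, and acts trivially on its abelian image
  have hS32 : Nat.card S ≤ 32 := by
    have h1 := relIndex_mul_relIndex ⊥ P S bot_le h.le
    rw [relIndex_bot_left, relIndex_bot_left, h.index] at h1
    omega
  have hY32 : 32 ≤ Nat.card Y := by
    have h0 : h.Z0 ≤ Y := inf_le_left.trans hVY
    have h1 := relIndex_mul_relIndex ⊥ h.Z0 Y bot_le h0
    rw [relIndex_bot_left, relIndex_bot_left, h.card_Z0] at h1
    have h2 : Nat.card ↥(Y.map π) = h.Z0.relIndex Y := by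
      rw [← relIndex_bot_left (Y.map π), ← relIndex_comap, MonoidHom.comap_bot, hπ,
        QuotientGroup.ker_mk']
    omega
  have hYeq : Y = S := eq_of_le_of_card_ge hYS (hS32.trans hY32)
  refine hx₀g ?_
  rw [hE.comm _ (mem_map_of_mem _ (hYeq.ge (h.le hg))) _ hx₀, mul_inv_cancel_right]

/-- **The centre is normal.** -/
theorem normal (h : ModHyp q S P) : h.V.Normal := by
  haveI := Fact.mk Nat.prime_two
  set U := Cfsg.pCore 2 M with hU
  haveI hUn : U.Normal := Cfsg.pCore_normal 2 M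
  obtain ⟨t₀, ht₀, ht₀P⟩ := h.exists_outer
  have hZ2 := h.card_Z0
  obtain ⟨z, hz, hz1⟩ := h.Z0.bot_or_exists_ne_one.resolve_left fun e => by
    rw [e, card_bot] at hZ2; norm_num at hZ2
  have hzS : ∀ s ∈ S, Commute s z := fun s hs => mem_centralizer_iff.1 hz.2 s hs
  have hzU : z ∈ U := h.V_le_core hz.1
  have hzmem : ∀ x ∈ h.Z0, x = 1 ∨ x = z := by
    intro x hx
    by_contra hcon
    push Not at hcon
    have h3 : ({1, x, z} : Set M).ncard = 3 :=
      Set.ncard_eq_three.2 ⟨1, x, z, Ne.symm hcon.1, Ne.symm hz1, hcon.2, rfl⟩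
    have h4 : ({1, x, z} : Set M).ncard ≤ (h.Z0 : Set M).ncard :=
      Set.ncard_le_ncard (by
        rintro w (rfl | rfl | rfl)
        exacts [one_mem _, hx, hz]) (Set.toFinite _)
    rw [h3, ← Nat.card_coe_set_eq] at h4
    exact absurd (h4.trans hZ2.le) (by norm_num)
  have hcentralU : ∀ u ∈ U, Commute u z := fun u hu => hzS u (h.core_le hu)
  -- the closure of `z`
  set X := normalClosure ({z} : Set M) with hX
  haveI hXn : X.Normal := normalClosure_normal
  have hzX : z ∈ X := subset_normalClosure rfl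
  let N0 : Subgroup M :=
    { carrier := {x | x ∈ U ∧ (∀ u ∈ U, Commute u x) ∧ x * x = 1}
      one_mem' := ⟨one_mem _, fun u _ => Commute.one_right u, one_mul 1⟩
      mul_mem' := fun {a b} ha hb => ⟨mul_mem ha.1 hb.1, fun u hu => (ha.2.1 u hu).mul_right
        (hb.2.1 u hu), by rw [(hb.2.1 a ha.1).symm.mul_mul_mul_comm, ha.2.2, hb.2.2, one_mul]⟩
      inv_mem' := fun {a} ha => by
        rw [Set.mem_ofPred_eq, inv_eq_of_mul_eq_one_right ha.2.2]; exact ha }
  have hN0 : N0.Normal := ⟨fun x hx g => ⟨hUn.conj_mem x hx.1 g, fun u hu => by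
    have hu' : g⁻¹ * u * g ∈ U := by simpa using hUn.conj_mem u hu g⁻¹
    have := (hx.2.1 _ hu').map (MulAut.conj g).toMonoidHom
    simpa [mul_assoc] using this, by
    rw [show g * x * g⁻¹ * (g * x * g⁻¹) = g * (x * x) * g⁻¹ by group, hx.2.2]; group⟩⟩
  have hXN : X ≤ N0 := normalClosure_le_normal (N := N0)
    (Set.singleton_subset_iff.2 ⟨hzU, hcentralU, h.sq z hz.1⟩)
  have hXcomm : ∀ a ∈ X, ∀ b ∈ X, Commute a b := fun a ha b hb => (hXN hb).2.1 a (hXN ha).1
  have hXS : X ≤ S := fun x hx => h.core_le (hXN hx).1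
  have hcomX : ∀ w ∈ X, ∀ p, w * p * w⁻¹ * p⁻¹ ∈ X := fun w hw p => by
    rw [show w * p * w⁻¹ * p⁻¹ = w * (p * w⁻¹ * p⁻¹) by group]
    exact mul_mem hw (hXn.conj_mem _ (inv_mem hw) p)
  have hcomP : ∀ w ∈ X, w ∈ P → ∀ p ∈ P, p * w * p⁻¹ * w⁻¹ ∈ h.V := fun w hwX hw p hp =>
    h.commutator_mem_V hw hp (by rw [(hXN hwX).2.2]; exact Commute.one_left p)
  by_cases hXP : X ≤ P
  swap
  · -- `z` would be central
    exfalso
    obtain ⟨y, hy, hyP⟩ := SetLike.not_le_iff_exists.1 hXP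
    have hsmall : ∀ w ∈ X ⊓ P, w ∈ h.Z0 := by
      rintro w ⟨hw, hwP⟩
      obtain ⟨D, hDP, hDi, hDc⟩ := exists_kernel_le (P := P) (w := w) (Z := h.Z0)
        (fun p hp => h.mem_Z0_of_fixed (hXS hy) hyP (by
            have := inv_mem (hcomP w hw hwP p hp)
            rwa [show (p * w * p⁻¹ * w⁻¹)⁻¹ = w * p * w⁻¹ * p⁻¹ by group] at this)
          (hXcomm y hy _ (hcomX w hw p)))
        (fun x hx p hp => h.commute_V hx.1 hp) hZ2.le
      exact h.mem_Z0_of_fixed (hXS hy) hyP ⟨⟨hwP, h.central w hwP D hDP hDi hDc⟩, (hXN hw).2.2⟩ (hXcomm y hy w hw)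
    have hX4 : Nat.card X ≤ 4 := by
      have h1 := relIndex_mul_relIndex ⊥ (X ⊓ P) X bot_le inf_le_left
      rw [relIndex_bot_left, relIndex_bot_left, inf_relIndex_left] at h1
      rw [← h1]
      refine le_trans (Nat.mul_le_mul ((card_le_of_le hsmall).trans hZ2.le) ?_)
        (show 2 * 2 ≤ 4 by norm_num)
      refine le_trans (relIndex_le_of_le_right hXS ?_) h.index.le
      exact index_ne_zero_of_finite
    -- the orbit is small
    have hzc : ∀ m : M, m * z * m⁻¹ = z := by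
      set C := centralizer ({z} : Set M) with hC
      obtain ⟨i, j, hij⟩ := h.card
      have hSC : S ≤ C := fun s hs => mem_centralizer_singleton_iff.2 (hzS s hs).eq
      have hlt : C.index < 4 := by
        let φ : M ⧸ C → {x : X // x ≠ 1} := fun c =>
          ⟨⟨c.out * z * c.out⁻¹, hXn.conj_mem z hzX _⟩, fun e => hz1 (by
            have e' : c.out * z * c.out⁻¹ = 1 := congrArg Subtype.val e
            rwa [conj_eq_one_iff] at e')⟩
        have hinj : Function.Injective φ := fun a b e => by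
          have e' : a.out * z * a.out⁻¹ = b.out * z * b.out⁻¹ :=
            congrArg (fun x : {x : X // x ≠ 1} => ((x : X) : M)) e
          rw [← QuotientGroup.out_eq' a, ← QuotientGroup.out_eq' b, QuotientGroup.eq]
          refine mem_centralizer_singleton_iff.2 ?_
          calc a.out⁻¹ * b.out * z = a.out⁻¹ * (b.out * z * b.out⁻¹) * b.out := by group
            _ = z * (a.out⁻¹ * b.out) := by rw [← e']; group
        let ψ : Option (M ⧸ C) → X := fun o => o.elim 1 fun c => (φ c).1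
        have hψ : Function.Injective ψ := by
          rintro (_ | a) (_ | b) e
          · rfl
          · exact absurd e.symm (φ b).2
          · exact absurd e (φ a).2
          · exact congrArg some (hinj (Subtype.ext e))
        have h1 := Nat.card_le_card_of_injective ψ hψ
        rw [Finite.card_option] at h1
        rw [index_eq_card]
        omega
      have h2 : ¬ 2 ∣ C.index := fun hh => h.sylow (hh.trans (index_dvd_of_le hSC))
      have hd : C.index ∣ q ^ j := by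
        have := C.index_dvd_card
        rw [hij] at this
        exact (Nat.Coprime.pow_right i ((Nat.prime_two.coprime_iff_not_dvd.2 h2).symm))
          |>.dvd_of_dvd_mul_left this
      obtain ⟨e, -, he⟩ := (Nat.dvd_prime_pow h.prime).1 hd
      have : C = ⊤ := index_eq_one.1 (by
        rcases e with _ | e
        · simpa using he
        · have := Nat.le_self_pow (n := e + 1) (by omega) q
          have := h.five
          omega)
      intro m
      have hm : m ∈ C := by rw [this]; exact mem_top m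
      rw [(show Commute m z from mem_centralizer_singleton_iff.1 hm).eq,
        mul_inv_cancel_right]
    refine hyP ?_
    haveI : h.Z0.Normal := ⟨fun x hx m => by
      rcases hzmem x hx with rfl | rfl
      · simp
      · rw [hzc]; exact hz⟩
    have hle : X ≤ h.Z0 := normalClosure_le_normal (N := h.Z0) (Set.singleton_subset_iff.2 hz)
    exact (hle hy).1.1.1
  by_cases hXcent : ∀ p ∈ P, ∀ x ∈ X, Commute p x
  swap
  · -- two involutions with range `V`
    exfalso
    have hV : ∀ p ∈ P, ∀ x ∈ X, p * x * p⁻¹ * x⁻¹ ∈ h.V := fun p hp x hx => hcomP x hx (hXP hx) p hp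
    have hE : Elem q S X := ⟨h.prime, h.five, h.card, h.two, h.sylow, hXn,
      fun a ha b hb => (hXcomm a ha b hb).eq, fun a ha => (hXN ha).2.2, z, hzX, hzS, le_rfl⟩
    have hall : ∀ x ∈ X, (∀ p ∈ P, p * x * p⁻¹ * x⁻¹ ∈ h.Z0) → ∀ p ∈ P, Commute p x := by
      intro x hx hx2 p hp
      obtain ⟨D, hDP, hDi, hDc⟩ := exists_kernel_le (P := P) (w := x) (Z := h.Z0) (fun p hp => by
          have := inv_mem (hx2 p hp)
          rwa [show (p * x * p⁻¹ * x⁻¹)⁻¹ = x * p * x⁻¹ * p⁻¹ by group] at this)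
        (fun c hc p hp => h.commute_V hc.1 hp) hZ2.le
      exact mem_centralizer_iff.1 (h.central x (hXP hx) D hDP hDi hDc) p hp
    have hVX : h.V ≤ X := by
      by_contra hcon
      refine hXcent fun p hp x hx => hall x hx (fun p hp => ?_) p hp
      have hmem : p * x * p⁻¹ * x⁻¹ ∈ X ⊓ h.V :=
        ⟨(mul_mem (hXn.conj_mem x hx p) (inv_mem hx) : p * x * p⁻¹ * x⁻¹ ∈ X), hV p hp x hx⟩
      have hle : h.Z0 ≤ X ⊓ h.V := fun c hc => by
        rcases hzmem c hc with rfl | rfl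
        · exact one_mem _
        · exact ⟨hzX, hz.1⟩
      rwa [← eq_of_le_of_card_ge hle ?_] at hmem
      have hd := card_dvd_of_le (inf_le_right : X ⊓ h.V ≤ h.V)
      rw [h.four] at hd
      have hne : Nat.card ↥(X ⊓ h.V) ≠ 4 := fun e => hcon
        ((eq_of_le_of_card_ge inf_le_right (by rw [h.four, e])).ge.trans inf_le_left)
      exact (le_two_of_dvd_four hd hne).trans hZ2.ge
    set K := P ⊓ centralizer (X : Set M) with hK
    have hK3 : 2 < K.relIndex P := by
      by_contra hcon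
      push Not at hcon
      refine hXcent fun p hp x hx => ?_
      exact mem_centralizer_iff.1 (h.central x (hXP hx) K inf_le_left hcon fun d hd =>
        (mem_centralizer_iff.1 hd.2 x hx)) p hp
    obtain ⟨g, hg, g', hg', hgK, hg'K, hggK⟩ := exists_pair_outside (P := P) (K := K) hK3
    have hsq : ∀ g ∈ P, ∀ x ∈ X, g * g * x * (g * g)⁻¹ = x := by
      intro g hg x hx
      have hc := hV g hg x hx
      calc g * g * x * (g * g)⁻¹ = (g * (g * x * g⁻¹ * x⁻¹) * g⁻¹) * (g * x * g⁻¹ * x⁻¹) * x := by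
            group
        _ = x := by
          rw [(h.commute_V hc hg).symm.eq, mul_inv_cancel_right, h.sq _ hc, one_mul]
    have hmv : ∀ c ∈ P, c ∉ K → ∃ x ∈ X, c * x * c⁻¹ ≠ x := fun c hc hcK => by
      by_contra hcon
      push Not at hcon
      exact hcK ⟨hc, mem_centralizer_iff.2 fun x hx => (mul_inv_eq_iff_eq_mul.1 (hcon x hx)).symm⟩
    refine hE.no_four (hsq g hg) (hsq g' hg') ?_ (R := fun _ => h.V) hz1 hzX ?_
    · intro x hx
      have hc : g * g' * g⁻¹ * g'⁻¹ ∈ centralizer (P : Set M) := by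
        have := h.cls g hg g' hg'
        rwa [commutatorElement_def] at this
      have hx' := hXn.conj_mem x hx (g' * g)
      calc g * g' * x * (g * g')⁻¹
          = (g * g' * g⁻¹ * g'⁻¹) * (g' * g * x * (g' * g)⁻¹) * (g * g' * g⁻¹ * g'⁻¹)⁻¹ := by group
        _ = g' * g * x * (g' * g)⁻¹ := by
          rw [← mem_centralizer_iff.1 hc _ (hXP hx'), mul_inv_cancel_right]
    · intro c hc
      have hcP : c ∈ P ∧ c ∉ K := by
        rcases hc with rfl | rfl | rfl
        exacts [⟨hg, hgK⟩, ⟨hg', hg'K⟩, ⟨mul_mem hg hg', hggK⟩]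
      exact ⟨hV c hcP.1, h.four.le, hz.1, hmv c hcP.1 hcP.2⟩
  -- now `X` lies in `V`
  have hXV : X ≤ h.V := fun x hx =>
    ⟨⟨hXP hx, mem_centralizer_iff.2 fun p hp => (hXcent p hp x hx).eq⟩, (hXN hx).2.2⟩
  by_cases hXeq : X = h.V
  · exact hXeq ▸ hXn
  have hX0 : X = h.Z0 := by
    have hlt := lt_of_le_of_ne hXV hXeq
    have hle : h.Z0 ≤ X := fun c hc => by
      rcases hzmem c hc with rfl | rfl
      exacts [one_mem _, hzX]
    refine (eq_of_le_of_card_ge hle ?_).symm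
    have hd := card_dvd_of_le hXV
    have hne : Nat.card X ≠ 4 := fun e => hXeq (eq_of_le_of_card_ge hXV (by rw [h.four, e]))
    rw [h.four] at hd
    exact (le_two_of_dvd_four hd hne).trans hZ2.ge
  haveI hZn : h.Z0.Normal := hX0 ▸ hXn
  exact h.normal_of_central

end ModHyp

end CfsgLib.InvChar.SecNineOpen
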