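import Cfsg.Agent.Lib.Comp.Local
import Cfsg.Agent.Lib.Comp.PComponent
import Cfsg.Agent.S2753
import Cfsg.Agent.Lib.PLocal.SFourFactor
import Cfsg.Agent.Lib.InvChar.SecNineOpen.Frame
import Cfsg.Agent.Lib.InvChar.SecNineOpen.Module

/-!
# A `{2, q}`-subgroup containing a Sylow two-subgroup is that subgroup

Modulo its largest normal `q`-subgroup this is Glauberman's factorisation, or the module lemma
when the centre of `P` has only four elements of square one; the `q`-part is then a Sylow subgroup.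
-/

set_option autoImplicit false
set_option linter.unusedSectionVars false
set_option linter.style.haveILetI false

namespace CfsgLib.InvChar.SecNineOpen

open Subgroup CfsgLib.PLocal CfsgLib.PLocal.SFourW
open scoped commutatorElement

universe u

variable {G : Type u} [Group G] [Finite G] {q : ℕ}

/-- A group of order prime to three does not involve the symmetric group of degree four. -/
theorem not_involves_four {M : Type u} [Group M] [Finite M] (h : ¬ 3 ∣ Nat.card M) :
    ¬ Cfsg.Involves (Equiv.Perm (Fin 4)) M := by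
  rintro ⟨K, R, hR, ⟨e⟩⟩
  haveI := hR
  refine h ?_
  have h1 : Nat.card (K ⧸ R.subgroupOf K) = 24 := by
    rw [Nat.card_congr e.toEquiv, Nat.card_perm, Nat.card_fin]; rfl
  have h2 := ((R.subgroupOf K).card_quotient_dvd_card).trans (card_subgroup_dvd_card K)
  rw [h1] at h2
  exact (by norm_num : 3 ∣ 24).trans h2

theorem compositionK_of_solvable {M : Type u} [Group M] [Group.IsSolvable M]
    (K : ∀ (X : Type u) [Group X], Prop) : Cfsg.IsCompositionKGroupWith K M := by
  intro H _ N _ hs hnc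
  exfalso
  haveI := hs
  haveI : Group.IsSolvable (H ⧸ N) := Group.isSolvable_of_surjective (QuotientGroup.mk'_surjective N)
  exact hnc ⟨⟨fun a b => IsSimpleGroup.comm_iff_isSolvable.2 inferInstance a b⟩⟩

/-- A commutation of a construction with maps injective on a subgroup. -/
theorem map_eq_of_injOn (F : ∀ {H : Type u} [Group H], Subgroup H → Subgroup H)
    (hF : ∀ {H H' : Type u} [Group H] [Group H'] (f : H →* H'), Function.Injective f →
      ∀ U : Subgroup H, (F U).map f = F (U.map f))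
    {M N : Type u} [Group M] [Group N] (π : M →* N) {U : Subgroup M}
    (hinj : Function.Injective (π.comp U.subtype)) : F (U.map π) = (F U).map π := by
  have h1 := hF U.subtype U.subtype_injective ⊤
  have h2 := hF (π.comp U.subtype) hinj ⊤
  rw [← MonoidHom.range_eq_map, range_subtype] at h1
  rw [← Subgroup.map_map, ← Subgroup.map_map, ← MonoidHom.range_eq_map, range_subtype, h1] at h2
  exact h2.symm

namespace Big

variable {k : G} {T : Sylow 2 G} {P : Subgroup G}

/-- The image of what normalises an invariant subgroup is the image of `T`. -/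
theorem normalizer_le_image (B : Big q k T P) {M : Subgroup G} (hTM : (T : Subgroup G) ≤ M)
    (hM3 : ¬ 3 ∣ Nat.card M) {O : Subgroup M} [O.Normal] (hO : (Nat.card O).Coprime 2)
    {X : Subgroup G} (hXT : X ≤ (T : Subgroup G)) (hX1 : X ≠ ⊥)
    (hkX : k ∈ normalizer (X : Set G)) (hTX : (T : Subgroup G) ≤ normalizer (X : Set G)) :
    normalizer (((X.subgroupOf M).map (QuotientGroup.mk' O) : Subgroup (M ⧸ O)) : Set (M ⧸ O)) ≤
      ((T : Subgroup G).subgroupOf M).map (QuotientGroup.mk' O) := by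
  haveI := Fact.mk Nat.prime_two
  have hX2 : IsPGroup 2 X := T.isPGroup'.to_le hXT
  rw [← CfsgLib.Comp.map_normalizer_eq hO (hX2.of_equiv (subgroupOfEquivOfLe (hXT.trans hTM)).symm)]
  refine map_mono fun m hm => ?_
  have hL := B.local_two hX2 hX1 hkX (L := M ⊓ normalizer (X : Set G)) (le_inf hTM hTX) inf_le_right
    fun h => hM3 (h.trans (card_dvd_of_le inf_le_left))
  refine mem_subgroupOf.2 (hL.le ⟨m.2, mem_normalizer_of_conj_mem fun x hx => ?_⟩)
  exact (mem_normalizer_iff.1 hm ⟨x, (hXT.trans hTM) hx⟩).1 hx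

/-- With only four central elements of square one, they form a normal subgroup modulo the odd core. -/
theorem quotient_small (B : Big q k T P) (hPT : (T : Subgroup G) ≠ P) {M : Subgroup G}
    (hTM : (T : Subgroup G) ≤ M) (hM3 : ¬ 3 ∣ Nat.card M) {O : Subgroup M} [O.Normal]
    (hO : (Nat.card O).Coprime 2) (h4 : Nat.card (omegaCentre P) = 4)
    (hinj : Function.Injective ((QuotientGroup.mk' O).comp ((T : Subgroup G).subgroupOf M).subtype))
    (hchar : centralizer (Cfsg.pCore 2 (M ⧸ O) : Set (M ⧸ O)) ≤ Cfsg.pCore 2 (M ⧸ O))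
    (hsyl : ¬ 2 ∣ (((T : Subgroup G).subgroupOf M).map (QuotientGroup.mk' O)).index) :
    ⊤ ≤ ((T : Subgroup G).subgroupOf M).map (QuotientGroup.mk' O) := by
  set T₀ := (T : Subgroup G).subgroupOf M with hT₀
  set π := QuotientGroup.mk' O
  set P₀ := P.subgroupOf M with hP₀
  have hPM := B.le.trans hTM
  have hi : P.relIndex (T : Subgroup G) = 2 := (B.shape.resolve_left hPT).1
  have hmem : ∀ {a b : M}, a ∈ T₀ → b ∈ T₀ → π a = π b → a = b := fun {a b} ha hb e =>
    congrArg Subtype.val (hinj (a₁ := ⟨a, ha⟩) (a₂ := ⟨b, hb⟩) e)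
  have hPT₀ : P₀ ≤ T₀ := fun x hx => B.le hx
  -- central elements upstairs and downstairs
  have hcen : ∀ a ∈ P₀, π a ∈ centralizer ((P₀.map π : Subgroup (M ⧸ O)) : Set (M ⧸ O)) ↔
      (a : G) ∈ centralizer (P : Set G) := by
    intro a ha
    constructor
    · intro h
      refine mem_centralizer_iff.2 fun p hp => ?_
      have h1 := mem_centralizer_iff.1 h _ (mem_map_of_mem π (show (⟨p, hPM hp⟩ : M) ∈ P₀ from hp))
      rw [← map_mul, ← map_mul] at h1
      exact congrArg Subtype.val (hmem (mul_mem (hPT₀ hp) (hPT₀ ha)) (mul_mem (hPT₀ ha) (hPT₀ hp)) h1)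
    · intro h
      refine mem_centralizer_iff.2 ?_
      rintro _ ⟨p, hp, rfl⟩
      rw [← map_mul, ← map_mul]
      exact congrArg π (Subtype.ext (mem_centralizer_iff.1 h p hp))
  have hΩ : omegaCentre (P₀.map π) = ((omegaCentre P).subgroupOf M).map π := by
    refine le_antisymm ?_ ?_
    · rintro x ⟨⟨hx, hxc⟩, hx2⟩
      obtain ⟨a, ha, rfl⟩ := hx
      refine mem_map_of_mem π ⟨⟨ha, (hcen a ha).1 hxc⟩, ?_⟩
      rw [← map_mul, ← map_one π] at hx2
      exact congrArg Subtype.val (hmem (mul_mem (hPT₀ ha) (hPT₀ ha)) (one_mem _) hx2)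
    · rintro _ ⟨a, ha, rfl⟩
      refine ⟨⟨mem_map_of_mem π ha.1.1, (hcen a ha.1.1).2 ha.1.2⟩, ?_⟩
      rw [← map_mul, ← map_one π]
      exact congrArg π (Subtype.ext ha.2)
  have hΩc : Nat.card (omegaCentre (P₀.map π)) = 4 := by
    rw [hΩ, ← h4, ← Nat.card_congr (subgroupOfEquivOfLe
      ((omegaCentre_le P).trans (inf_le_left.trans hPM))).toEquiv]
    rw [← SetLike.coe_sort_coe, Subgroup.coe_map]
    exact Nat.card_image_of_injOn fun a ha b hb e => hmem (hPT₀ ha.1.1) (hPT₀ hb.1.1) e
  have hnormal : (omegaCentre (P₀.map π)).Normal := by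
    refine ModHyp.normal (q := q) (S := T₀.map π) ?_
    obtain ⟨i, j, hij⟩ := B.setup.card_two_q hM3
    have hd : Nat.card (M ⧸ O) ∣ 2 ^ i * q ^ j := hij ▸ card_quotient_dvd_card O
    obtain ⟨u, v, hu, hv, e⟩ := exists_dvd_and_dvd_of_dvd_mul hd
    obtain ⟨i', -, rfl⟩ := (Nat.dvd_prime_pow Nat.prime_two).1 hu
    obtain ⟨j', -, rfl⟩ := (Nat.dvd_prime_pow B.setup.prime).1 hv
    have hback : ∀ D : Subgroup (M ⧸ O), D ≤ P₀.map π → D.relIndex (P₀.map π) ≤ 2 →
        ∃ D' : Subgroup G, D' ≤ P ∧ D'.relIndex P ≤ 2 ∧ (D = P₀.map π → ∀ x ∈ P, x ∈ D') ∧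
          (D' = P → D = P₀.map π) ∧
          ∀ d ∈ D', ∃ h : d ∈ M, π ⟨d, h⟩ ∈ D := by
      intro D hD hDi
      refine ⟨(D.comap π ⊓ P₀).map M.subtype, ?_, ?_, ?_, ?_, ?_⟩
      · rintro _ ⟨x, hx, rfl⟩; exact hx.2
      · have e0 : P = P₀.map M.subtype := (map_subgroupOf_eq_of_le hPM).symm
        conv_lhs => rw [e0]
        rw [relIndex_map_map_of_injective _ _ M.subtype_injective, inf_relIndex_right,
          relIndex_comap]
        exact hDi
      · intro hDe x hx
        exact ⟨⟨x, hPM hx⟩, ⟨mem_comap.2 (hDe.symm ▸ mem_map_of_mem π hx), hx⟩, rfl⟩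
      · intro he
        refine le_antisymm hD ?_
        rintro _ ⟨p, hp, rfl⟩
        obtain ⟨y, hy, hye⟩ := he.ge (show (p : G) ∈ P from hp)
        exact Subtype.ext hye ▸ hy.1
      · rintro _ ⟨x, hx, rfl⟩; exact ⟨x.2, hx.1⟩
    refine ⟨B.setup.prime, B.setup.five, ⟨i', j', e⟩, hchar,
      (T.isPGroup'.of_equiv (subgroupOfEquivOfLe hTM).symm).map π, hsyl, map_mono hPT₀, ?_, hΩc,
      ?_, ?_, ?_, ?_⟩
    · have h1 := relIndex_comap (P₀.map π) π T₀
      rw [comap_map_eq] at h1
      rw [← h1, ← inf_relIndex_right]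
      have h2 : (P₀ ⊔ π.ker) ⊓ T₀ = P₀ := by
        refine le_antisymm (fun x hx => ?_) (le_inf le_sup_left hPT₀)
        obtain ⟨hx1, hx2⟩ := hx
        rw [← comap_map_eq] at hx1
        obtain ⟨y, hy, hye⟩ := hx1
        exact hmem (hPT₀ hy) hx2 hye ▸ hy
      rw [h2, hP₀, hT₀, relIndex_subgroupOf hTM]
      exact hi
    · rintro _ ⟨a, ha, rfl⟩ _ ⟨b, hb, rfl⟩
      have hab : (⁅(a : G), (b : G)⁆) ∈ P ∧ ⁅(a : G), (b : G)⁆ ∈ centralizer (P : Set G) := by
        refine ⟨?_, mem_centralizer_iff.2 fun c hc => (B.cubic.class_two ha hb hc).eq.symm⟩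
        rw [commutatorElement_def]
        exact mul_mem (mul_mem (mul_mem ha hb) (inv_mem ha)) (inv_mem hb)
      rw [← map_commutatorElement]
      exact (hcen ⁅a, b⁆ hab.1).2 hab.2
    · rintro _ ⟨a, ha, rfl⟩ D hD hDi hc
      obtain ⟨D', hD'P, hD'i, -, -, hD'⟩ := hback D hD hDi
      refine (hcen a ha).2 (mem_centralizer_iff.2 fun p hp => ?_)
      refine (B.cubic.central_of_relIndex_le_two hD'P hD'i ha (fun d hd => ?_) p hp).eq.symm
      obtain ⟨hdM, hdD⟩ := hD' d hd
      have h1 := (hc _ hdD).eq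
      rw [← map_mul, ← map_mul] at h1
      exact congrArg Subtype.val (hmem (mul_mem (hPT₀ ha) (hPT₀ (hD'P hd)))
        (mul_mem (hPT₀ (hD'P hd)) (hPT₀ ha)) h1)
    · rintro _ ⟨t, ht, rfl⟩ htP
      have htP' : (t : G) ∉ P := fun h => htP (mem_map_of_mem π h)
      by_contra hcon
      push Not at hcon
      have h16 := B.card_fixed_sq ht htP' (omegaCentre_le P) B.k_norm_omegaCentre le_rfl ?_
      · rw [h4] at h16; norm_num at h16
      intro z hz
      have hzM : z ∈ M := hPM hz.1.1
      have hz' : π ⟨z, hzM⟩ ∈ omegaCentre (P₀.map π) := hΩ.ge (mem_map_of_mem π hz)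
      have h1 := mul_inv_eq_iff_eq_mul.1 (hcon _ hz')
      rw [← map_mul, ← map_mul] at h1
      exact congrArg Subtype.val (hmem (mul_mem ht (B.le hz.1.1)) (mul_mem (B.le hz.1.1) ht) h1)
    · rintro _ ⟨t, ht, rfl⟩ htP D hD hDi hc
      have htP' : (t : G) ∉ P := fun h => htP (mem_map_of_mem π h)
      obtain ⟨D', hD'P, hD'i, hfull, hfull', hD'⟩ := hback D hD hDi
      have hm : ∀ d ∈ D', d⁻¹ * ((t : G) * d * (t : G)⁻¹) ∈ omegaCentre P := fun d hd => by
        obtain ⟨hdM, hdD⟩ := hD' d hd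
        have h1 := hΩ.le (hc _ hdD)
        obtain ⟨z, hz, hze⟩ := h1
        rw [← map_inv, ← map_inv, ← map_mul, ← map_mul, ← map_mul] at hze
        have h2 : d ∈ (T : Subgroup G) := B.le (hD'P hd)
        have e1 := hmem (hPT₀ hz.1.1)
          (mul_mem (inv_mem (show (⟨d, hdM⟩ : M) ∈ T₀ from h2))
            (mul_mem (mul_mem ht h2) (inv_mem ht))) hze
        rw [e1] at hz
        exact hz
      obtain ⟨hne, h16⟩ := B.spread_omega h4 ht htP' hD'P hD'i hm
      refine ⟨fun he => hne (le_antisymm hD'P (hfull he)), le_trans ?_ h16⟩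
      rw [← Nat.card_congr (subgroupOfEquivOfLe hPM).toEquiv]
      exact Nat.le_of_dvd Nat.card_pos (card_map_dvd P₀ π)
  -- so the normaliser is everything
  intro g _
  refine B.normalizer_le_image hTM hM3 hO (X := omegaCentre P)
    ((omegaCentre_le P).trans (inf_le_left.trans B.le)) (omegaCentre_ne_bot B.max.two B.max.ne)
    B.k_norm_omegaCentre B.T_norm_omegaCentre ?_
  rw [← hΩ, normalizer_eq_top_iff.2 hnormal]
  exact mem_top g

/-- Modulo a normal `q`-subgroup only `T` remains. -/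
theorem quotient_two (B : Big q k T P) {M : Subgroup G} (hTM : (T : Subgroup G) ≤ M)
    (hM3 : ¬ 3 ∣ Nat.card M) :
    ∃ W, W ≤ M ∧ IsPGroup q W ∧ M ≤ normalizer (W : Set G) ∧ M ≤ W ⊔ (T : Subgroup G) := by
  haveI := Fact.mk Nat.prime_two
  haveI := Fact.mk B.setup.prime
  haveI : Group.IsSolvable M := B.setup.solvable hM3
  set O := Cfsg.pPrimeCore 2 M with hOdef
  haveI hOn : O.Normal := CfsgLib.Solvable.pPrimeCore_normal 2 M
  have hOc : (Nat.card O).Coprime 2 := CfsgLib.Comp.coprime_card_pPrimeCore 2 M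
  have hOq : IsPGroup q O := by
    obtain ⟨i, j, hij⟩ := B.setup.card_two_q hM3
    have hd := card_subgroup_dvd_card O
    rw [hij] at hd
    obtain ⟨m, -, hm⟩ := (Nat.dvd_prime_pow B.setup.prime).1
      ((Nat.Coprime.pow_right i hOc).dvd_of_dvd_mul_left hd)
    exact IsPGroup.of_card hm
  refine ⟨O.map M.subtype, map_subtype_le O, hOq.map _, ?_, ?_⟩
  · intro m hm
    refine mem_normalizer_of_conj_mem ?_
    rintro _ ⟨x, hx, rfl⟩
    exact ⟨⟨m, hm⟩ * x * (⟨m, hm⟩ : M)⁻¹, hOn.conj_mem x hx _, rfl⟩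
  set π := QuotientGroup.mk' O with hπ
  set T₀ := (T : Subgroup G).subgroupOf M with hT₀
  have hT₀2 : IsPGroup 2 T₀ := T.isPGroup'.of_equiv (subgroupOfEquivOfLe hTM).symm
  suffices htop : (⊤ : Subgroup (M ⧸ O)) ≤ T₀.map π by
    intro m hm
    obtain ⟨t, ht, hte⟩ := htop (mem_top (π ⟨m, hm⟩))
    have h1 : (⟨m, hm⟩ : M) * t⁻¹ ∈ O := by
      rw [← QuotientGroup.eq_one_iff (N := O), ← QuotientGroup.mk'_apply, map_mul, map_inv, ← hπ,
        hte, mul_inv_cancel]
    have := mul_mem (mem_sup_left (T := (T : Subgroup G)) (mem_map_of_mem M.subtype h1))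
      (mem_sup_right (S := O.map M.subtype) (show (t : G) ∈ (T : Subgroup G) from ht))
    simpa using this
  have hinj : Function.Injective (π.comp T₀.subtype) := by
    rw [← MonoidHom.ker_eq_bot_iff, eq_bot_iff]
    intro x hx
    rw [MonoidHom.mem_ker, MonoidHom.comp_apply, hπ, QuotientGroup.mk'_apply,
      QuotientGroup.eq_one_iff] at hx
    have : (x : M) ∈ T₀ ⊓ O := ⟨x.2, hx⟩
    rw [CfsgLib.Comp.inf_eq_bot_of_isPGroup hT₀2 hOc, mem_bot] at this
    exact mem_bot.2 (Subtype.ext this)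
  haveI : Group.IsSolvable (M ⧸ O) :=
    Group.isSolvable_of_surjective (QuotientGroup.mk'_surjective O)
  have hchar : centralizer (Cfsg.pCore 2 (M ⧸ O) : Set (M ⧸ O)) ≤ Cfsg.pCore 2 (M ⧸ O) :=
    CfsgLib.Solvable.centralizer_pCore_le 2 (CfsgLib.Comp.pPrimeCore_quotient_eq_bot 2 M)
  set S₁ : Sylow 2 M := T.subtype hTM
  set S₂ : Sylow 2 (M ⧸ O) := S₁.mapSurjective (f := π) (QuotientGroup.mk'_surjective O)
  have hS₂ : (S₂ : Subgroup (M ⧸ O)) = T₀.map π := rfl
  -- the stable Thompson subgroups, or the small centre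
  by_cases hbig : k ∈ normalizer (Cfsg.thompsonSubgroupOf 2 (T : Subgroup G) : Set G) ∧
      k ∈ normalizer (zHat (T : Subgroup G) : Set G)
  swap
  · have hPT : (T : Subgroup G) ≠ P := fun e => hbig (by
      have hn : k ∈ normalizer ((T : Subgroup G) : Set G) := e ▸ B.max.norm
      refine ⟨normalizer_le_normalizer_thompsonOf _ hn, ?_⟩
      refine mem_normalizer_iff_map_conj_eq.2 ?_
      rw [zHat_map_of_injective (MulAut.conj k).injective, mem_normalizer_iff_map_conj_eq.1 hn])
    have h4 : Nat.card (omegaCentre P) = 4 := by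
      have hlt : ¬ 16 ≤ Nat.card (omegaCentre P) := fun h => hbig (B.norm_thompson h)
      have hC := B.cubic.mono ((omegaCentre_le P).trans inf_le_left) B.k_norm_omegaCentre
      have h3 := hC.card_mod
      obtain ⟨n, hn⟩ := IsPGroup.iff_card.1 hC.two
      have hne : Nat.card (omegaCentre P) ≠ 1 := fun e =>
        omegaCentre_ne_bot B.max.two B.max.ne (card_eq_one.1 e)
      rw [hn] at hlt h3 hne ⊢
      rcases n with _ | _ | _ | _ | n
      · exact absurd (pow_zero 2) hne
      · norm_num at h3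
      · norm_num
      · norm_num at h3
      · exact absurd (Nat.pow_le_pow_right (by norm_num : 0 < 2) (by omega : 4 ≤ n + 1 + 1 + 1 + 1))
          hlt
    exact B.quotient_small hPT hTM hM3 hOc h4 hinj hchar (hS₂ ▸ S₂.not_dvd_index)
  obtain ⟨hkJ, hkZ⟩ := hbig
  have hfree : ¬ Cfsg.Involves (Equiv.Perm (Fin 4)) (M ⧸ O) :=
    not_involves_four fun h => hM3 (h.trans (card_quotient_dvd_card O))
  have hJmap := map_eq_of_injOn (fun U => Cfsg.thompsonSubgroupOf 2 U)
    (fun f hf U => thompsonOf_map_of_injective hf U 2) π hinj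
  have hZmap := map_eq_of_injOn (fun U => zHat U) (fun f hf U => zHat_map_of_injective hf U) π hinj
  have hJ₀ : Cfsg.thompsonSubgroupOf 2 T₀ =
      (Cfsg.thompsonSubgroupOf 2 (T : Subgroup G)).subgroupOf M := by
    refine (map_injective M.subtype_injective) ?_
    rw [thompsonOf_map_of_injective M.subtype_injective, hT₀, map_subgroupOf_eq_of_le hTM,
      map_subgroupOf_eq_of_le ((thompsonOf_le _).trans hTM)]
  have hZ₀ : zHat T₀ = (zHat (T : Subgroup G)).subgroupOf M := by
    refine (map_injective M.subtype_injective) ?_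
    rw [zHat_map_of_injective M.subtype_injective, hT₀, map_subgroupOf_eq_of_le hTM,
      map_subgroupOf_eq_of_le ((zHat_le _).trans ((jH_le _).trans hTM))]
  intro g _
  obtain ⟨c, hc, n, hn, rfl⟩ := (Cfsg.Agent.S2753.result hchar hfree
    (compositionK_of_solvable _) S₂).2.2 g
  have hT1 : (T : Subgroup G) ≠ ⊥ := fun e => B.max.ne (le_bot_iff.1 (e ▸ B.le))
  have h2T : 2 ∣ Nat.card (T : Subgroup G) := by
    haveI := (nontrivial_iff_ne_bot (T : Subgroup G)).2 hT1
    obtain ⟨m, hm, hc⟩ := T.isPGroup'.nontrivial_iff_card.1 inferInstance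
    exact hc ▸ dvd_pow_self 2 hm.ne'
  refine mul_mem ?_ ?_
  · have hZ1 : zHat (T : Subgroup G) ≠ ⊥ := by
      intro e
      have hj : jH (T : Subgroup G) ≠ ⊥ := fun ej => by
        refine thompson_ne_bot (G := (T : Subgroup G)) h2T ?_
        exact (Subgroup.map_eq_bot_iff_of_injective _ (T : Subgroup G).subtype_injective).1
          (le_bot_iff.1 (ej ▸ thompson_le_jH (T : Subgroup G)))
      refine omegaCentre_ne_bot (T.isPGroup'.to_le (jH_le _)) hj (le_bot_iff.1 (e ▸ ?_))
      exact le_omegaOne (omegaCentre_elemAb _) (omegaCentre_le _)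
    refine B.normalizer_le_image hTM hM3 hOc ((zHat_le _).trans (jH_le _)) hZ1 hkZ ?_
      (centralizer_le_normalizer _ ?_)
    · refine fun t ht => mem_normalizer_iff_map_conj_eq.2 ?_
      rw [zHat_map_of_injective (MulAut.conj t).injective,
        mem_normalizer_iff_map_conj_eq.1 (Subgroup.le_normalizer ht)]
    · rw [← hπ, ← hZ₀, ← hZmap]
      exact hc
  · have hJ1 : Cfsg.thompsonSubgroupOf 2 (T : Subgroup G) ≠ ⊥ := by
      intro e
      refine thompson_ne_bot (G := (T : Subgroup G)) h2T ?_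
      exact (Subgroup.map_eq_bot_iff_of_injective _ (T : Subgroup G).subtype_injective).1 e
    refine B.normalizer_le_image hTM hM3 hOc (thompsonOf_le _) hJ1 hkJ
      (Subgroup.le_normalizer.trans (normalizer_le_normalizer_thompsonOf _)) ?_
    rw [← hπ, ← hJ₀, ← hJmap]
    exact hn

/-- **A `{2, q}`-subgroup containing `T` is `T`.** -/
theorem eq_sylow (B : Big q k T P) {M : Subgroup G} (hTM : (T : Subgroup G) ≤ M)
    (hM3 : ¬ 3 ∣ Nat.card M) : M = T := by
  haveI := Fact.mk Nat.prime_two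
  haveI := Fact.mk B.setup.prime
  -- a largest one
  obtain ⟨L, hML, hL, hmax⟩ := Set.Finite.exists_le_maximal
    (Set.toFinite {L : Subgroup G | (T : Subgroup G) ≤ L ∧ ¬ 3 ∣ Nat.card L}) ⟨hTM, hM3⟩
  obtain ⟨hTL, hL3⟩ := hL
  suffices hLT : L = (T : Subgroup G) from le_antisymm (hML.trans hLT.le) hTM
  obtain ⟨W, hWL, hW, hLW, hLsup⟩ := B.quotient_two hTL hL3
  by_cases hW1 : W = ⊥
  · exact le_antisymm (by simpa [hW1] using hLsup) hTL
  exfalso
  have hW3 : ¬ 3 ∣ Nat.card W := Setup.not_three_dvd_pgroup B.setup.q_ne_three hW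
  have hTN : (T : Subgroup G) ≤ normalizer (W : Set G) := hTL.trans hLW
  set H := normalizer (W : Set G) with hH
  by_cases h3 : 3 ∣ Nat.card H
  · -- an element of order three: mixing
    haveI := Fact.mk Nat.prime_three
    obtain ⟨⟨k', hk'H⟩, hk'⟩ := exists_prime_orderOf_dvd_card' (G := H) 3 h3
    rw [orderOf_mk] at hk'
    obtain ⟨⟨y, hyW⟩, hy⟩ := exists_prime_orderOf_dvd_card' (G := W) q (by
      haveI := (nontrivial_iff_ne_bot W).2 hW1
      obtain ⟨m, hm, hc⟩ := hW.nontrivial_iff_card.1 inferInstance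
      exact hc ▸ dvd_pow_self q hm.ne')
    rw [orderOf_mk] at hy
    rcases local_cases B.setup hW1 hW3 Subgroup.le_normalizer le_rfl hk' hk'H with ⟨K, hK⟩ | hA
    · obtain ⟨P₂, hP₂K, hP₂, hP₂n, hP₂max, -⟩ := hK.exists_part 2
      have hWK : W ≤ K := hK.inv_le B.setup hk' hk'H Subgroup.le_normalizer hW3 hk'H
      have hTK : (T : Subgroup G) ⊓ K ≠ ⊥ := by
        intro e
        have h1 : K.relIndex (T : Subgroup G) ∣ 6 := by
          haveI : (K.subgroupOf H).Normal := normal_subgroupOf_of_le_normalizer hK.norm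
          refine Dvd.dvd.trans ?_ (show K.relIndex H ∣ 6 from ?_)
          · rw [← (Subgroup.relIndex_subgroupOf hTN :
              (K.subgroupOf H).relIndex ((T : Subgroup G).subgroupOf H) = K.relIndex (T : Subgroup G))]
            exact relIndex_dvd_index_of_normal (H := K.subgroupOf H)
              (K := (T : Subgroup G).subgroupOf H)
          · have := relIndex_mul_relIndex ⊥ K H bot_le hK.le
            simp only [relIndex_bot_left] at this
            have hp := Nat.card_pos (α := K)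
            rcases hK.card with e | e <;> rw [e] at this
            · rw [mul_comm 3 (Nat.card K)] at this
              rw [Nat.eq_of_mul_eq_mul_left hp this]; norm_num
            · rw [mul_comm 6 (Nat.card K)] at this
              rw [Nat.eq_of_mul_eq_mul_left hp this]
        have h2 := relIndex_mul_relIndex ⊥ ((T : Subgroup G) ⊓ K) (T : Subgroup G) bot_le inf_le_left
        rw [relIndex_bot_left, relIndex_bot_left, inf_relIndex_left, e, card_bot, one_mul] at h2
        have := card_le_of_le B.le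
        have := B.sixteen_le
        have := Nat.le_of_dvd (by norm_num) h1
        omega
      obtain ⟨x, ⟨hxT, hxK⟩, hx1⟩ := ((T : Subgroup G) ⊓ K).bot_or_exists_ne_one.resolve_left hTK
      have hxP₂ : x ∈ P₂ :=
        hP₂max _ (zpowers_le.2 hxK) (T.isPGroup'.to_le (zpowers_le.2 hxT)) (mem_zpowers x)
      refine mixed B.setup B.large hk' hP₂ (hP₂n hk'H) (fun e => hx1 (mem_bot.1 (e ▸ hxP₂)))
        (mem_centralizer_iff.2 fun z hz => ?_) hy
      refine (hK.commute_of_coprime (hP₂K hz) (hWK hyW) ?_).eq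
      obtain ⟨n, hn⟩ := IsPGroup.iff_orderOf.1 hP₂ ⟨z, hz⟩
      rw [orderOf_mk] at hn
      rw [hn, hy]
      exact Nat.Coprime.pow_left n
        ((Nat.coprime_primes Nat.prime_two B.setup.prime).2 (Ne.symm B.setup.q_ne_two))
    · refine Alt.not_five_dvd hA hLW hL3 ?_ ?_
      · intro h
        refine T.not_dvd_index (h.trans ⟨(T : Subgroup G).relIndex L * H.index, ?_⟩)
        rw [← relIndex_mul_index (hTL.trans hLW), ← relIndex_mul_relIndex _ _ _ hTL hLW]
        ring
      · rw [← hy, ← orderOf_mk y (hWL hyW)]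
        exact orderOf_dvd_natCard _
  · -- `W` is a Sylow subgroup
    have hHL : H = L := le_antisymm (hmax ⟨hTN, h3⟩ hLW) hLW
    obtain ⟨Q, hQ⟩ := hW.exists_le_sylow
    have hWQ : W = (Q : Subgroup G) := by
      by_contra hne
      have hlt : W < (Q : Subgroup G) := lt_of_le_of_ne hQ hne
      have hnc : NormalizerCondition ↥(Q : Subgroup G) :=
        @Group.normalizerCondition_of_isNilpotent _ _ Q.isPGroup'.isNilpotent
      obtain ⟨y, hy, hyW⟩ := SetLike.exists_of_lt (hnc _ (lt_top_iff_ne_top.2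
        fun h => hlt.not_ge (subgroupOf_eq_top.1 h) : W.subgroupOf (Q : Subgroup G) < ⊤))
      refine hyW (mem_subgroupOf.2 ?_)
      have hyH : (y : G) ∈ H := mem_normalizer_of_conj_mem fun x hx =>
        (mem_normalizer_iff.1 hy ⟨x, hQ hx⟩).1 (mem_subgroupOf.2 hx)
      have hyL : (y : G) ∈ L := hHL ▸ hyH
      -- `L / W` is a two-group
      haveI : (W.subgroupOf L).Normal := normal_subgroupOf_of_le_normalizer hLW
      have hidx : W.relIndex L ∣ Nat.card (T : Subgroup G) := by
        have h1 := CfsgLib.Comp.card_sup_dvd_mul (H := W) (K := (T : Subgroup G)) hTN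
        have h2 := relIndex_mul_relIndex ⊥ W L bot_le hWL
        rw [relIndex_bot_left, relIndex_bot_left] at h2
        refine Nat.dvd_of_mul_dvd_mul_left Nat.card_pos (k := Nat.card W) ?_
        rw [h2]
        exact (card_dvd_of_le hLsup).trans h1
      obtain ⟨n, hn⟩ := IsPGroup.iff_card.1 T.isPGroup'
      obtain ⟨m, hm⟩ := IsPGroup.iff_orderOf.1 Q.isPGroup' y
      rw [hn] at hidx
      have hpow : (y : G) ^ W.relIndex L ∈ W := pow_index_mem (W.subgroupOf L) (⟨y, hyL⟩ : L)
      have hcop : (orderOf (y : G)).Coprime (W.relIndex L) := by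
        rw [orderOf_coe, hm]
        refine Nat.Coprime.coprime_dvd_right hidx (Nat.Coprime.pow _ _ ?_)
        exact (Nat.coprime_primes B.setup.prime Nat.prime_two).2 B.setup.q_ne_two
      obtain ⟨r, hr⟩ := exists_pow_eq_self_of_coprime hcop.symm
      rw [← hr]
      exact pow_mem hpow r
    refine B.setup.index_nine (B.setup.ne_top_of_not_three hL3) ?_ ?_
    · exact fun h => T.not_dvd_index (h.trans (index_dvd_of_le hTL))
    · exact fun h => Q.not_dvd_index (h.trans (index_dvd_of_le (hWQ ▸ hWL)))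

end Big

end CfsgLib.InvChar.SecNineOpen
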