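import Cfsg.Agent.Lib.Transfer.Thompson
import Cfsg.Agent.Lib.Amalgam.WeaklyClosed
import Cfsg.Agent.Lib.InvChar.SecNineOpen.Step
import Cfsg.Agent.Lib.InvChar.SecNineOpen.Five

/-!
# Centralisers of involutions are two-groups when some maximal invariant two-subgroup is large

Every involution centralises a four-group whose involutions have two-groups as centralisers; a
`{2, q}`-subgroup with a two-core and a commuting pair and of largest two-part is then pushed
into a larger one by Glauberman's factorisation.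
-/

set_option autoImplicit false
set_option linter.unusedSectionVars false
set_option linter.style.haveILetI false
set_option linter.unusedSimpArgs false

namespace CfsgLib.InvChar.SecNineOpen

open Subgroup
open scoped commutatorElement

universe u

variable {G : Type u} [Group G] [Finite G] {q : ℕ}

theorem two_dvd_of_ne_bot {X : Subgroup G} (hX : IsPGroup 2 X) (h : X ≠ ⊥) :
    ∃ z ∈ X, orderOf z = 2 := by
  haveI := Fact.mk Nat.prime_two
  haveI := (nontrivial_iff_ne_bot X).2 h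
  obtain ⟨m, hm, hc⟩ := hX.nontrivial_iff_card.1 inferInstance
  obtain ⟨z, hz⟩ := exists_prime_orderOf_dvd_card' (G := X) 2 (hc ▸ dvd_pow_self 2 hm.ne')
  exact ⟨z, z.2, by rw [orderOf_coe, hz]⟩

/-- A subgroup of order prime to three which is not a two-group has an element of order `q`. -/
theorem Setup.exists_orderOf_q (S : Setup G q) {H : Subgroup G} (hH : ¬ 3 ∣ Nat.card H)
    (hH2 : ¬ IsPGroup 2 H) : ∃ y ∈ H, orderOf y = q := by
  haveI := Fact.mk S.prime
  obtain ⟨y, hy⟩ := exists_prime_orderOf_dvd_card' (G := H) q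
    (by by_contra h; exact hH2 (S.isPGroup_two hH h))
  exact ⟨y, y.2, by rw [orderOf_coe, hy]⟩

namespace Big

variable {k : G} {T : Sylow 2 G} {P : Subgroup G}

/-- A four-group in the centre of `P` whose involutions have two-groups as centralisers. -/
theorem exists_four (B : Big q k T P) :
    ∃ V : Subgroup G, V ≤ omegaCentre P ∧ (∀ v ∈ V, v ≠ 1 → IsPGroup 2 (centralizer ({v} : Set G))) ∧
      3 ≤ Nat.card V := by
  haveI := Fact.mk Nat.prime_two
  obtain ⟨c, ⟨hc, hcT⟩, hc1⟩ := (omegaCentre P ⊓ centralizer ((T : Subgroup G) : Set G))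
    |>.bot_or_exists_ne_one.resolve_left (CfsgLib.Amalgam.inf_centralizer_ne_bot (p := 2) T.isPGroup'
      (B.max.two.to_le ((omegaCentre_le P).trans inf_le_left)) (omegaCentre_ne_bot B.max.two B.max.ne) B.T_norm_omegaCentre)
  have hco : orderOf c = 2 := orderOf_eq_prime (by rw [pow_two]; exact hc.2) hc1
  have hC : IsPGroup 2 (centralizer ({c} : Set G)) := by
    have e := B.eq_sylow (M := centralizer ({c} : Set G))
      (fun t ht => mem_centralizer_singleton_iff.2 (mem_centralizer_iff.1 hcT t ht))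
      (B.setup.not_three_dvd_centralizer hco)
    rw [e]
    exact T.isPGroup'
  have hconj : ∀ g : G, IsPGroup 2 (centralizer ({g * c * g⁻¹} : Set G)) := by
    intro g
    refine (hC.map (MulAut.conj g).toMonoidHom).to_le fun x hx => ?_
    refine ⟨g⁻¹ * x * g, mem_centralizer_singleton_iff.2 ?_, by simp [mul_assoc]⟩
    have h1 := mem_centralizer_singleton_iff.1 hx
    calc g⁻¹ * x * g * c = g⁻¹ * (x * (g * c * g⁻¹)) * g := by group
      _ = g⁻¹ * (g * c * g⁻¹ * x) * g := by rw [h1]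
      _ = c * (g⁻¹ * x * g) := by group
  set d := k * c * k⁻¹ with hd
  set e := k⁻¹ * c * k with he
  have hkN := B.k_norm_omegaCentre
  have hdm : d ∈ omegaCentre P := conj_mem hkN hc
  have hem : e ∈ omegaCentre P := by simpa [he] using conj_mem (inv_mem hkN) hc
  have hcP : c ∈ P := hc.1.1
  have horb : c * d * e = 1 := B.cubic.orbit hcP
  have hcd : Commute c d := commute_omegaCentre hc hdm.1.1
  have hec : c * d = e := by
    rw [eq_inv_of_mul_eq_one_left horb]
    exact inv_eq_of_mul_eq_one_right hem.2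
  have hd1 : d ≠ 1 := fun h => hc1 (conj_eq_one_iff.1 h)
  have hne : c ≠ d := fun h => hc1 (B.cubic.fpf c hcP h.symm)
  have hcc : ∀ z, c * (c * z) = z := fun z => by rw [← mul_assoc, hc.2, one_mul]
  have hdd : ∀ z, d * (d * z) = z := fun z => by rw [← mul_assoc, hdm.2, one_mul]
  have hdc : d * c = c * d := hcd.eq.symm
  have hdcz : ∀ z, d * (c * z) = c * (d * z) := fun z => by rw [← mul_assoc, hdc, mul_assoc]
  let V : Subgroup G :=
    { carrier := {x | x = 1 ∨ x = c ∨ x = d ∨ x = c * d}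
      one_mem' := Or.inl rfl
      mul_mem' := by
        rintro x y (rfl | rfl | rfl | rfl) (rfl | rfl | rfl | rfl) <;>
          simp [mul_assoc, hc.2, hdm.2, hdc, hcc, hdd, hdcz]
      inv_mem' := by
        rintro x (rfl | rfl | rfl | rfl) <;>
          simp [inv_eq_of_mul_eq_one_right hc.2, inv_eq_of_mul_eq_one_right hdm.2, hdc] }
  refine ⟨V, ?_, ?_, ?_⟩
  · rintro x (rfl | rfl | rfl | rfl)
    exacts [one_mem _, hc, hdm, mul_mem hc hdm]
  · rintro x (rfl | rfl | rfl | rfl) hx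
    · exact absurd rfl hx
    · exact hC
    · exact hconj k
    · rw [hec, he]
      have := hconj k⁻¹
      rwa [inv_inv] at this
  · have h3 : ({1, c, d} : Set G).ncard = 3 :=
      Set.ncard_eq_three.2 ⟨1, c, d, Ne.symm hc1, Ne.symm hd1, hne, rfl⟩
    rw [← h3]
    refine le_of_le_of_eq (Set.ncard_le_ncard (t := (V : Set G)) ?_ (Set.toFinite _))
      (Nat.card_coe_set_eq _).symm
    rintro z (rfl | rfl | rfl)
    exacts [Or.inl rfl, Or.inr (Or.inl rfl), Or.inr (Or.inr (Or.inl rfl))]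

/-- Every involution is conjugate into `P`. -/
theorem conj_into (B : Big q k T P) {u : G} (hu : orderOf u = 2) : ∃ g : G, g * u * g⁻¹ ∈ P := by
  haveI := Fact.mk Nat.prime_two
  obtain ⟨T', hT'⟩ := (IsPGroup.of_card (n := 1) (by rw [Nat.card_zpowers, hu, pow_one]) :
    IsPGroup 2 (zpowers u)).exists_le_sylow
  obtain ⟨g, hg⟩ := MulAction.exists_smul_eq G T' T
  have hgu : g * u * g⁻¹ ∈ (T : Subgroup G) := by
    rw [← hg]
    exact ⟨u, hT' (mem_zpowers u), rfl⟩
  rcases B.shape with e | ⟨hi, -⟩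
  · exact ⟨g, e ▸ hgu⟩
  rcases CfsgLib.Transfer.thompson_transfer_involution T B.le hi (u := g * u * g⁻¹) (by
    rw [pow_two, show g * u * g⁻¹ * (g * u * g⁻¹) = g * (u ^ 2) * g⁻¹ by rw [pow_two]; group,
      ← hu, pow_orderOf_eq_one]; group) hgu with ⟨M, hMn, hMi, -⟩ | ⟨g', hg'⟩
  · exfalso
    haveI := B.setup.simple
    rcases IsSimpleGroup.eq_bot_or_eq_top_of_normal M hMn with e | e
    · rw [e, index_bot] at hMi
      have := B.setup.three_dvd
      rw [hMi] at this
      norm_num at this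
    · rw [e, index_top] at hMi
      norm_num at hMi
  · refine ⟨g' * g, ?_⟩
    rwa [show g' * g * u * (g' * g)⁻¹ = g' * (g * u * g⁻¹) * g'⁻¹ by group]

/-- A `q`-group normalised by the centraliser of an involution is trivial. -/
theorem no_q_core (B : Big q k T P) {u : G} (hu : orderOf u = 2) {Y : Subgroup G}
    (hY : IsPGroup q Y)
    (hn : centralizer ({u} : Set G) ≤ normalizer (Y : Set G)) : Y = ⊥ := by
  haveI := Fact.mk Nat.prime_two
  haveI := Fact.mk B.setup.prime
  obtain ⟨V, hV, hVc, hV3⟩ := B.exists_four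
  obtain ⟨g, hg⟩ := B.conj_into hu
  set V' := V.map (MulAut.conj g⁻¹).toMonoidHom with hV'
  have hel : Cfsg.IsElementaryAbelian 2 V' := by
    refine CfsgLib.PLocal.elemAb_map _ ⟨⟨⟨fun a b => Subtype.ext
      (commute_omegaCentre (hV a.2) (hV b.2).1.1).eq⟩⟩, fun a ha => by
        rw [pow_two]; exact (hV ha).2⟩
  have hnorm : V' ≤ normalizer (Y : Set G) := by
    rintro _ ⟨v, hv, rfl⟩
    refine hn (mem_centralizer_singleton_iff.2 ?_)
    have := (commute_omegaCentre (hV hv) hg).map (MulAut.conj g⁻¹).toMonoidHom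
    simpa [mul_assoc] using this.eq
  have hV'1 : V' ≠ ⊥ := fun e => by
    have := card_map_of_injective (f := (MulAut.conj g⁻¹).toMonoidHom) (K := V)
      (MulAut.conj g⁻¹).injective
    rw [← hV', e, card_bot] at this
    omega
  have hY2 : ¬ 2 ∣ Nat.card Y := by
    obtain ⟨n, hn'⟩ := IsPGroup.iff_card.1 hY
    rw [hn']
    exact fun h => B.setup.q_ne_two
      ((Nat.prime_dvd_prime_iff_eq Nat.prime_two B.setup.prime).1 (Nat.prime_two.dvd_of_dvd_pow h)).symm
  rw [CfsgLib.Comp.eq_iSup_centralizer_hyperplane hel hV'1 hY2 hnorm, eq_bot_iff]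
  refine iSup_le fun W => ?_
  obtain ⟨w, hw, hw1⟩ := W.1.bot_or_exists_ne_one.resolve_left fun e => by
    have h2 := W.2.2
    rw [e, relIndex_bot_left, hV', card_map_of_injective (MulAut.conj g⁻¹).injective] at h2
    omega
  obtain ⟨v, hv, hvw⟩ := W.2.1 hw
  rintro y ⟨hy, hyW⟩
  have hyC : g * y * g⁻¹ ∈ centralizer ({v} : Set G) := by
    refine mem_centralizer_singleton_iff.2 ?_
    have h1 := mem_centralizer_iff.1 hyW w hw
    rw [← hvw] at h1
    simp only [MulEquiv.coe_toMonoidHom, MulAut.conj_apply, inv_inv] at h1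
    calc g * y * g⁻¹ * v = g * (y * (g⁻¹ * v * g)) * g⁻¹ := by group
      _ = g * (g⁻¹ * v * g * y) * g⁻¹ := by rw [h1]
      _ = v * (g * y * g⁻¹) := by group
  have hv1 : v ≠ 1 := fun e => hw1 (by rw [← hvw, e, map_one])
  obtain ⟨n, hn1⟩ := IsPGroup.iff_orderOf.1 (hVc v hv hv1) ⟨_, hyC⟩
  obtain ⟨m, hm⟩ := IsPGroup.iff_orderOf.1 hY ⟨y, hy⟩
  rw [orderOf_mk] at hn1 hm
  rw [show g * y * g⁻¹ = (MulAut.conj g).toMonoidHom y from rfl,
    orderOf_injective _ (MulAut.conj g).injective] at hn1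
  refine mem_bot.2 (orderOf_eq_one_iff.1 (Nat.eq_one_of_dvd_coprimes
    (Nat.Coprime.pow n m ((Nat.coprime_primes Nat.prime_two B.setup.prime).2 (Ne.symm B.setup.q_ne_two)))
    (hn1 ▸ dvd_refl _) (hm ▸ dvd_refl _)))

/-- The family: `{2, q}`-subgroups with a two-core and a commuting pair. -/
def Pairish (q : ℕ) (H : Subgroup G) : Prop :=
  ¬ 3 ∣ Nat.card H ∧ (∃ E : Subgroup G, E ≤ H ∧ H ≤ normalizer (E : Set G) ∧ IsPGroup 2 E ∧ E ≠ ⊥) ∧
    ∃ y ∈ H, ∃ u ∈ H, orderOf y = q ∧ orderOf u = 2 ∧ Commute y u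

theorem pairish_centralizer (B : Big q k T P) {e y : G} (he : orderOf e = 2) (hy : orderOf y = q)
    (hye : Commute y e) : Pairish q (centralizer ({e} : Set G)) := by
  refine ⟨B.setup.not_three_dvd_centralizer he, ⟨zpowers e, zpowers_le.2
    (mem_centralizer_singleton_iff.2 rfl), ?_, IsPGroup.of_card (n := 1)
    (by rw [Nat.card_zpowers, he, pow_one]), zpowers_ne_bot.2 fun h => ?_⟩,
    y, mem_centralizer_singleton_iff.2 hye.eq, e, mem_centralizer_singleton_iff.2 rfl, hy, he, hye⟩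
  · rw [← centralizer_closure, ← zpowers_eq_closure]
    exact centralizer_le_normalizer _
  · rw [h, orderOf_one] at he
    norm_num at he

/-- **The centralisers of involutions are two-groups.** -/
theorem centralizer_two (B : Big q k T P) {t : G} (ht : orderOf t = 2) :
    IsPGroup 2 (centralizer ({t} : Set G)) := by
  classical
  haveI := Fact.mk Nat.prime_two
  haveI := Fact.mk Nat.prime_three
  haveI := Fact.mk B.setup.prime
  by_contra hnot
  obtain ⟨y₁, hy₁, hy₁o⟩ := B.setup.exists_orderOf_q (B.setup.not_three_dvd_centralizer ht) hnot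
  obtain ⟨⟨H, T₀⟩, ⟨hH, hT₀H, hT₀⟩, hmax⟩ := Set.exists_max_image
    {p : Subgroup G × Subgroup G | Pairish q p.1 ∧ p.2 ≤ p.1 ∧ IsPGroup 2 p.2}
    (fun p => Nat.card p.2) (Set.toFinite _)
    ⟨(centralizer ({t} : Set G), ⊥), B.pairish_centralizer ht hy₁o
      (mem_centralizer_singleton_iff.1 hy₁), bot_le, IsPGroup.of_bot⟩
  have hbig : ∀ L X : Subgroup G, Pairish q L → X ≤ L → IsPGroup 2 X →
      Nat.card X ≤ Nat.card T₀ := fun L X h1 h2 h3 => hmax (L, X) ⟨h1, h2, h3⟩
  obtain ⟨hH3, ⟨E₀, hE₀H, hHE₀, hE₀, hE₀1⟩, y, hy, u, hu, hyo, huo, hyu⟩ := id hH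
  have sylow_in : ∀ (L : Subgroup G), Pairish q L → ∀ X ≤ L, IsPGroup 2 X →
      Nat.card T₀ ≤ Nat.card X → ∀ X' : Subgroup G, X' ≤ L → IsPGroup 2 X' → X ≤ X' → X' = X :=
    fun L hL X _ _ hle X' hX'L hX' hXX' =>
      (eq_of_le_of_card_ge hXX' ((hbig L X' hL hX'L hX').trans hle)).symm
  -- `T₀` is a Sylow subgroup of `H`, not of `G`
  obtain ⟨S₀, hS₀⟩ := (hT₀.of_equiv (subgroupOfEquivOfLe hT₀H).symm).exists_le_sylow
  have hS₀e : (S₀ : Subgroup H).map H.subtype = T₀ := by
    refine sylow_in H hH T₀ hT₀H hT₀ le_rfl _ (map_subtype_le _) (S₀.isPGroup'.map _) fun x hx => ?_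
    exact ⟨⟨x, hT₀H hx⟩, hS₀ (mem_subgroupOf.2 hx), rfl⟩
  have hS₀s : (S₀ : Subgroup H) = T₀.subgroupOf H := by
    rw [← hS₀e, subgroupOf, comap_map_eq_self_of_injective H.subtype_injective]
  obtain ⟨T₁, hT₁⟩ := hT₀.exists_le_sylow
  have hlt : T₀ < (T₁ : Subgroup G) := by
    refine lt_of_le_of_ne hT₁ fun e => ?_
    obtain ⟨g, hg⟩ := MulAction.exists_smul_eq G T₁ T
    set H' := H.map (MulAut.conj g).toMonoidHom with hH'
    have hTH : (T : Subgroup G) ≤ H' := by
      rw [← hg]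
      rintro _ ⟨x, hx, rfl⟩
      exact ⟨x, hT₀H (e.symm.le hx), rfl⟩
    have e' := B.eq_sylow hTH (by rwa [hH', card_map_of_injective (MulAut.conj g).injective])
    have h1 : IsPGroup 2 H' := e' ▸ T.isPGroup'
    obtain ⟨n, hn⟩ := IsPGroup.iff_card.1 h1
    rw [hH', card_map_of_injective (MulAut.conj g).injective] at hn
    have hd : orderOf y ∣ Nat.card H := by rw [← orderOf_mk y hy]; exact orderOf_dvd_natCard _
    rw [hyo, hn] at hd
    exact B.setup.q_ne_two ((Nat.prime_dvd_prime_iff_eq B.setup.prime Nat.prime_two).1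
      (B.setup.prime.dvd_of_dvd_pow hd))
  -- a larger two-group normalising `T₀`
  obtain ⟨T', hTT', hT'2, hT'n⟩ : ∃ T', T₀ < T' ∧ IsPGroup 2 T' ∧ T' ≤ normalizer (T₀ : Set G) := by
    have hnc : NormalizerCondition ↥(T₁ : Subgroup G) :=
      @Group.normalizerCondition_of_isNilpotent _ _ T₁.isPGroup'.isNilpotent
    refine ⟨(T₁ : Subgroup G) ⊓ normalizer (T₀ : Set G), ?_, T₁.isPGroup'.to_le inf_le_left,
      inf_le_right⟩
    obtain ⟨x, hx, hxT⟩ := SetLike.exists_of_lt (hnc _ (lt_top_iff_ne_top.2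
      fun h => hlt.not_ge (subgroupOf_eq_top.1 h) : T₀.subgroupOf (T₁ : Subgroup G) < ⊤))
    refine lt_of_le_of_ne (le_inf hT₁ Subgroup.le_normalizer) fun e => hxT (mem_subgroupOf.2 ?_)
    rw [e]
    exact ⟨x.2, mem_normalizer_of_conj_mem fun z hz =>
      (mem_normalizer_iff.1 hx ⟨z, hT₁ hz⟩).1 (mem_subgroupOf.2 hz)⟩
  have hTc : Nat.card T₀ < Nat.card T' := by
    rcases lt_or_eq_of_le (card_le_of_le hTT'.le) with h | h
    · exact h
    · exact absurd (eq_of_le_of_card_ge hTT'.le h.ge) hTT'.ne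
  haveI : Group.IsSolvable H := B.setup.solvable hH3
  -- no `q`-core
  have hO : Cfsg.pPrimeCore 2 H = ⊥ := by
    set O := Cfsg.pPrimeCore 2 H
    haveI hOn : O.Normal := CfsgLib.Solvable.pPrimeCore_normal 2 H
    have hOc : (Nat.card O).Coprime 2 := CfsgLib.Comp.coprime_card_pPrimeCore 2 H
    set Y := O.map H.subtype with hYdef
    have hYq : IsPGroup q Y := by
      obtain ⟨i, j, hij⟩ := B.setup.card_two_q hH3
      have hd := card_subgroup_dvd_card O
      rw [hij] at hd
      obtain ⟨m, -, hm⟩ := (Nat.dvd_prime_pow B.setup.prime).1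
        ((Nat.Coprime.pow_right i hOc).dvd_of_dvd_mul_left hd)
      exact (IsPGroup.of_card hm).map _
    by_contra hO1
    obtain ⟨e, ⟨heE, heT⟩, he1⟩ := (E₀ ⊓ centralizer (T₀ : Set G)).bot_or_exists_ne_one.resolve_left
      (CfsgLib.Amalgam.inf_centralizer_ne_bot (p := 2) hT₀ hE₀ hE₀1 (hT₀H.trans hHE₀))
    -- replace by an involution
    obtain ⟨f, hf, hfo⟩ := two_dvd_of_ne_bot (hE₀.to_le (zpowers_le.2 heE)) (zpowers_ne_bot.2 he1)
    have hfE : f ∈ E₀ := (zpowers_le.2 heE) hf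
    have hfT : T₀ ≤ centralizer ({f} : Set G) := by
      intro z hz
      obtain ⟨n, rfl⟩ := mem_zpowers_iff.1 hf
      exact mem_centralizer_singleton_iff.2 ((show Commute z e from mem_centralizer_iff.1 heT z hz).zpow_right n).eq
    have hYf : Y ≤ centralizer ({f} : Set G) := by
      rintro _ ⟨o, ho, rfl⟩
      have h1 : ⁅(⟨f, hE₀H hfE⟩ : H), o⁆ ∈ O ⊓ (E₀.subgroupOf H) := by
        haveI : (E₀.subgroupOf H).Normal := normal_subgroupOf_of_le_normalizer hHE₀
        refine mem_inf.2 ⟨?_, ?_⟩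
        · rw [commutatorElement_def]
          exact mul_mem (hOn.conj_mem o ho _) (inv_mem ho)
        · rw [commutatorElement_def, mul_assoc, mul_assoc]
          refine mul_mem hfE ?_
          rw [← mul_assoc]
          exact Normal.conj_mem inferInstance _ (inv_mem (show (⟨f, hE₀H hfE⟩ : H) ∈ E₀.subgroupOf H
            from hfE)) o
      rw [inf_comm, CfsgLib.Comp.inf_eq_bot_of_isPGroup
        (hE₀.of_equiv (subgroupOfEquivOfLe hE₀H).symm) hOc, mem_bot,
        commutatorElement_eq_one_iff_mul_comm] at h1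
      exact mem_centralizer_singleton_iff.2 (congrArg Subtype.val h1).symm
    obtain ⟨y', hy'Y, hy'o⟩ : ∃ y' ∈ Y, orderOf y' = q := by
      haveI := (nontrivial_iff_ne_bot Y).2 fun e => hO1
        ((Subgroup.map_eq_bot_iff_of_injective _ H.subtype_injective).1 e)
      obtain ⟨m, hm, hc⟩ := hYq.nontrivial_iff_card.1 inferInstance
      obtain ⟨z, hz⟩ := exists_prime_orderOf_dvd_card' (G := Y) q (hc ▸ dvd_pow_self q hm.ne')
      exact ⟨z, z.2, by rw [orderOf_coe, hz]⟩
    set L := centralizer ({f} : Set G) with hL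
    have hLp : Pairish q L :=
      B.pairish_centralizer hfo hy'o (mem_centralizer_singleton_iff.1 (hYf hy'Y))
    haveI : Group.IsSolvable L := B.setup.solvable hLp.1
    -- the `q`-core of `C(f)` is trivial
    have hOL : Cfsg.pPrimeCore 2 L = ⊥ := by
      set O' := Cfsg.pPrimeCore 2 L
      haveI hO'n : O'.Normal := CfsgLib.Solvable.pPrimeCore_normal 2 L
      have hO'c : (Nat.card O').Coprime 2 := CfsgLib.Comp.coprime_card_pPrimeCore 2 L
      have hO'q : IsPGroup q (O'.map L.subtype) := by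
        obtain ⟨i, j, hij⟩ := B.setup.card_two_q hLp.1
        have hd := card_subgroup_dvd_card O'
        rw [hij] at hd
        obtain ⟨m, -, hm⟩ := (Nat.dvd_prime_pow B.setup.prime).1
          ((Nat.Coprime.pow_right i hO'c).dvd_of_dvd_mul_left hd)
        exact (IsPGroup.of_card hm).map _
      refine (Subgroup.map_eq_bot_iff_of_injective _ L.subtype_injective).1
        (B.no_q_core hfo hO'q fun x hx => mem_normalizer_of_conj_mem ?_)
      rintro _ ⟨z, hz, rfl⟩
      exact ⟨⟨x, hx⟩ * z * (⟨x, hx⟩ : L)⁻¹, hO'n.conj_mem z hz _, rfl⟩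
    set U := Cfsg.pCore 2 L with hUdef
    haveI hUn : U.Normal := Cfsg.pCore_normal 2 L
    obtain ⟨S₁, hS₁⟩ := (hT₀.of_equiv (subgroupOfEquivOfLe hfT).symm).exists_le_sylow
    have hS₁e : (S₁ : Subgroup L).map L.subtype = T₀ :=
      sylow_in L hLp T₀ hfT hT₀ le_rfl _ (map_subtype_le _) (S₁.isPGroup'.map _) fun x hx =>
        ⟨⟨x, hfT hx⟩, hS₁ (mem_subgroupOf.2 hx), rfl⟩
    have hUT : ∀ x ∈ U, (x : G) ∈ T₀ := fun x hx => hS₁e ▸ mem_map_of_mem _
      ((CfsgLib.Comp.isPGroup_pCore 2 L).le_sylow_of_normal S₁ hx)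
    have hT₀Y : T₀ ≤ normalizer (Y : Set G) := fun z hz => mem_normalizer_of_conj_mem (by
      rintro _ ⟨o, ho, rfl⟩
      exact ⟨⟨z, hT₀H hz⟩ * o * (⟨z, hT₀H hz⟩ : H)⁻¹, hOn.conj_mem o ho _, rfl⟩)
    have hle : (Y.subgroupOf L) ≤ centralizer (U : Set L) := by
      intro o ho
      refine mem_centralizer_iff.2 fun x hx => ?_
      have h1 : ⁅x, o⁆ ∈ U ⊓ Y.subgroupOf L := by
        refine mem_inf.2 ⟨?_, ?_⟩
        · rw [commutatorElement_def, mul_assoc, mul_assoc]
          refine mul_mem hx ?_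
          rw [← mul_assoc]
          exact hUn.conj_mem _ (inv_mem hx) o
        · rw [commutatorElement_def, mem_subgroupOf]
          exact mul_mem (conj_mem (hT₀Y (hUT x hx)) (mem_subgroupOf.1 ho))
            (inv_mem (mem_subgroupOf.1 ho))
      rw [CfsgLib.Comp.inf_eq_bot_of_isPGroup (CfsgLib.Comp.isPGroup_pCore 2 L) (by
        rw [Nat.card_congr (subgroupOfEquivOfLe hYf).toEquiv]
        obtain ⟨m, hm⟩ := IsPGroup.iff_card.1 hYq
        rw [hm]
        exact Nat.Coprime.pow_left m ((Nat.coprime_primes B.setup.prime Nat.prime_two).2 B.setup.q_ne_two)),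
        mem_bot, commutatorElement_eq_one_iff_mul_comm] at h1
      exact h1
    have hy'U : (⟨y', hYf hy'Y⟩ : L) ∈ U :=
      CfsgLib.Solvable.centralizer_pCore_le 2 hOL (hle (mem_subgroupOf.2 hy'Y))
    obtain ⟨m, hm⟩ := IsPGroup.iff_orderOf.1 hT₀ ⟨y', hUT _ hy'U⟩
    rw [orderOf_mk, hy'o] at hm
    exact B.setup.q_ne_two ((Nat.prime_dvd_prime_iff_eq B.setup.prime Nat.prime_two).1
      (B.setup.prime.dvd_of_dvd_pow (dvd_of_eq hm)))
  -- Glauberman's factorisation
  have hfree : ¬ Cfsg.Involves (Equiv.Perm (Fin 4)) H := not_involves_four hH3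
  have hfac := (Cfsg.Agent.S2753.result (CfsgLib.Solvable.centralizer_pCore_le 2 hO) hfree
    (compositionK_of_solvable _) S₀).1
  set Z := (S₀ : Subgroup H) ⊓ centralizer ((S₀ : Subgroup H) : Set H) with hZdef
  set C := centralizer (Z : Set H) with hCdef
  set J := Cfsg.thompsonSubgroupOf 2 T₀ with hJdef
  have hJmap : (Cfsg.thompsonSubgroupOf 2 (S₀ : Subgroup H)).map H.subtype = J := by
    rw [CfsgLib.PLocal.SFourW.thompsonOf_map_of_injective H.subtype_injective, hS₀e]
  have hT₀1 : T₀ ≠ ⊥ := by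
    intro e
    obtain ⟨z, hz, hzo⟩ := two_dvd_of_ne_bot hE₀ hE₀1
    have h2 := hbig H (zpowers z) hH (zpowers_le.2 (hE₀H hz))
      (hE₀.to_le (zpowers_le.2 hz))
    rw [e, card_bot, Nat.card_zpowers, hzo] at h2
    norm_num at h2
  have hJ1 : J ≠ ⊥ := by
    intro e
    refine CfsgLib.PLocal.thompson_ne_bot (p := 2) (G := T₀) ?_
      ((Subgroup.map_eq_bot_iff_of_injective _ T₀.subtype_injective).1 e)
    haveI := (nontrivial_iff_ne_bot T₀).2 hT₀1
    obtain ⟨m, hm, hc⟩ := hT₀.nontrivial_iff_card.1 inferInstance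
    exact hc ▸ dvd_pow_self 2 hm.ne'
  by_cases hCq : q ∣ Nat.card C
  · -- the centraliser of a central involution is larger
    obtain ⟨z, hz⟩ := exists_prime_orderOf_dvd_card' (G := C) q hCq
    set Z' := T₀ ⊓ centralizer (T₀ : Set G) with hZ'
    have hT'Z : T' ≤ normalizer (Z' : Set G) := fun x hx => normalizer_inf (hT'n hx) (by
      refine mem_normalizer_of_conj_mem fun w hw => mem_centralizer_iff.2 fun p hp => ?_
      have hp' : x⁻¹ * p * x ∈ T₀ := by simpa using conj_mem (inv_mem (hT'n hx)) hp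
      calc p * (x * w * x⁻¹) = x * (x⁻¹ * p * x * w) * x⁻¹ := by group
        _ = x * (w * (x⁻¹ * p * x)) * x⁻¹ := by rw [mem_centralizer_iff.1 hw _ hp']
        _ = x * w * x⁻¹ * p := by group)
    have hZ'1 : Z' ≠ ⊥ := CfsgLib.Amalgam.inf_centralizer_ne_bot (p := 2) hT₀ hT₀ hT₀1
      Subgroup.le_normalizer
    obtain ⟨e, ⟨heZ, heT⟩, he1⟩ := (Z' ⊓ centralizer (T' : Set G)).bot_or_exists_ne_one.resolve_left
      (CfsgLib.Amalgam.inf_centralizer_ne_bot (p := 2) hT'2 (hT₀.to_le inf_le_left) hZ'1 hT'Z)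
    obtain ⟨f, hf, hfo⟩ := two_dvd_of_ne_bot (hT₀.to_le (zpowers_le.2 heZ.1)) (zpowers_ne_bot.2 he1)
    obtain ⟨n, rfl⟩ := mem_zpowers_iff.1 hf
    have hzo : orderOf ((z : H) : G) = q := by rw [orderOf_coe, orderOf_coe, hz]
    have hze : Commute ((z : H) : G) e := by
      have hem : (⟨e, hT₀H heZ.1⟩ : H) ∈ Z := ⟨hS₀s.ge (mem_subgroupOf.2 heZ.1),
        mem_centralizer_iff.2 fun w hw => Subtype.ext
          (mem_centralizer_iff.1 heZ.2 w (mem_subgroupOf.1 (hS₀s.le hw)))⟩
      exact congrArg Subtype.val (mem_centralizer_iff.1 z.2 _ hem).symm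
    refine absurd (hbig _ T' (B.pairish_centralizer hfo hzo (hze.zpow_right n)) (fun x hx => ?_) hT'2)
      (not_le.2 hTc)
    exact mem_centralizer_singleton_iff.2
      ((show Commute x e from mem_centralizer_iff.1 heT x hx).zpow_right n).eq
  -- otherwise `H` normalises `J`
  have hC2 : C = (S₀ : Subgroup H) := by
    refine le_antisymm ?_ fun w hw => mem_centralizer_iff.2 fun x hx =>
      (mem_centralizer_iff.1 hx.2 w hw).symm
    have hC3 : ¬ 3 ∣ Nat.card (C.map H.subtype) := by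
      rw [card_map_of_injective H.subtype_injective]
      exact fun h => hH3 (h.trans (card_subgroup_dvd_card C))
    have h2 : IsPGroup 2 (C.map H.subtype) := B.setup.isPGroup_two hC3
      (by rwa [card_map_of_injective H.subtype_injective])
    have h3 : IsPGroup 2 C :=
      h2.of_equiv (equivMapOfInjective C _ H.subtype_injective).symm
    exact (S₀.3 h3 fun w hw => mem_centralizer_iff.2 fun x hx =>
      (mem_centralizer_iff.1 hx.2 w hw).symm).le
  set L := normalizer (J : Set G) with hLdef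
  have hT₀L : T₀ ≤ L :=
    Subgroup.le_normalizer.trans (CfsgLib.PLocal.normalizer_le_normalizer_thompsonOf T₀)
  have hHL : H ≤ L := by
    intro x hx
    obtain ⟨c, hc, n, hn, e⟩ := hfac ⟨x, hx⟩
    have e' : x = (c : G) * (n : G) := congrArg Subtype.val e
    rw [e']
    refine mul_mem (hT₀L ?_) ?_
    · exact mem_subgroupOf.1 (hS₀s.le (hC2.le hc))
    · refine mem_normalizer_of_conj_mem fun j hj => ?_
      rw [← hJmap] at hj ⊢
      obtain ⟨w, hw, rfl⟩ := hj
      exact ⟨n * w * n⁻¹, conj_mem hn hw, rfl⟩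
  have hJ2 : IsPGroup 2 J := hT₀.to_le (CfsgLib.PLocal.thompsonOf_le _)
  have hT'L : T' ≤ L := hT'n.trans (CfsgLib.PLocal.normalizer_le_normalizer_thompsonOf T₀)
  by_cases hL3 : 3 ∣ Nat.card L
  swap
  · exact absurd (hbig L T' ⟨hL3, ⟨J, Subgroup.le_normalizer, le_rfl, hJ2, hJ1⟩,
      y, hHL hy, u, hHL hu, hyo, huo, hyu⟩ hT'L hT'2) (not_le.2 hTc)
  obtain ⟨⟨k', hk'L⟩, hk'⟩ := exists_prime_orderOf_dvd_card' (G := L) 3 hL3
  rw [orderOf_mk] at hk'
  rcases local_cases B.setup hJ1 (not_three_dvd_two hJ2) Subgroup.le_normalizer le_rfl hk' hk'L with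
    ⟨K, hK⟩ | hA
  · have hyK : y ∈ K := hK.mem_of_orderOf (hHL hy) (by
      rw [hyo, show (6 : ℕ) = 2 * 3 by norm_num]
      exact Nat.Coprime.mul_right ((Nat.coprime_primes B.setup.prime Nat.prime_two).2 B.setup.q_ne_two)
        ((Nat.coprime_primes B.setup.prime Nat.prime_three).2 B.setup.q_ne_three))
    have hJK : J ≤ K :=
      hK.inv_le B.setup hk' hk'L Subgroup.le_normalizer (not_three_dvd_two hJ2) hk'L
    refine mixed B.setup B.large hk' hJ2 hk'L hJ1 (mem_centralizer_iff.2 fun x hx => ?_) hyo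
    refine (hK.commute_of_coprime (hJK hx) hyK ?_).eq
    obtain ⟨n, hn⟩ := IsPGroup.iff_orderOf.1 hJ2 ⟨x, hx⟩
    rw [orderOf_mk] at hn
    rw [hn, hyo]
    exact Nat.Coprime.pow_left n
      ((Nat.coprime_primes Nat.prime_two B.setup.prime).2 (Ne.symm B.setup.q_ne_two))
  · exact Alt.false_of_commute hA B.setup hk' hk'L (hHL hy) (hHL hu) hyo huo hyu

end Big

end CfsgLib.InvChar.SecNineOpen
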