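import Cfsg.Agent.Lib.InvChar.SecNineOpen.Setting

/-!
# Self-centralising Sylow three-subgroups of order nine

A cyclic one gives three classes; with one class the normaliser has an element of order four.
-/

set_option autoImplicit false
set_option linter.unusedSectionVars false
set_option linter.style.haveILetI false

namespace CfsgLib.InvChar.SecNineOpen

open Subgroup

universe u

variable {G : Type u} [Group G] [Finite G]

theorem three_classes {R : Subgroup G} {r : G} (hr : r ∈ R) (ho : orderOf r = 9)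
    (hR : ∀ k ∈ R, k ≠ 1 → centralizer ({k} : Set G) = R) (hab : ∀ x ∈ R, ∀ y ∈ R, Commute x y) :
    3 ≤ Nat.card {C : ConjClasses G // ∃ g ∈ C.carrier, g ≠ 1 ∧ orderOf g ∣ 9} := by
  classical
  have hr4 : orderOf (r ^ 4) = 9 := by rw [orderOf_pow, ho]; norm_num
  have hr3 : orderOf (r ^ 3) = 3 := by rw [orderOf_pow, ho]; norm_num
  have mk : ∀ g : G, g ≠ 1 → orderOf g ∣ 9 →
      ∃ g' ∈ (ConjClasses.mk g).carrier, g' ≠ 1 ∧ orderOf g' ∣ 9 :=
    fun g h1 h2 => ⟨g, ConjClasses.mem_carrier_mk, h1, h2⟩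
  have ne : ∀ g : G, 1 < orderOf g → g ≠ 1 := fun g h e => by
    rw [e, orderOf_one] at h; omega
  let f : Fin 3 → {C : ConjClasses G // ∃ g ∈ C.carrier, g ≠ 1 ∧ orderOf g ∣ 9} :=
    ![⟨_, mk r (ne r (by omega)) ho.dvd⟩, ⟨_, mk (r ^ 4) (ne _ (by omega)) hr4.dvd⟩,
      ⟨_, mk (r ^ 3) (ne _ (by omega)) (by rw [hr3]; norm_num)⟩]
  have hord : ∀ x y : G, ConjClasses.mk x = ConjClasses.mk y → orderOf x = orderOf y := fun x y e => by
    obtain ⟨g, hg⟩ := isConj_iff.1 (ConjClasses.mk_eq_mk_iff_isConj.1 e)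
    rw [← hg]
    exact (orderOf_injective (MulAut.conj g).toMonoidHom (MulAut.conj g).injective x).symm
  have h14 : ConjClasses.mk r ≠ ConjClasses.mk (r ^ 4) := by
    intro e
    obtain ⟨g, hg⟩ := isConj_iff.1 (ConjClasses.mk_eq_mk_iff_isConj.1 e)
    have h12 : g * r ^ 3 * g⁻¹ = r ^ 3 := by
      rw [← conj_pow, hg, ← pow_mul, ← pow_mod_orderOf, ho]
    have hgR : g ∈ R := by
      rw [← hR _ (pow_mem hr 3) (ne _ (by omega)), mem_centralizer_singleton_iff]
      exact mul_inv_eq_iff_eq_mul.1 h12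
    rw [(hab g hgR r hr).eq, mul_inv_cancel_right] at hg
    have h3 : r ^ 3 = 1 := by
      have h4 : r * r ^ 3 = r * 1 := by rw [← pow_succ', mul_one]; exact hg.symm
      exact mul_left_cancel h4
    rw [h3, orderOf_one] at hr3
    norm_num at hr3
  have hinj : Function.Injective f := by
    intro i j e
    have e' : (f i).1 = (f j).1 := congrArg Subtype.val e
    fin_cases i <;> fin_cases j <;> first
      | rfl
      | exact absurd e' h14
      | exact absurd e'.symm h14
      | (have := hord _ _ e'; omega)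
  exact (Nat.card_fin 3).symm.le.trans (Nat.card_le_card_of_injective f hinj)

/-- With one class of elements of order three there is an element of order four. -/
theorem exists_order_four {R : Subgroup G} (h9 : Nat.card R = 9) (h3 : ∀ x ∈ R, x ^ 3 = 1)
    (hab : ∀ x ∈ R, ∀ y ∈ R, Commute x y)
    (hR : ∀ k ∈ R, k ≠ 1 → centralizer ({k} : Set G) = R)
    (hone : ∀ a b : G, orderOf a = 3 → orderOf b = 3 → ∃ g : G, g * a * g⁻¹ = b) :
    ∃ x : G, orderOf x = 4 := by
  classical
  haveI := Fact.mk Nat.prime_two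
  haveI := Fact.mk Nat.prime_three
  set N := normalizer (R : Set G) with hN
  have ord3 : ∀ x ∈ R, x ≠ 1 → orderOf x = 3 := fun x hx h1 =>
    orderOf_eq_prime (h3 x hx) h1
  obtain ⟨k, hk, hk1⟩ := R.bot_or_exists_ne_one.resolve_left fun e => by
    rw [e, card_bot] at h9; norm_num at h9
  let φ : N → {x : R // x ≠ 1} := fun n => ⟨⟨n * k * (n : G)⁻¹, (mem_normalizer_iff.1 n.2 k).1 hk⟩,
    fun e => hk1 (conj_eq_one_iff.1 (congrArg Subtype.val e))⟩
  have hmem : ∀ a b : G, a ∈ R → a ≠ 1 → b ∈ R → b ≠ 1 → ∀ g, g * a * g⁻¹ = b → g ∈ N := by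
    intro a b ha ha1 hb hb1 g hg
    have : R.map (MulAut.conj g).toMonoidHom ≤ R := by
      rintro _ ⟨x, hx, rfl⟩
      rw [← hR b hb hb1, mem_centralizer_singleton_iff, ← hg]
      exact ((hab x hx a ha).map (MulAut.conj g).toMonoidHom).eq
    exact mem_normalizer_of_conj_mem fun x hx => this (mem_map_of_mem _ hx)
  set R' := R.subgroupOf N with hR'
  let ψ : N ⧸ R' → {x : R // x ≠ 1} := fun c => φ c.out
  have hψ : Function.Bijective ψ := by
    refine ⟨fun a b e => ?_, fun x => ?_⟩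
    · have e' : (a.out : G) * k * (a.out : G)⁻¹ = (b.out : G) * k * (b.out : G)⁻¹ :=
        congrArg (fun x : {x : R // x ≠ 1} => ((x : R) : G)) e
      rw [← QuotientGroup.out_eq' a, ← QuotientGroup.out_eq' b, QuotientGroup.eq]
      show (↑(a.out⁻¹ * b.out) : G) ∈ R
      rw [← hR k hk hk1, mem_centralizer_singleton_iff]
      calc (↑(a.out⁻¹ * b.out) : G) * k = (a.out : G)⁻¹ * ((b.out : G) * k * (b.out : G)⁻¹) * b.out := by
            push_cast; group
        _ = k * ↑(a.out⁻¹ * b.out) := by rw [← e']; push_cast; group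
    · obtain ⟨g, hg⟩ := hone k (x : R) (ord3 k hk hk1)
        (ord3 _ x.1.2 fun e => x.2 (Subtype.ext e))
      have hgN := hmem k _ hk hk1 x.1.2 (fun e => x.2 (Subtype.ext e)) g hg
      refine ⟨QuotientGroup.mk (⟨g, hgN⟩ : N), Subtype.ext (Subtype.ext ?_)⟩
      show ((QuotientGroup.mk (⟨g, hgN⟩ : N) : N ⧸ R').out : G) * k * _⁻¹ = _
      obtain ⟨r, hr⟩ := QuotientGroup.mk_out_eq_mul R' (⟨g, hgN⟩ : N)
      rw [hr, ← hg]
      push_cast
      have : Commute ((r : N) : G) k := hab _ (mem_subgroupOf.1 r.2) k hk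
      calc g * ((r : N) : G) * k * (g * ((r : N) : G))⁻¹ =
            g * (((r : N) : G) * k * ((r : N) : G)⁻¹) * g⁻¹ := by group
        _ = g * k * g⁻¹ := by rw [this.eq, mul_inv_cancel_right]
  have h8 : Nat.card (N ⧸ R') = 8 := by
    rw [Nat.card_congr (Equiv.ofBijective ψ hψ)]
    haveI := Fintype.ofFinite R
    rw [Nat.card_eq_fintype_card, Fintype.card_subtype_compl, Fintype.card_subtype_eq,
      ← Nat.card_eq_fintype_card, h9]
  have h72 : 8 ∣ Nat.card N := h8 ▸ card_quotient_dvd_card R'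
  obtain ⟨Q, hQ⟩ := Sylow.exists_subgroup_card_pow_prime (G := N) 2 (n := 3) h72
  have hinvol : ∀ a ∈ Q, a * a = 1 → a ≠ 1 → ∀ x ∈ R, (a : G) * x * (a : G)⁻¹ = x⁻¹ := by
    intro a haQ ha ha1 x hx
    have hxa := (mem_normalizer_iff.1 a.2 x).1 hx
    have haR : (a : G) ∉ R := fun h => ha1 (Subtype.ext (by
      have h2 := congrArg Subtype.val ha
      have h6 := h3 _ h
      push_cast at h2
      rw [pow_succ, pow_two, h2, one_mul] at h6
      exact h6))
    by_contra hne
    set n := x * ((a : G) * x * (a : G)⁻¹) with hn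
    have hnR : n ∈ R := mul_mem hx hxa
    have hn1 : n ≠ 1 := fun e => hne (inv_eq_of_mul_eq_one_right e).symm
    refine haR ?_
    rw [← hR n hnR hn1, mem_centralizer_singleton_iff]
    have h2 : (a : G) * (a : G) = 1 := congrArg Subtype.val ha
    refine mul_inv_eq_iff_eq_mul.1 ?_
    calc (a : G) * n * (a : G)⁻¹
        = ((a : G) * x * (a : G)⁻¹) * ((a * a : G) * x * (a * a : G)⁻¹) := by rw [hn]; group
      _ = n := by rw [h2, one_mul, inv_one, mul_one]; exact (hab _ hxa _ hx).eq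
  have huniq : ∀ a ∈ Q, ∀ b ∈ Q, a * a = 1 → b * b = 1 → a ≠ 1 → b ≠ 1 → a = b := by
    intro a haQ b hbQ ha hb ha1 hb1
    have hc : ((a * b : N) : G) ∈ R := by
      rw [← hR k hk hk1, mem_centralizer_singleton_iff]
      refine mul_inv_eq_iff_eq_mul.1 ?_
      push_cast
      calc (a : G) * b * k * ((a : G) * b)⁻¹ = (a : G) * ((b : G) * k * (b : G)⁻¹) * (a : G)⁻¹ := by group
        _ = k := by rw [hinvol b hbQ hb hb1 k hk, hinvol a haQ ha ha1 k⁻¹ (inv_mem hk), inv_inv]
    have hab1 : a * b = 1 := by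
      rw [← orderOf_eq_one_iff, ← orderOf_coe]
      refine Nat.eq_one_of_dvd_coprimes (by norm_num : Nat.Coprime 8 3) ?_
        (orderOf_dvd_of_pow_eq_one (h3 _ hc))
      rw [orderOf_coe, show (8 : ℕ) = 2 ^ 3 by norm_num, ← hQ, ← orderOf_mk (a * b) (mul_mem haQ hbQ)]
      exact orderOf_dvd_natCard _
    rw [eq_inv_of_mul_eq_one_left hab1, inv_eq_of_mul_eq_one_right hb]
  haveI := Fintype.ofFinite Q
  obtain ⟨x, hx⟩ : ∃ x : Q, x * x ≠ 1 := by
    by_contra hcon
    push Not at hcon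
    obtain ⟨a, b, c, hab', hac, hbc⟩ := Fintype.two_lt_card_iff.1
      (show 2 < Fintype.card Q by rw [← Nat.card_eq_fintype_card, hQ]; norm_num)
    have key : ∀ a b : Q, a ≠ 1 → b ≠ 1 → a = b := fun a b ha hb => Subtype.ext
      (huniq a a.2 b b.2 (congrArg Subtype.val (hcon a)) (congrArg Subtype.val (hcon b))
        (fun e => ha (Subtype.ext e)) fun e => hb (Subtype.ext e))
    by_cases ha : a = 1
    · exact hbc (key b c (fun e => hab' (ha.trans e.symm)) fun e => hac (ha.trans e.symm))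
    · by_cases hb : b = 1
      · exact hac (key a c ha fun e => hbc (hb.trans e.symm))
      · exact hab' (key a b ha hb)
  have hd : orderOf x ∣ 2 ^ 3 := hQ ▸ orderOf_dvd_natCard x
  obtain ⟨i, hi, he⟩ := (Nat.dvd_prime_pow Nat.prime_two).1 hd
  have h2 : ¬ orderOf x ∣ 2 := fun h => hx (by
    rw [← pow_two]; exact orderOf_dvd_iff_pow_eq_one.1 h)
  rcases i with _ | _ | _ | _ | i
  · exact absurd (he ▸ by norm_num) h2
  · exact absurd (he ▸ dvd_refl _) h2
  · exact ⟨((x : N) : G), by rw [orderOf_coe, orderOf_coe, he]; norm_num⟩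
  · refine ⟨((x : N) : G) ^ 2, ?_⟩
    rw [orderOf_pow, orderOf_coe, orderOf_coe, he]; norm_num
  · omega

end CfsgLib.InvChar.SecNineOpen
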