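import Cfsg.Agent.S1001
import Cfsg.Agent.S2219
import Cfsg.Agent.S3341
import Cfsg.Agent.Lib.InvChar.SecNineOpen.Reduce
import Cfsg.Agent.Lib.InvChar.SecNineOpen.Locals
import Cfsg.Agent.Lib.InvChar.SecNineOpen.CaseOne
import Cfsg.Agent.Lib.InvChar.SecNineOpen.Four
import Cfsg.Agent.Lib.InvChar.SecNineOpen.Finish

/-!
# Simple groups of order `9 · 2ᵃ · qᵇ` with strongly self-centralising Sylow three-subgroups
-/

set_option autoImplicit false
set_option linter.unusedSectionVars false
set_option linter.style.haveILetI false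

namespace CfsgLib.InvChar.SecNineOpen

open Subgroup

universe u

variable {G : Type u} [Group G] [Finite G]

/-- No such group has `b ≥ 2` and an element of order four. -/
theorem not_two_le {q : ℕ} (S : Setup G q) (h4 : ∃ x : G, orderOf x = 4) : False := by
  by_cases hsmall : ∃ k : G, orderOf k = 3 ∧ ∃ P, MaxTwo k P ∧ Nat.card P ≤ 4
  · obtain ⟨k, hk, P, hP, hP4⟩ := hsmall
    exact false_of_centralizers_two S (case_four S hk hP hP4)
  push Not at hsmall
  by_cases hex : ∃ k : G, orderOf k = 3 ∧ ∃ P, MaxTwo k P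
  · obtain ⟨k, hk, P, hP⟩ := hex
    obtain ⟨T, B⟩ := exists_big S hsmall hk hP
    exact false_of_centralizers_two S fun t ht => B.centralizer_two ht
  refine case_one S h4 fun k hk X hX hkX => by_contra fun hX1 => hex ?_
  obtain ⟨P, hP, -⟩ := exists_maxTwo hX hkX hX1
  exact ⟨k, hk, P, hP⟩

/-- **The classification.** -/
theorem classify [IsSimpleGroup G] (hG : ¬ IsMulCommutative G)
    (q a b : ℕ) (hq : q.Prime) (hq2 : q ≠ 2) (hq3 : q ≠ 3) (hcard : Nat.card G = 9 * 2 ^ a * q ^ b)
    (R : Sylow 3 G) (hR : ∀ k ∈ (R : Subgroup G), k ≠ 1 → centralizer ({k} : Set G) = R) :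
    Nonempty (G ≃* ↥(alternatingGroup (Fin 6))) ∨
      (∃ (F : Type) (_ : Field F) (_ : Fintype F), Fintype.card F = 8 ∧
        Nonempty (G ≃* Matrix.ProjectiveSpecialLinearGroup (Fin 2) F)) ∨
      Nonempty (G ≃* Matrix.ProjectiveSpecialLinearGroup (Fin 2) (ZMod 17)) := by
  classical
  haveI := Fact.mk Nat.prime_three
  have h5 : 5 ≤ q := by
    have := hq.two_le
    rcases eq_or_ne q 4 with rfl | h4
    · norm_num at hq
    · omega
  have h3M : ¬ 3 ∣ 2 ^ a * q ^ b := by
    intro h
    rcases (Nat.prime_three.dvd_mul).1 h with h | h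
    · exact absurd (Nat.prime_three.dvd_of_dvd_pow h) (by norm_num)
    · exact hq3 ((Nat.prime_dvd_prime_iff_eq Nat.prime_three hq).1
        (Nat.prime_three.dvd_of_dvd_pow h)).symm
  have hR9 : Nat.card ↥(R : Subgroup G) = 9 := by
    rw [R.card_eq_multiplicity, hcard, mul_assoc, Nat.factorization_mul (by norm_num)
      (show 2 ^ a * q ^ b ≠ 0 from fun e => h3M (by rw [e]; exact dvd_zero 3)), Finsupp.add_apply,
      Nat.factorization_eq_zero_of_not_dvd h3M, show (9 : ℕ) = 3 ^ 2 by norm_num,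
      Nat.factorization_pow, Finsupp.smul_apply, Nat.Prime.factorization_self Nat.prime_three]
    norm_num
  haveI : IsMulCommutative (R : Subgroup G) :=
    IsPGroup.isMulCommutative_of_card_eq_prime_sq (p := 3) (G := ↥(R : Subgroup G))
      (by rw [hR9]; norm_num)
  have hab : ∀ x ∈ (R : Subgroup G), ∀ y ∈ (R : Subgroup G), Commute x y := fun x hx y hy =>
    congrArg Subtype.val (mul_comm' (⟨x, hx⟩ : ↥(R : Subgroup G)) ⟨y, hy⟩)
  have conj3 : ∀ k : G, orderOf k = 3 → ∃ g : G, g * k * g⁻¹ ∈ (R : Subgroup G) := by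
    intro k hk
    obtain ⟨R', hR'⟩ := (IsPGroup.of_card (n := 1) (by rw [Nat.card_zpowers, hk, pow_one]) :
      IsPGroup 3 (zpowers k)).exists_le_sylow
    obtain ⟨g, hg⟩ := MulAction.exists_smul_eq G R' R
    refine ⟨g, ?_⟩
    rw [← hg]
    exact ⟨k, hR' (mem_zpowers k), rfl⟩
  by_cases hexp : ∀ x ∈ (R : Subgroup G), x ^ 3 = 1
  swap
  · push Not at hexp
    obtain ⟨r, hr, hr3⟩ := hexp
    have hd : orderOf r ∣ 3 ^ 2 := by
      rw [← orderOf_mk r hr, show 3 ^ 2 = 9 from rfl, ← hR9]; exact orderOf_dvd_natCard _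
    obtain ⟨i, hi, he⟩ := (Nat.dvd_prime_pow Nat.prime_three).1 hd
    have h9 : orderOf r = 9 := by
      rcases i with _ | _ | _ | i
      · exact absurd (by rw [show r = 1 from orderOf_eq_one_iff.1 (by rw [he]; norm_num), one_pow]) hr3
      · exact absurd (orderOf_dvd_iff_pow_eq_one.1 (by rw [he]; norm_num)) hr3
      · rw [he]; norm_num
      · omega
    exact Or.inr (Cfsg.Agent.S2219.result hG q a b hq hq2 hq3 hcard (three_classes hr h9 hR hab))
  by_cases hone : ∀ x y : G, orderOf x = 3 → orderOf y = 3 → ∃ g : G, g * x * g⁻¹ = y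
  swap
  · push Not at hone
    obtain ⟨x, y, hx, hy, hxy⟩ := hone
    exact Or.inl (Cfsg.Agent.S3341.result R R rfl inferInstance hexp hR9 ⟨x, y, hx, hy, hxy⟩ hR)
  have h4 := exists_order_four hR9 hexp hab hR hone
  have hcent : ∀ k : G, orderOf k = 3 → Nat.card ↥(centralizer ({k} : Set G)) = 9 ∧
      (∀ x ∈ centralizer ({k} : Set G), x ^ 3 = 1) ∧
      ∀ x ∈ centralizer ({k} : Set G), x ≠ 1 →
        centralizer ({x} : Set G) = centralizer ({k} : Set G) := by
    intro k hk
    obtain ⟨g, hg⟩ := conj3 k hk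
    have hk1 : g * k * g⁻¹ ≠ 1 := fun e => by
      rw [conj_eq_one_iff] at e; rw [e, orderOf_one] at hk; norm_num at hk
    have hiff : ∀ x y : G, x ∈ centralizer ({y} : Set G) ↔
        g * x * g⁻¹ ∈ centralizer ({g * y * g⁻¹} : Set G) := by
      intro x y
      rw [mem_centralizer_singleton_iff, mem_centralizer_singleton_iff]
      constructor
      · intro h
        calc g * x * g⁻¹ * (g * y * g⁻¹) = g * (x * y) * g⁻¹ := by group
          _ = g * (y * x) * g⁻¹ := by rw [h]
          _ = g * y * g⁻¹ * (g * x * g⁻¹) := by group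
      · intro h
        calc x * y = g⁻¹ * (g * x * g⁻¹ * (g * y * g⁻¹)) * g := by group
          _ = g⁻¹ * (g * y * g⁻¹ * (g * x * g⁻¹)) * g := by rw [h]
          _ = y * x := by group
    have hmem : ∀ x, x ∈ centralizer ({k} : Set G) ↔ g * x * g⁻¹ ∈ (R : Subgroup G) := fun x => by
      rw [hiff, hR _ hg hk1]
    have e : (centralizer ({k} : Set G)).map (MulAut.conj g).toMonoidHom = R := by
      ext z
      refine ⟨?_, fun hz => ⟨g⁻¹ * z * g, ?_, by simp [mul_assoc]⟩⟩
      · rintro ⟨x, hx, rfl⟩; exact (hmem x).1 hx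
      · refine (hmem _).2 ?_
        rwa [show g * (g⁻¹ * z * g) * g⁻¹ = z by group]
    refine ⟨?_, fun x hx => ?_, fun x hx hx1 => ?_⟩
    · rw [← card_map_of_injective (f := (MulAut.conj g).toMonoidHom) (MulAut.conj g).injective, e,
        hR9]
    · have := hexp _ ((hmem x).1 hx)
      rwa [conj_pow, conj_eq_one_iff] at this
    · ext z
      rw [hiff z x, hR _ ((hmem x).1 hx) (fun h => hx1 (conj_eq_one_iff.1 h)), hmem]
  rcases (by omega : b = 0 ∨ b = 1 ∨ 2 ≤ b) with rfl | rfl | hb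
  · exfalso
    refine hG ⟨⟨fun x y => IsSimpleGroup.comm_iff_isSolvable.2
      (CfsgLib.Char.burnside_pq 2 3 Nat.prime_two Nat.prime_three a 2 G
        (by rw [hcard]; ring)) x y⟩⟩
  · -- the centralisers of involutions are two-groups
    haveI := Fact.mk hq
    refine cit_cases hG hq h5 hcard fun t ht => ?_
    have hS : ∀ y : G, orderOf y = q → ¬ Commute y t := by
      intro y hy hc
      have hC := Cfsg.Agent.S1001.result q 2 a hq (by rw [hcard]; ring) y hy
      have hmem : t ∈ zpowers y := hC ▸ mem_centralizer_singleton_iff.2 hc.eq.symm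
      have h2 := orderOf_dvd_natCard (⟨t, hmem⟩ : zpowers y)
      rw [orderOf_mk, ht, Nat.card_zpowers, hy] at h2
      exact hq2 ((Nat.prime_dvd_prime_iff_eq Nat.prime_two hq).1 h2).symm
    set C := centralizer ({t} : Set G)
    have hd : Nat.card C ∣ 9 * 2 ^ a * q := by
      have := card_subgroup_dvd_card C
      rwa [hcard, pow_one] at this
    have hq' : ¬ q ∣ Nat.card C := fun h => by
      obtain ⟨y, hy⟩ := exists_prime_orderOf_dvd_card' (G := C) q h
      exact hS y (by rw [orderOf_coe, hy]) (mem_centralizer_singleton_iff.1 y.2)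
    have h3C : ¬ 3 ∣ Nat.card C := fun h => by
      obtain ⟨y, hy⟩ := exists_prime_orderOf_dvd_card' (G := C) 3 h
      have h2 := orderOf_dvd_of_pow_eq_one ((hcent (y : G) (by rw [orderOf_coe, hy])).2.1 t
        (mem_centralizer_singleton_iff.2 (mem_centralizer_singleton_iff.1 y.2).symm))
      rw [ht] at h2
      norm_num at h2
    have h9 : (Nat.card C).Coprime 9 :=
      Nat.Coprime.pow_right 2 ((Nat.prime_three.coprime_iff_not_dvd.2 h3C).symm)
    have hd' := ((hq.coprime_iff_not_dvd.2 hq').symm).dvd_of_dvd_mul_right hd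
    obtain ⟨m, -, hm⟩ := (Nat.dvd_prime_pow Nat.prime_two).1 (h9.dvd_of_dvd_mul_left hd')
    exact IsPGroup.of_card hm
  · exact (not_two_le ⟨inferInstance, hG, hq, h5, ⟨a, b, hb, hcard⟩, hcent⟩ h4).elim

end CfsgLib.InvChar.SecNineOpen
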